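import Cfsg.Agent.Lib.Baumann.Fixed

/-!
A subnormal block is a block for every Sylow subgroup, and is normal in `B(G)`.
-/

set_option autoImplicit false
set_option linter.unusedSectionVars false

universe u

namespace CfsgLib.BBlock

open Cfsg
open scoped commutatorElement IsMulCommutative

variable {G : Type u} [Group G] [Finite G] {p : ℕ} [Fact p.Prime] {D : Subgroup G}

local notation:max "Wc" E:max => omegaOneCenter p (pCoreOf p E)
local notation "Xc" => omegaOneCenter p (pCore p G)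

theorem exists_max_in_sylow (T : Sylow p G) :
    ∃ A : Subgroup G, A ≤ (T : Subgroup G) ∧ A ∈ maxElementaryAbelianSubgroups p G := by
  classical
  let S : Set (Subgroup ↥(T : Subgroup G)) := {A | IsElementaryAbelian p A}
  have hS : (⊥ : Subgroup ↥(T : Subgroup G)) ∈ S :=
    ⟨⟨⟨fun a b => Subtype.ext (by
        have := Subgroup.mem_bot.1 a.2
        have := Subgroup.mem_bot.1 b.2
        simp_all)⟩⟩, fun a ha => by rw [Subgroup.mem_bot.1 ha, one_pow]⟩
  obtain ⟨A, hAS, hA⟩ := Set.Finite.exists_maximalFor (fun A : Subgroup ↥(T : Subgroup G) => Nat.card A) S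
    S.toFinite ⟨⊥, hS⟩
  refine ⟨A.map (T : Subgroup G).subtype, Subgroup.map_subtype_le _, PLocal.map_mem_max ⟨hAS, fun B hB => ?_⟩⟩
  rcases le_total (Nat.card B) (Nat.card A) with h | h
  · exact h
  · exact hA hB h

theorem thompson_fixes (hG : Subgroup.centralizer (pCore p G : Set G) ≤ pCore p G) (hD : IsSubBlock p D)
    (T : Sylow p G) : thompsonSubgroupOf p (T : Subgroup G) ≤ Subgroup.normalizer (D : Set G) := by
  rw [thompsonSubgroupOf, Subgroup.map_le_iff_le_comap]
  exact sSup_le fun A hA => Subgroup.map_le_iff_le_comap.1 (maxElem_fixes hG hD (PLocal.map_mem_max hA))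

/-- Distinct conjugates of a block commute. -/
theorem conj_commute (hG : Subgroup.centralizer (pCore p G : Set G) ≤ pCore p G) (hD : IsSubBlock p D) {g : G}
    (hg : g ∉ Subgroup.normalizer (D : Set G)) {d y : G} (hd : d ∈ D) (hy : y ∈ D) :
    d * (g * y * g⁻¹) = (g * y * g⁻¹) * d := by
  rcases eq_or_commute hG hD (hD.conj g) with h | h
  · exact absurd (mem_normalizer_of_map_le fun x hx => h.ge ⟨x, hx, rfl⟩) hg
  · exact commutatorElement_eq_one_iff_mul_comm.1
      (Subgroup.mem_bot.1 (h ▸ Subgroup.commutator_mem_commutator hd ⟨y, hy, rfl⟩))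

theorem baumann_fixes (hG : Subgroup.centralizer (pCore p G : Set G) ≤ pCore p G) (hD : IsSubBlock p D)
    (T : Sylow p G) : baumannSubgroupOf p (T : Subgroup G) ≤ Subgroup.normalizer (D : Set G) := by
  intro b hb
  by_contra hbN
  set J := thompsonSubgroupOf p (T : Subgroup G) with hJ
  have hJp : IsPGroup p J := T.isPGroup'.to_le (Subgroup.map_subtype_le _)
  obtain ⟨K, hKW, hKX, hKC, hKne, -, hKN⟩ := exists_fixable hG hD hJp (thompson_fixes hG hD T)
  have hXR : (Xc : Subgroup G) ≤ pCore p G := omegaOneCenter_le p _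
  obtain ⟨y, hy, hy1, hyfix⟩ := exists_fixed_of_pGroup hJp
    ((CfsgLib.isPGroup_pCore p).to_le (hKX.trans hXR)) hKne hKN
  obtain ⟨A, hAT, hA⟩ := exists_max_in_sylow T
  have hAJ := PLocal.le_thompsonSubgroupOf hAT hA
  have hyA : y ∈ A := by
    have hel : IsElementaryAbelian p (A ⊔ Subgroup.zpowers y) := by
      refine PLocal.isElementaryAbelian_sup hA.1 ⟨inferInstance, fun z hz => ?_⟩ fun a ha z hz => ?_
      · obtain ⟨i, rfl⟩ := Subgroup.mem_zpowers_iff.1 hz
        rw [← zpow_natCast, ← zpow_mul, mul_comm, zpow_mul, zpow_natCast, omegaOneCenter_pow p _ (hKX hy), one_zpow]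
      · obtain ⟨i, rfl⟩ := Subgroup.mem_zpowers_iff.1 hz
        exact ((show Commute a y from mul_inv_eq_iff_eq_mul.1 (hyfix a (hAJ ha))).zpow_right i).eq
    rw [Subgroup.eq_of_le_of_card_ge le_sup_left (hA.2 _ hel)]
    exact Subgroup.mem_sup_right (Subgroup.mem_zpowers y)
  have hyΩ : y ∈ omegaOne p (centerThompsonOf p (T : Subgroup G)) :=
    Subgroup.subset_closure ⟨⟨hAJ hyA, Subgroup.mem_centralizer_iff.2 fun j hj =>
      mul_inv_eq_iff_eq_mul.1 (hyfix j hj)⟩, omegaOneCenter_pow p _ (hKX hy)⟩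
  have hby : b * y * b⁻¹ = y := by
    rw [← Subgroup.mem_centralizer_iff.1 hb.2 y hyΩ, mul_inv_cancel_right]
  have hmem : y ∈ K ⊓ Subgroup.centralizer (D : Set G) := ⟨hy, Subgroup.mem_centralizer_iff.2 fun d hd => by
    have h := conj_commute hG hD hbN hd (Subgroup.map_subtype_le _ (omegaOneCenter_le p _ (hKW hy)))
    rwa [hby] at h⟩
  rw [hKC, Subgroup.mem_bot] at hmem
  exact hy1 hmem

/-- Every `Ω₁Z(T)` moves every subnormal block. -/
theorem omega_moves (hG : Subgroup.centralizer (pCore p G : Set G) ≤ pCore p G) (hD : IsSubBlock p D)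
    (T : Sylow p G) : ⁅D, omegaOneCenter p (T : Subgroup G)⁆ ≠ ⊥ := by
  classical
  intro hbot
  set P := (T : Subgroup G) ⊓ Subgroup.normalizer (D : Set G) with hPdef
  have hPp : IsPGroup p P := T.isPGroup'.to_le inf_le_left
  obtain ⟨K, hKW, hKX, hKC, hKne, -, hKN⟩ := exists_fixable hG hD hPp inf_le_right
  have hXR : (omegaOneCenter p (pCore p G) : Subgroup G) ≤ pCore p G := omegaOneCenter_le p _
  obtain ⟨c, hc, hc1, hcfix⟩ := exists_fixed_of_pGroup hPp
    ((CfsgLib.isPGroup_pCore p).to_le (hKX.trans hXR)) hKne hKN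
  haveI hXc : IsMulCommutative ↥(omegaOneCenter p (pCore p G)) :=
    ⟨⟨fun a b => Subtype.ext (omegaOneCenter_comm p _ b.2 (hXR a.2))⟩⟩
  let Q := ↥(T : Subgroup G) ⧸ P.subgroupOf (T : Subgroup G)
  haveI : Fintype Q := Fintype.ofFinite Q
  let rep : Q → G := fun q => (q.out : ↥(T : Subgroup G))
  let term : Q → ↥(omegaOneCenter p (pCore p G)) := fun q =>
    ⟨rep q * c * (rep q)⁻¹, omega_core_normal.conj_mem _ (hKX hc) _⟩
  set z := ∏ q, term q with hz
  have hzfix : ∀ t ∈ (T : Subgroup G), t * (z : G) * t⁻¹ = z := by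
    intro t ht
    let cj : ↥(omegaOneCenter p (pCore p G)) →* ↥(omegaOneCenter p (pCore p G)) :=
      { toFun := fun x => ⟨t * x * t⁻¹, omega_core_normal.conj_mem _ x.2 t⟩
        map_one' := Subtype.ext (by simp)
        map_mul' := fun x y => Subtype.ext (by simp [mul_assoc]) }
    show ((cj (∏ q, term q) : ↥(omegaOneCenter p (pCore p G))) : G) = _
    rw [hz]
    refine congrArg Subtype.val ?_
    rw [map_prod]
    refine Fintype.prod_equiv (MulAction.toPerm (⟨t, ht⟩ : ↥(T : Subgroup G))) _ _ fun q => Subtype.ext ?_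
    show t * (rep q * c * (rep q)⁻¹) * t⁻¹ =
      rep ((⟨t, ht⟩ : ↥(T : Subgroup G)) • q) * c * (rep ((⟨t, ht⟩ : ↥(T : Subgroup G)) • q))⁻¹
    set q' := (⟨t, ht⟩ : ↥(T : Subgroup G)) • q with hq'
    have h1 : (q'.out)⁻¹ * (⟨t, ht⟩ * q.out) ∈ P.subgroupOf (T : Subgroup G) := by
      rw [← QuotientGroup.eq, QuotientGroup.out_eq', hq']
      conv_lhs => rw [← QuotientGroup.out_eq' q]
      rfl
    have h2 : ((rep q')⁻¹ * (t * rep q)) * c * ((rep q')⁻¹ * (t * rep q))⁻¹ = c := hcfix _ h1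
    calc t * (rep q * c * (rep q)⁻¹) * t⁻¹
        = rep q' * (((rep q')⁻¹ * (t * rep q)) * c * ((rep q')⁻¹ * (t * rep q))⁻¹) * (rep q')⁻¹ := by group
      _ = _ := by rw [h2]
  have hzT : (z : G) ∈ omegaOneCenter p (T : Subgroup G) :=
    Subgroup.subset_closure ⟨⟨CfsgLib.pCore_le_sylow T (hXR z.2), Subgroup.mem_centralizer_iff.2 fun t ht =>
      mul_inv_eq_iff_eq_mul.1 (hzfix t ht)⟩, omegaOneCenter_pow p _ z.2⟩
  have hzD : (z : G) ∈ Subgroup.centralizer (D : Set G) := Subgroup.mem_centralizer_iff.2 fun d hd =>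
    commutatorElement_eq_one_iff_mul_comm.1 (Subgroup.mem_bot.1 (hbot ▸ Subgroup.commutator_mem_commutator hd hzT))
  let q0 : Q := ((1 : ↥(T : Subgroup G)) : Q)
  have hrest : ((∏ q ∈ Finset.univ.erase q0, term q : ↥(omegaOneCenter p (pCore p G))) : G) ∈
      Subgroup.centralizer (D : Set G) :=
    Finset.prod_induction _ (fun z : ↥(omegaOneCenter p (pCore p G)) => (z : G) ∈ Subgroup.centralizer (D : Set G))
      (fun z w hz hw => mul_mem hz hw) (one_mem _) fun q hq => Subgroup.mem_centralizer_iff.2 fun d hd => by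
        refine conj_commute hG hD ?_ hd (Subgroup.map_subtype_le _ (omegaOneCenter_le p _ (hKW hc)))
        intro hN
        refine Finset.ne_of_mem_erase hq ?_
        rw [← QuotientGroup.out_eq' q]
        refine QuotientGroup.eq.2 ?_
        rw [mul_one]
        exact inv_mem (Subgroup.mem_subgroupOf.2 ⟨q.out.2, hN⟩)
  have h0 : (term q0 : G) ∈ Subgroup.centralizer (D : Set G) := by
    have : term q0 = z * (∏ q ∈ Finset.univ.erase q0, term q)⁻¹ := by
      rw [eq_mul_inv_iff_mul_eq, Finset.mul_prod_erase _ _ (Finset.mem_univ q0)]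
    rw [this]
    exact mul_mem hzD (inv_mem hrest)
  have hrep : q0.out ∈ P.subgroupOf (T : Subgroup G) := by
    have h := (QuotientGroup.eq).1 (QuotientGroup.out_eq' q0)
    rw [mul_one] at h
    simpa using inv_mem h
  have hterm : (term q0 : G) = c := hcfix _ hrep
  have hmem : c ∈ K ⊓ Subgroup.centralizer (D : Set G) := ⟨hc, hterm ▸ h0⟩
  rw [hKC, Subgroup.mem_bot] at hmem
  exact hc1 hmem

theorem baumannSubgroup_normal : (baumannSubgroup p G).Normal := by
  refine ⟨fun x hx g => ?_⟩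
  have hle : (baumannSubgroup p G).map (MulAut.conj g).toMonoidHom ≤ baumannSubgroup p G := by
    rw [baumannSubgroup, Subgroup.map_iSup]
    refine iSup_le fun T => le_iSup_of_le (g • T) ?_
    rw [← baumannSubgroupOf_map_aut (MulAut.conj g).toMonoidHom (MulAut.conj g).bijective]
    exact le_rfl
  exact hle ⟨x, hx, rfl⟩

theorem baumannSubgroup_fixes (hG : Subgroup.centralizer (pCore p G : Set G) ≤ pCore p G)
    (hD : IsSubBlock p D) : baumannSubgroup p G ≤ Subgroup.normalizer (D : Set G) :=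
  iSup_le fun T => baumann_fixes hG hD T

theorem le_baumannSubgroup {T : Sylow p G} (hT : IsBaumannBlock p (T : Subgroup G) D) : D ≤ baumannSubgroup p G := by
  haveI : (⨆ T : Sylow p G, baumannSubgroupOf p (T : Subgroup G)).Normal := baumannSubgroup_normal (G := G) (p := p)
  rw [← hT.2.1]
  exact (Subgroup.commutator_mono le_rfl (le_iSup (fun T : Sylow p G => baumannSubgroupOf p (T : Subgroup G)) T)).trans
    (Subgroup.commutator_le_right _ _)

theorem block_of_baumann_eq {T T' : Subgroup G} (h : baumannSubgroupOf p T = baumannSubgroupOf p T')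
    (hT : IsBaumannBlock p T D) (hne : ⁅D, omegaOneCenter p T'⁆ ≠ ⊥) : IsBaumannBlock p T' D := by
  obtain ⟨h1, h2, h3, -, h5⟩ := hT
  exact ⟨h1, h ▸ h2, h3, hne, h ▸ h5⟩

/-- A subnormal block is a block for every Sylow subgroup. -/
theorem block_all (hG : Subgroup.centralizer (pCore p G : Set G) ≤ pCore p G) (hD : IsSubBlock p D)
    (T : Sylow p G) : IsBaumannBlock p (T : Subgroup G) D := by
  obtain ⟨⟨T0, hT0⟩, -⟩ := id hD
  haveI hBn := baumannSubgroup_normal (G := G) (p := p)
  set Bg := baumannSubgroup p G with hBg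
  have hN : Bg ≤ Subgroup.normalizer (D : Set G) := baumannSubgroup_fixes hG hD
  have htop : (⊤ : Subgroup G) ≤ Subgroup.normalizer (Bg : Set G) := (Subgroup.normalizer_eq_top Bg).ge
  have hsyl : ∀ S : Sylow p G, FusionSystem.IsSylowIn p ((S : Subgroup G) ⊓ Bg) Bg := fun S => by
    refine FusionSystem.IsSylowIn.inf_of_normal (B := ⊤) ⟨le_top, S.2, ?_⟩ le_top htop
    rw [Subgroup.relIndex_top_right]; exact S.not_dvd_index
  obtain ⟨k, hk, hkT⟩ := (hsyl T).exists_conj_le (hsyl T0).2.1 inf_le_right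
  set f := (MulAut.conj k).toMonoidHom with hf
  have hT1 := isBaumannBlock_map_aut f (MulAut.conj k).bijective hT0
  have hDk : D.map f = D := by
    refine Subgroup.eq_of_le_of_card_ge ?_ (by rw [hf, Subgroup.card_map_of_injective (MulAut.conj k).injective])
    rintro _ ⟨d, hd, rfl⟩
    exact conj_mem_normalizer (hN hk) hd
  rw [hDk] at hT1
  refine block_of_baumann_eq ?_ hT1 (omega_moves hG hD T)
  have hBle : ∀ S : Sylow p G, baumannSubgroupOf p (S : Subgroup G) ≤ Bg := fun S => le_iSup_of_le S le_rfl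
  have hT1eq : (T0 : Subgroup G).map f = ((k • T0 : Sylow p G) : Subgroup G) := rfl
  rw [hT1eq]
  set T1 := k • T0 with hT1def
  have hcap : (T1 : Subgroup G) ⊓ Bg = (T : Subgroup G) ⊓ Bg := by
    refine Subgroup.eq_of_le_of_card_ge ?_ ((hsyl T1).card_le (hsyl T).2.1 inf_le_right)
    rintro x ⟨hx1, hxB⟩
    rw [hT1def] at hx1
    obtain ⟨y, hy, rfl⟩ := hx1
    refine hkT y ⟨hy, ?_⟩
    have h := hBn.conj_mem _ hxB k⁻¹
    simpa [mul_assoc] using h
  have hJT : ∀ S S' : Sylow p G, (S : Subgroup G) ⊓ Bg = (S' : Subgroup G) ⊓ Bg →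
      thompsonSubgroupOf p (S : Subgroup G) ≤ thompsonSubgroupOf p (S' : Subgroup G) := by
    intro S S' h
    rw [thompsonSubgroupOf, Subgroup.map_le_iff_le_comap]
    refine sSup_le fun A hA => Subgroup.map_le_iff_le_comap.1 ?_
    refine PLocal.le_thompsonSubgroupOf ?_ (PLocal.map_mem_max hA)
    have h1 : A.map (S : Subgroup G).subtype ≤ Bg :=
      (PLocal.le_thompsonSubgroupOf (Subgroup.map_subtype_le _) (PLocal.map_mem_max hA)).trans
        ((thompsonSubgroupOf_le_baumann p _).trans (hBle S))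
    exact (le_inf (Subgroup.map_subtype_le _) h1).trans (h.le.trans inf_le_left)
  have hJeq : thompsonSubgroupOf p (T1 : Subgroup G) = thompsonSubgroupOf p (T : Subgroup G) :=
    le_antisymm (hJT _ _ hcap) (hJT _ _ hcap.symm)
  have hBdef : ∀ S : Sylow p G, baumannSubgroupOf p (S : Subgroup G) =
      ((S : Subgroup G) ⊓ Bg) ⊓ Subgroup.centralizer (omegaOne p (centerThompsonOf p (S : Subgroup G)) : Set G) :=
    fun S => le_antisymm (le_inf (le_inf inf_le_left (hBle S)) inf_le_right) (inf_le_inf inf_le_left le_rfl)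
  rw [hBdef, hBdef, hcap, centerThompsonOf, centerThompsonOf, hJeq]

end CfsgLib.BBlock
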