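import Cfsg.Agent.Lib.Baumann.Sec

/-!
In a block over an alternating group the module `[W, E]` meets the centralizer of `E` trivially.
-/

set_option autoImplicit false
set_option linter.unusedSectionVars false

namespace CfsgLib.BBlock

open Cfsg
open scoped commutatorElement IsMulCommutative

variable {G : Type*} [Group G] [Finite G] {p : ℕ} [Fact p.Prime] {E : Subgroup G}

local notation:max "Qc" E:max => pCoreOf p E
local notation:max "Wc" E:max => omegaOneCenter p (pCoreOf p E)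
local notation:max "Zc" E:max => omegaOneCenter p (pCoreOf p E) ⊓ Subgroup.centralizer (E : Set G)

theorem pow_val_add {M : Type*} [CommMonoid M] {x : M} (hx : x * x = 1) (a b : ZMod 2) :
    x ^ (a + b).val = x ^ a.val * x ^ b.val := by
  rcases zmod2_cases a with rfl | rfl <;> rcases zmod2_cases b with rfl | rfl
  · simp
  · simp
  · simp
  · rw [CharTwo.add_self_eq_zero]; simp [ZMod.val_one, hx]

theorem alt_split {m : ℕ} (hm : 1 ≤ m) (M : AltModel E (Qc E) (Wc E) (Zc E) (2 * m + 1)) (hp : p = 2)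
    (hres : pResidualOf p E = E) : ⁅Wc E, E⁆ ⊓ Subgroup.centralizer (E : Set G) = ⊥ := by
  classical
  set n := 2 * m + 1 with hn
  set W := Wc E with hW
  set Z := Zc E with hZdef
  have hZW : Z ≤ W := inf_le_left
  have hWN : ∀ e ∈ E, ∀ w ∈ W, e * w * e⁻¹ ∈ W := fun e he w hw => conj_mem_normalizer (M.le_nn he).1 hw
  have hZfix : ∀ z ∈ Z, ∀ e ∈ E, e * z * e⁻¹ = z := fun z hz e he => by
    rw [Subgroup.mem_centralizer_iff.1 hz.2 e he, mul_inv_cancel_right]
  haveI : IsMulCommutative ↥W := ⟨⟨fun a b => Subtype.ext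
    (omegaOneCenter_comm p _ b.2 (omegaOneCenter_le p _ a.2))⟩⟩
  have hsq : ∀ w : ↥W, w * w = 1 := fun w => Subtype.ext (by
    have := omegaOneCenter_pow p _ w.2
    rw [hp, pow_two] at this
    exact this)
  let f : Fin n → ↥(evenW n) := fun a => ⟨fun i => 1 - (if a = i then 1 else 0), by
    show ∑ i, (1 - (if a = i then (1 : ZMod 2) else 0)) = 0
    rw [Finset.sum_sub_distrib, Finset.sum_ite_eq, Finset.sum_const, Finset.card_univ, Fintype.card_fin,
      if_pos (Finset.mem_univ _), hn]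
    simp [show (2 : ZMod 2) = 0 from rfl]⟩
  have hf : ∀ (e : ↥E) (a : Fin n), M.toSec.ind (e : G) (f a) = f (M.ρ e a) := fun e a => by
    refine Subtype.ext (funext fun i => ?_)
    rw [M.ind_eq]
    show 1 - (if a = (M.ρ e)⁻¹ i then (1 : ZMod 2) else 0) = 1 - (if M.ρ e a = i then 1 else 0)
    by_cases h : M.ρ e a = i
    · rw [if_pos h, if_pos (by rw [← h]; simp)]
    · rw [if_neg h, if_neg (fun h' => h (by rw [h']; simp))]
  let o : Fin n := ⟨0, by omega⟩
  obtain ⟨u0, hu0, hu0v⟩ := M.toSec.exists_val (f o)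
  -- the stabilizer fixes the lift
  have hstab : ∀ e : ↥E, M.ρ e o = o → (e : G) * u0 * (e : G)⁻¹ = u0 := by
    have hZd : ∀ e : ↥E, M.ρ e o = o → (e : G) * u0 * (e : G)⁻¹ * u0⁻¹ ∈ Z := fun e he => by
      refine (M.toSec.val_eq_iff (hWN e e.2 u0 hu0) hu0).1 ?_
      rw [← M.toSec.ind_val (M.le_nn e.2) hu0, hu0v, hf, he]
    let Fx : Subgroup ↥E :=
      { carrier := {e | M.ρ e o = o ∧ (e : G) * u0 * (e : G)⁻¹ = u0}
        one_mem' := by simp
        mul_mem' := fun {a b} ha hb => ⟨by rw [map_mul, Equiv.Perm.mul_apply, hb.1, ha.1], by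
          rw [Subgroup.coe_mul, show (a : G) * b * u0 * ((a : G) * b)⁻¹ = a * ((b : G) * u0 * (b : G)⁻¹) * (a : G)⁻¹ by
            group, hb.2, ha.2]⟩
        inv_mem' := fun {a} ha => ⟨by rw [map_inv, Equiv.Perm.inv_eq_iff_eq, ha.1], by
          rw [Subgroup.coe_inv]
          conv_lhs => rw [← ha.2]
          group⟩ }
    have hkey : ∀ σ : Equiv.Perm {i // i ≠ o}, σ ∈ alternatingGroup _ → Equiv.Perm.ofSubtype σ ∈ Fx.map M.ρ := by
      intro σ hσ
      rw [← Equiv.Perm.closure_three_cycles_eq_alternating] at hσ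
      induction hσ using Subgroup.closure_induction with
      | one => rw [map_one]; exact one_mem _
      | mul a b _ _ ha hb => rw [map_mul]; exact mul_mem ha hb
      | inv a _ ha => rw [map_inv]; exact inv_mem ha
      | mem τ hτ =>
        set g := Equiv.Perm.ofSubtype τ with hg
        have hord : orderOf g = 3 := by
          rw [hg, orderOf_injective _ Equiv.Perm.ofSubtype_injective]; exact hτ.orderOf
        have hgA : g ∈ alternatingGroup (Fin n) := by
          rw [Equiv.Perm.mem_alternatingGroup, hg, Equiv.Perm.sign_ofSubtype]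
          exact Equiv.Perm.mem_alternatingGroup.1 hτ.mem_alternatingGroup
        obtain ⟨e, he⟩ : g ∈ M.ρ.range := by rw [M.range_eq]; exact hgA
        have hgo : g o = o := Equiv.Perm.ofSubtype_apply_of_not_mem τ (by simp)
        obtain ⟨k, hk⟩ := exists_coprime_power (p := p) (e : G)
        set y := e ^ p ^ k with hy
        have hyo : M.ρ y o = o := by
          rw [hy, map_pow, he]
          exact Equiv.Perm.pow_apply_eq_self_of_apply_eq_self hgo _
        have hyFx : y ∈ Fx := by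
          refine ⟨hyo, ?_⟩
          have hd := hZd y hyo
          have h1 := eq_one_of_translation (y := (y : G)) (d := (y : G) * u0 * (y : G)⁻¹ * u0⁻¹) (r := u0)
            (by rw [hy, SubmonoidClass.coe_pow]; exact hk) (hZfix _ hd y y.2) (omegaOneCenter_pow p _ hd.1) (by group)
          exact mul_inv_eq_one.1 h1
        obtain ⟨j, hj⟩ := exists_pow_eq_self_of_coprime (x := g) (n := p ^ k)
          (by rw [hord, hp]; exact Nat.Coprime.pow_left _ (by norm_num))
        rw [← hj]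
        refine pow_mem (Subgroup.mem_map.2 ⟨y, hyFx, ?_⟩) j
        rw [hy, map_pow, he]
    intro e he
    have hiff : ∀ x, M.ρ e x ≠ o ↔ x ≠ o := fun x => by
      constructor
      · intro h hx; exact h (by rw [hx, he])
      · intro h hx; exact h ((M.ρ e).injective (hx.trans he.symm))
    have hes : Equiv.Perm.ofSubtype ((M.ρ e).subtypePerm hiff) = M.ρ e :=
      Equiv.Perm.ofSubtype_subtypePerm (p := fun x => x ≠ o) hiff (fun x hx (hxo : x = o) => hx (by rw [hxo, he]))
    have heA : M.ρ e ∈ alternatingGroup (Fin n) := by rw [← M.range_eq]; exact ⟨e, rfl⟩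
    have hσ : (M.ρ e).subtypePerm hiff ∈ alternatingGroup {i // i ≠ o} := by
      rw [Equiv.Perm.mem_alternatingGroup, ← Equiv.Perm.sign_ofSubtype, hes]
      exact Equiv.Perm.mem_alternatingGroup.1 heA
    obtain ⟨y, hy, hye⟩ := hkey _ hσ
    rw [hes] at hye
    have hq : ((y⁻¹ * e : ↥E) : G) ∈ Qc E := (M.ker_eq _).1 (by rw [map_mul, map_inv, hye, inv_mul_cancel])
    calc (e : G) * u0 * (e : G)⁻¹ = (y : G) * (((y⁻¹ * e : ↥E) : G) * u0 * ((y⁻¹ * e : ↥E) : G)⁻¹) * (y : G)⁻¹ := by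
          rw [Subgroup.coe_mul, Subgroup.coe_inv]; group
      _ = u0 := by rw [omegaOneCenter_comm p _ hu0 hq, mul_inv_cancel_right]; exact hy.2
  -- the other lifts
  have htrans : ∀ a : Fin n, ∃ e : ↥E, M.ρ e o = a := by
    intro a
    rcases eq_or_ne a o with rfl | ha
    · exact ⟨1, by simp⟩
    obtain ⟨c, hca, hco⟩ := exists_third (show 3 ≤ n by omega) a o
    obtain ⟨e, he⟩ : Equiv.swap o a * Equiv.swap a c ∈ M.ρ.range := by
      rw [M.range_eq]; exact swap_mul_swap_mem ha.symm hca.symm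
    refine ⟨e, ?_⟩
    rw [he, Equiv.Perm.mul_apply, Equiv.swap_apply_of_ne_of_ne ha.symm hco.symm, Equiv.swap_apply_left]
  choose ea hea using htrans
  let u : Fin n → ↥W := fun a => ⟨(ea a : G) * u0 * (ea a : G)⁻¹, hWN _ (ea a).2 _ hu0⟩
  have hueq : ∀ (e : ↥E) (a : Fin n), (e : G) * u a * (e : G)⁻¹ = u (M.ρ e a) := by
    intro e a
    set b := M.ρ e a with hb
    have h : M.ρ ((ea b)⁻¹ * e * ea a) o = o := by
      rw [map_mul, map_mul, map_inv, Equiv.Perm.mul_apply, Equiv.Perm.mul_apply, hea,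
        Equiv.Perm.inv_eq_iff_eq, hea]
    have h2 := hstab _ h
    simp only [Subgroup.coe_mul, Subgroup.coe_inv] at h2
    show (e : G) * ((ea a : G) * u0 * (ea a : G)⁻¹) * (e : G)⁻¹ = (ea b : G) * u0 * (ea b : G)⁻¹
    conv_rhs => rw [← h2]
    group
  have hval : ∀ a, M.toSec.val (u a : G) = f a := fun a => by
    show M.toSec.val ((ea a : G) * u0 * (ea a : G)⁻¹) = f a
    rw [← M.toSec.ind_val (M.le_nn (ea a).2) hu0, hu0v, hf, hea]
  let vh : ↥W →* Multiplicative ↥(evenW n) := M.ψ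
  have hvh : ∀ w : ↥W, Multiplicative.toAdd (vh w) = M.toSec.val (w : G) := fun w => (M.toSec.val_eq w).symm
  set s : ↥W := ∏ a, u a with hs
  have hsZ : (s : G) ∈ Z := by
    refine (M.ker s).1 (Multiplicative.toAdd.injective ?_)
    rw [show M.ψ s = vh s from rfl, hs, map_prod, toAdd_prod, toAdd_one]
    simp only [hvh, hval]
    refine Subtype.ext (funext fun i => ?_)
    rw [AddSubmonoidClass.coe_finsetSum, Finset.sum_apply]
    show ∑ a, (1 - (if a = i then (1 : ZMod 2) else 0)) = 0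
    rw [Finset.sum_sub_distrib, Finset.sum_ite_eq', Finset.sum_const, Finset.card_univ, Fintype.card_fin,
      if_pos (Finset.mem_univ _), hn]
    simp [show (2 : ZMod 2) = 0 from rfl]
  let u' : Fin n → ↥W := fun a => u a * s
  have hu'eq : ∀ (e : ↥E) (a : Fin n), (e : G) * u' a * (e : G)⁻¹ = u' (M.ρ e a) := fun e a => by
    show (e : G) * ((u a : G) * s) * (e : G)⁻¹ = (u (M.ρ e a) : G) * s
    rw [← hueq e a, show (e : G) * ((u a : G) * s) * (e : G)⁻¹ = ((e : G) * u a * (e : G)⁻¹) * ((e : G) * s * (e : G)⁻¹)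
      by group, hZfix _ hsZ e e.2]
  have hval' : ∀ a, M.toSec.val (u' a : G) = f a := fun a => by
    show M.toSec.val ((u a : G) * s) = f a
    rw [M.toSec.val_mul (u a).2 s.2, (M.toSec.val_eq_zero s.2).2 hsZ, add_zero, hval]
  have hprod : ∏ a, u' a = 1 := by
    show ∏ a, u a * s = 1
    rw [Finset.prod_mul_distrib, ← hs, Finset.prod_const, Finset.card_univ, Fintype.card_fin, ← pow_succ',
      hn, show 2 * m + 1 + 1 = 2 * (m + 1) by ring, pow_mul, pow_two, hsq, one_pow]
  let φ : Multiplicative (Fin n → ZMod 2) →* ↥W :=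
    { toFun := fun c => ∏ a, u' a ^ (Multiplicative.toAdd c a).val
      map_one' := by simp
      map_mul' := fun c d => by
        rw [← Finset.prod_mul_distrib]
        exact Finset.prod_congr rfl fun a _ => pow_val_add (hsq _) _ _ }
  have hφval : ∀ (c : Fin n → ZMod 2) (i : Fin n),
      (M.toSec.val (φ (Multiplicative.ofAdd c) : G) : Fin n → ZMod 2) i = (∑ a, c a) - c i := by
    intro c i
    rw [← hvh]
    show ((Multiplicative.toAdd (vh (∏ a, u' a ^ (c a).val)) : ↥(evenW n)) : Fin n → ZMod 2) i = _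
    rw [map_prod, toAdd_prod, AddSubmonoidClass.coe_finsetSum, Finset.sum_apply]
    simp only [map_pow, toAdd_pow, hvh, hval', AddSubmonoidClass.coe_nsmul, Pi.smul_apply, nsmul_eq_mul,
      ZMod.natCast_zmod_val]
    show ∑ a, c a * (1 - (if a = i then (1 : ZMod 2) else 0)) = _
    simp [mul_sub, Finset.sum_sub_distrib]
  have hker : ∀ w : ↥W, w ∈ φ.range → (w : G) ∈ Z → w = 1 := by
    rintro w ⟨c, rfl⟩ hwZ
    have h0 := (M.toSec.val_eq_zero (φ c).2).2 hwZ
    have hc : ∀ i, Multiplicative.toAdd c i = ∑ a, Multiplicative.toAdd c a := fun i => by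
      have := hφval (Multiplicative.toAdd c) i
      rw [ofAdd_toAdd, h0] at this
      exact (sub_eq_zero.1 this.symm).symm
    rcases zmod2_cases (∑ a, Multiplicative.toAdd c a) with h | h
    · show ∏ a, u' a ^ (Multiplicative.toAdd c a).val = 1
      refine Finset.prod_eq_one fun a _ => ?_
      rw [hc a, h, ZMod.val_zero, pow_zero]
    · show ∏ a, u' a ^ (Multiplicative.toAdd c a).val = 1
      refine (Finset.prod_congr rfl fun a _ => ?_).trans hprod
      rw [hc a, h, ZMod.val_one, pow_one]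
  have hconj : ∀ (e : ↥E) (w : ↥W), w ∈ φ.range →
      (⟨(e : G) * w * (e : G)⁻¹, hWN e e.2 w w.2⟩ : ↥W) ∈ φ.range := by
    rintro e _ ⟨c, rfl⟩
    refine ⟨Multiplicative.ofAdd fun i => Multiplicative.toAdd c ((M.ρ e)⁻¹ i), ?_⟩
    let cj : ↥W →* ↥W :=
      { toFun := fun x => ⟨(e : G) * x * (e : G)⁻¹, hWN e e.2 x x.2⟩
        map_one' := Subtype.ext (by simp)
        map_mul' := fun a b => Subtype.ext (by simp [mul_assoc]) }
    show _ = cj (∏ a, u' a ^ (Multiplicative.toAdd c a).val)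
    rw [map_prod]
    refine (Fintype.prod_equiv (M.ρ e) _ _ fun a => ?_).symm
    rw [map_pow, show cj (u' a) = u' (M.ρ e a) from Subtype.ext (hu'eq e a)]
    simp
  have hle : ⁅W, E⁆ ≤ φ.range.map W.subtype := by
    rw [Subgroup.commutator_le]
    intro w hw e he
    set v := M.toSec.val w with hv
    set k := φ (Multiplicative.ofAdd (v : Fin n → ZMod 2)) with hk
    have hkv : M.toSec.val (k : G) = v := Subtype.ext (funext fun i => by
      rw [hk, hφval, show ∑ a, (v : Fin n → ZMod 2) a = 0 from v.2, zero_sub]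
      exact CharTwo.neg_eq _)
    have hz : (k : G)⁻¹ * w ∈ Z := by
      refine (M.toSec.val_eq_zero (mul_mem (inv_mem k.2) hw)).1 ?_
      rw [M.toSec.val_mul (inv_mem k.2) hw, M.toSec.val_inv k.2, hkv, neg_add_cancel]
    refine ⟨k * ⟨e * ((k⁻¹ : ↥W) : G) * e⁻¹, hWN e he _ (k⁻¹).2⟩,
      mul_mem ⟨_, rfl⟩ (hconj ⟨e, he⟩ k⁻¹ (inv_mem ⟨_, rfl⟩)), ?_⟩
    show (k : G) * (e * (k : G)⁻¹ * e⁻¹) = ⁅w, e⁆
    have hez := hZfix _ (inv_mem hz) e he
    rw [commutatorElement_def]
    conv_rhs => rw [show w = (k : G) * ((k : G)⁻¹ * w) by group]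
    rw [mul_inv_rev, show (k : G) * ((k : G)⁻¹ * w) * e * (((k : G)⁻¹ * w)⁻¹ * (k : G)⁻¹) * e⁻¹ =
      (k : G) * (((k : G)⁻¹ * w) * (e * ((k : G)⁻¹ * w)⁻¹ * e⁻¹)) * (e * (k : G)⁻¹ * e⁻¹) by group, hez,
      mul_inv_cancel, mul_one]
  rw [Subgroup.eq_bot_iff_forall]
  rintro x ⟨hx, hxc⟩
  obtain ⟨y, hy, rfl⟩ := hle hx
  rw [hker y hy ⟨y.2, hxc⟩]
  rfl

end CfsgLib.BBlock
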