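import Cfsg.Prelude.Def_BaumannBlocks
import Cfsg.Agent.Lib.PLocal.ThompsonFactor
import Cfsg.Agent.Lib.Basic
import Cfsg.Agent.Lib.Transfer

/-!
Elementary properties of Baumann blocks: weak closure of `B(T)`, and the normalizer lemma.
-/

set_option autoImplicit false
set_option linter.unusedSectionVars false

namespace CfsgLib.BBlock

open Cfsg
open scoped commutatorElement

variable {G : Type*} [Group G] {p : ℕ}

theorem mem_normalizer_of_map_le [Finite G] {K : Subgroup G} {g : G} (h : ∀ x ∈ K, g * x * g⁻¹ ∈ K) :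
    g ∈ Subgroup.normalizer (K : Set G) := by
  have hmap : K.map (MulAut.conj g).toMonoidHom = K := by
    refine Subgroup.eq_of_le_of_card_ge ?_
      (by rw [Subgroup.card_map_of_injective (MulAut.conj g).injective])
    rintro _ ⟨a, ha, rfl⟩
    exact h a ha
  refine Subgroup.mem_normalizer_iff.2 fun z => ⟨fun hz => h z hz, fun hz => ?_⟩
  obtain ⟨a, ha, e⟩ := hmap.ge hz
  rwa [← (MulAut.conj g).injective e]

theorem conj_mem_normalizer {K : Subgroup G} {g x : G} (hg : g ∈ Subgroup.normalizer (K : Set G))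
    (hx : x ∈ K) : g * x * g⁻¹ ∈ K := (Subgroup.mem_normalizer_iff.1 hg x).1 hx

theorem normalizer_le_normalizer_centralizer [Finite G] (K : Subgroup G) :
    Subgroup.normalizer (K : Set G) ≤
      Subgroup.normalizer ((Subgroup.centralizer (K : Set G) : Subgroup G) : Set G) := by
  intro g hg
  refine mem_normalizer_of_map_le fun x hx => Subgroup.mem_centralizer_iff.2 fun k hk => ?_
  have h1 : g⁻¹ * k * g ∈ K := by simpa using conj_mem_normalizer (inv_mem hg) hk
  have h2 := Subgroup.mem_centralizer_iff.1 hx _ h1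
  calc k * (g * x * g⁻¹) = g * ((g⁻¹ * k * g) * x) * g⁻¹ := by group
    _ = g * x * g⁻¹ * k := by rw [h2]; group

theorem normalizer_le_normalizer_omegaOne [Finite G] (p : ℕ) (K : Subgroup G) :
    Subgroup.normalizer (K : Set G) ≤ Subgroup.normalizer (omegaOne p K : Set G) := by
  intro g hg
  refine mem_normalizer_of_map_le fun x hx => ?_
  induction hx using Subgroup.closure_induction with
  | mem y hy =>
    exact Subgroup.subset_closure ⟨conj_mem_normalizer hg hy.1, by rw [conj_pow, hy.2, mul_one, mul_inv_cancel]⟩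
  | one => simp
  | mul a b _ _ e1 e2 =>
    have := mul_mem e1 e2
    rwa [conj_mul] at this
  | inv a _ e1 =>
    have := inv_mem e1
    simpa [mul_assoc] using this

theorem inf_normalizer_le [Finite G] (K L : Subgroup G) :
    Subgroup.normalizer (K : Set G) ⊓ Subgroup.normalizer (L : Set G) ≤
      Subgroup.normalizer ((K ⊓ L : Subgroup G) : Set G) := fun _ hg =>
  mem_normalizer_of_map_le fun _ hx => ⟨conj_mem_normalizer hg.1 hx.1, conj_mem_normalizer hg.2 hx.2⟩

theorem normalizer_le_normalizer_omegaOneCenter [Finite G] (p : ℕ) (K : Subgroup G) :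
    Subgroup.normalizer (K : Set G) ≤ Subgroup.normalizer (omegaOneCenter p K : Set G) :=
  ((le_inf le_rfl (normalizer_le_normalizer_centralizer K)).trans (inf_normalizer_le _ _)).trans
    (normalizer_le_normalizer_omegaOne p _)

theorem omegaOneCenter_le (p : ℕ) (K : Subgroup G) : omegaOneCenter p K ≤ K :=
  (Subgroup.closure_le _).2 fun _ hx => hx.1.1

theorem omegaOneCenter_comm (p : ℕ) (K : Subgroup G) {w k : G} (hw : w ∈ omegaOneCenter p K)
    (hk : k ∈ K) : k * w = w * k := by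
  have : omegaOneCenter p K ≤ Subgroup.centralizer (K : Set G) :=
    (Subgroup.closure_le _).2 fun _ hx => hx.1.2
  exact Subgroup.mem_centralizer_iff.1 (this hw) k hk

theorem omegaOneCenter_pow (p : ℕ) (K : Subgroup G) {w : G} (hw : w ∈ omegaOneCenter p K) :
    w ^ p = 1 := by
  induction hw using Subgroup.closure_induction with
  | mem y hy => exact hy.2
  | one => simp
  | mul a b ha hb e1 e2 =>
    rw [(show Commute a b from omegaOneCenter_comm p K hb (omegaOneCenter_le p K ha)).mul_pow, e1, e2, one_mul]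
  | inv a _ e1 => rw [inv_pow, e1, inv_one]

theorem thompsonSubgroupOf_le_baumann (p : ℕ) (T : Subgroup G) :
    thompsonSubgroupOf p T ≤ baumannSubgroupOf p T := by
  refine le_inf (Subgroup.map_subtype_le _) fun j hj => Subgroup.mem_centralizer_iff.2 fun z hz => ?_
  have hle : omegaOne p (centerThompsonOf p T) ≤ Subgroup.centralizer (thompsonSubgroupOf p T : Set G) :=
    (Subgroup.closure_le _).2 fun _ hx => hx.1.2
  exact (Subgroup.mem_centralizer_iff.1 (hle hz) j hj).symm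

/-- `B(T)` is normalized by every `p`-subgroup that it normalizes. -/
theorem le_normalizer_baumann [Finite G] [Fact p.Prime] (T : Sylow p G) {Q : Subgroup G}
    (hQ : IsPGroup p Q)
    (hBQ : baumannSubgroupOf p (T : Subgroup G) ≤ Subgroup.normalizer (Q : Set G)) :
    Q ≤ Subgroup.normalizer (baumannSubgroupOf p (T : Subgroup G) : Set G) := by
  set J := thompsonSubgroupOf p (T : Subgroup G) with hJ
  set B := baumannSubgroupOf p (T : Subgroup G) with hB
  set Ω := omegaOne p (centerThompsonOf p (T : Subgroup G)) with hΩ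
  have hBT : B ≤ (T : Subgroup G) := inf_le_left
  have hQB : IsPGroup p (Q ⊔ B : Subgroup G) := by
    rw [sup_comm]
    exact IsPGroup.to_sup_of_normal_right' (T.isPGroup'.to_le hBT) hQ hBQ
  obtain ⟨T', hT'⟩ := hQB.exists_le_sylow
  obtain ⟨g, hg⟩ := MulAction.exists_smul_eq G T T'
  have hTT' : (T : Subgroup G).map (MulAut.conj g).toMonoidHom = (T' : Subgroup G) := by
    rw [← hg]; rfl
  have hJmap : J.map (MulAut.conj g).toMonoidHom = thompsonSubgroupOf p (T' : Subgroup G) := by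
    rw [hJ, CfsgLib.PLocal.thompsonSubgroupOf_map _ (fun a _ b _ h => (MulAut.conj g).injective h), hTT']
  have hJle : J ≤ thompsonSubgroupOf p (T' : Subgroup G) := by
    rw [hJ, thompsonSubgroupOf, Subgroup.map_le_iff_le_comap]
    refine sSup_le fun A hA => Subgroup.map_le_iff_le_comap.1 ?_
    refine CfsgLib.PLocal.le_thompsonSubgroupOf ?_ (CfsgLib.PLocal.map_mem_max hA)
    refine le_trans ?_ (le_sup_right.trans hT')
    exact le_trans (le_trans (Subgroup.map_mono (le_sSup hA)) le_rfl) (thompsonSubgroupOf_le_baumann p _)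
  have hJeq : J = thompsonSubgroupOf p (T' : Subgroup G) :=
    Subgroup.eq_of_le_of_card_ge hJle
      (by rw [← hJmap, Subgroup.card_map_of_injective (MulAut.conj g).injective])
  have hgJ : g ∈ Subgroup.normalizer (J : Set G) := mem_normalizer_of_map_le fun x hx => by
    have : g * x * g⁻¹ ∈ J.map (MulAut.conj g).toMonoidHom := ⟨x, hx, rfl⟩
    rw [hJmap, ← hJeq] at this
    exact this
  have hT'J : (T' : Subgroup G) ≤ Subgroup.normalizer (J : Set G) := fun t ht => by
    have hle := CfsgLib.PLocal.normalizer_inf_le_normalizer_thompson T' (C := (⊤ : Subgroup G)) le_top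
    rw [inf_top_eq] at hle
    rw [hJeq]
    exact hle (Subgroup.le_normalizer ht)
  have hNΩ : Subgroup.normalizer (J : Set G) ≤
      Subgroup.normalizer ((Subgroup.centralizer (Ω : Set G) : Subgroup G) : Set G) :=
    (normalizer_le_normalizer_omegaOneCenter p J).trans (normalizer_le_normalizer_centralizer _)
  have hBmap : B.map (MulAut.conj g).toMonoidHom ≤ (T' : Subgroup G) ⊓ Subgroup.centralizer (Ω : Set G) := by
    rintro _ ⟨x, hx, rfl⟩
    exact ⟨hTT'.le ⟨x, hx.1, rfl⟩, conj_mem_normalizer (hNΩ hgJ) hx.2⟩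
  have hback : ((T' : Subgroup G) ⊓ Subgroup.centralizer (Ω : Set G)).map (MulAut.conj g⁻¹).toMonoidHom ≤ B := by
    rintro _ ⟨x, hx, rfl⟩
    refine ⟨?_, conj_mem_normalizer (hNΩ (inv_mem hgJ)) hx.2⟩
    obtain ⟨y, hy, e⟩ := hTT'.ge hx.1
    have : g⁻¹ * x * g⁻¹⁻¹ = y := by
      rw [← e]; simp only [MulEquiv.coe_toMonoidHom, MulAut.conj_apply]; group
    show g⁻¹ * x * g⁻¹⁻¹ ∈ (T : Subgroup G)
    rw [this]; exact hy
  have hBeq : B = (T' : Subgroup G) ⊓ Subgroup.centralizer (Ω : Set G) := by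
    refine Subgroup.eq_of_le_of_card_ge (le_inf (le_sup_right.trans hT') inf_le_right) ?_
    rw [← Subgroup.card_map_of_injective (f := (MulAut.conj g⁻¹).toMonoidHom) (MulAut.conj g⁻¹).injective
      (K := (T' : Subgroup G) ⊓ Subgroup.centralizer (Ω : Set G))]
    exact Subgroup.card_le_of_le hback
  intro x hx
  have hxT : x ∈ (T' : Subgroup G) := hT' (Subgroup.mem_sup_left hx)
  rw [hBeq]
  exact inf_normalizer_le _ _ ⟨Subgroup.le_normalizer hxT, hNΩ (hT'J hxT)⟩

/-- A `p'`-element of `E K`, for a `p`-group `K` normalizing `E`, lies in `E`. -/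
theorem mem_of_mem_sup_coprime [Finite G] [Fact p.Prime] {E K : Subgroup G} (hK : IsPGroup p K)
    (hKE : K ≤ Subgroup.normalizer (E : Set G)) {g : G} (hg : g ∈ E ⊔ K) (hc : (orderOf g).Coprime p) :
    g ∈ E := by
  rw [← SetLike.mem_coe, sup_comm, Subgroup.coe_mul_of_left_le_normalizer_right K E hKE] at hg
  obtain ⟨k, hk, e, he, rfl⟩ := hg
  obtain ⟨i, hi⟩ := hK ⟨k, hk⟩
  have hi' : k ^ p ^ i = 1 := congrArg Subtype.val hi
  have hpow : ∀ n : ℕ, ∃ e' ∈ E, (k * e) ^ n = k ^ n * e' := by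
    intro n
    induction n with
    | zero => exact ⟨1, one_mem _, by simp⟩
    | succ n ih =>
      obtain ⟨e', he', h⟩ := ih
      refine ⟨k⁻¹ * e' * k * e, mul_mem ?_ he, ?_⟩
      · simpa using conj_mem_normalizer (inv_mem (hKE hk)) he'
      · rw [pow_succ, h, pow_succ]; group
  obtain ⟨e', he', h⟩ := hpow (p ^ i)
  rw [hi', one_mul] at h
  obtain ⟨m, hm⟩ := exists_pow_eq_self_of_coprime (Nat.Coprime.pow_left i hc.symm)
  rw [← hm]
  show ((k * e) ^ p ^ i) ^ m ∈ E
  rw [h]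
  exact pow_mem he' m

theorem pResidualOf_le {E K : Subgroup G} (h : ∀ g ∈ E, (orderOf g).Coprime p → g ∈ K) :
    pResidualOf p E ≤ K := by
  rw [pResidualOf, Subgroup.map_le_iff_le_comap, pResidual, Subgroup.closure_le]
  intro g hg
  exact h g g.2 (by rwa [Subgroup.orderOf_coe])

theorem mem_pResidualOf {E : Subgroup G} {g : G} (hg : g ∈ E) (hc : (orderOf g).Coprime p) :
    g ∈ pResidualOf p E :=
  ⟨⟨g, hg⟩, Subgroup.subset_closure (by simpa [Subgroup.orderOf_mk] using hc), rfl⟩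

/-- `E` generated by `p'`-elements: to be contained in `K` it suffices to check these. -/
theorem le_of_coprime {E K : Subgroup G} (hE : pResidualOf p E = E)
    (h : ∀ g ∈ E, (orderOf g).Coprime p → g ∈ K) : E ≤ K :=
  hE ▸ pResidualOf_le h

theorem le_normalizer_of_commutator_eq {E B : Subgroup G} (h : ⁅E, B⁆ = E) :
    B ≤ Subgroup.normalizer (E : Set G) := by
  rw [Subgroup.le_normalizer_iff_commutator_le_left, h]

/-- A `p`-subgroup normalized by `B(T)` and by `E` normalizes `E`. -/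
theorem le_normalizer_block [Finite G] [Fact p.Prime] (T : Sylow p G) {E : Subgroup G}
    (hEres : pResidualOf p E = E) (hEB : ⁅E, baumannSubgroupOf p (T : Subgroup G)⁆ = E) {Q : Subgroup G}
    (hQ : IsPGroup p Q)
    (hBQ : baumannSubgroupOf p (T : Subgroup G) ≤ Subgroup.normalizer (Q : Set G))
    (hEQ : E ≤ Subgroup.normalizer (Q : Set G)) :
    Q ≤ Subgroup.normalizer (E : Set G) := by
  set B := baumannSubgroupOf p (T : Subgroup G) with hB
  have hQB : Q ≤ Subgroup.normalizer (B : Set G) := le_normalizer_baumann T hQ hBQ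
  have hBE : B ≤ Subgroup.normalizer (E : Set G) := le_normalizer_of_commutator_eq hEB
  set Q0 := Q ⊓ Subgroup.normalizer (E : Set G) with hQ0
  by_contra hne
  have hlt : Q0 < Q := inf_lt_left.2 hne
  have hnil : Group.IsNilpotent Q := hQ.isNilpotent
  obtain ⟨q, hqQ, hqN, hq0⟩ : ∃ q ∈ Q, q ∈ Subgroup.normalizer (Q0 : Set G) ∧ q ∉ Q0 := by
    have hlt' : Q0.subgroupOf Q < ⊤ := by
      rw [lt_top_iff_ne_top, Ne, Subgroup.subgroupOf_eq_top]
      exact not_le_of_gt hlt
    obtain ⟨⟨q, hq⟩, hqn, hqm⟩ := SetLike.exists_of_lt (Group.normalizerCondition_of_isNilpotent _ hlt')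
    refine ⟨q, hq, mem_normalizer_of_map_le fun x hx => ?_, fun h => hqm h⟩
    exact (Subgroup.mem_normalizer_iff.1 hqn ⟨x, hx.1⟩).1 hx
  have hN0 : ∀ g ∈ Subgroup.normalizer (Q : Set G) ⊓ Subgroup.normalizer (E : Set G),
      g ∈ Subgroup.normalizer (Q0 : Set G) := fun g hg =>
    mem_normalizer_of_map_le fun x hx =>
      ⟨conj_mem_normalizer hg.1 hx.1,
        show _ ∈ Subgroup.normalizer (E : Set G) from mul_mem (mul_mem hg.2 hx.2) (inv_mem hg.2)⟩
  have hEN0 : E ≤ Subgroup.normalizer (Q0 : Set G) := fun e he => hN0 e ⟨hEQ he, Subgroup.le_normalizer he⟩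
  have hBN0 : B ≤ Subgroup.normalizer (Q0 : Set G) := fun e he => hN0 e ⟨hBQ he, hBE he⟩
  set Q1 := Q ⊓ Subgroup.normalizer (Q0 : Set G) with hQ1
  have hEQ1 : ∀ e ∈ E, ∀ u ∈ Q1, e * u * e⁻¹ ∈ Q1 := fun e he u hu =>
    ⟨conj_mem_normalizer (hEQ he) hu.1,
      show _ ∈ Subgroup.normalizer (Q0 : Set G) from mul_mem (mul_mem (hEN0 he) hu.2) (inv_mem (hEN0 he))⟩
  have hBQ1 : ∀ b ∈ B, ∀ u ∈ Q1, b * u * b⁻¹ * u⁻¹ ∈ Q0 := fun b hb u hu => by
    have h1 : b * u * b⁻¹ * u⁻¹ ∈ Q := mul_mem (conj_mem_normalizer (hBQ hb) hu.1) (inv_mem hu.1)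
    have h2 : b * u * b⁻¹ * u⁻¹ ∈ B := by
      rw [mul_assoc b, mul_assoc b]
      exact mul_mem hb (conj_mem_normalizer (hQB hu.1) (inv_mem hb))
    exact ⟨h1, hBE h2⟩
  let L : Subgroup G :=
    { carrier := {x | x ∈ E ∧ ∀ u ∈ Q1, x * u * x⁻¹ * u⁻¹ ∈ Q0}
      one_mem' := ⟨one_mem _, fun u _ => by simp⟩
      mul_mem' := fun {x y} hx hy => ⟨mul_mem hx.1 hy.1, fun u hu => by
        have e : x * y * u * (x * y)⁻¹ * u⁻¹ =
            x * (y * u * y⁻¹) * x⁻¹ * (y * u * y⁻¹)⁻¹ * (y * u * y⁻¹ * u⁻¹) := by group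
        rw [e]
        exact mul_mem (hx.2 _ (hEQ1 y hy.1 u hu)) (hy.2 u hu)⟩
      inv_mem' := fun {x} hx => ⟨inv_mem hx.1, fun u hu => by
        have e : x⁻¹ * u * x⁻¹⁻¹ * u⁻¹ =
            (x * (x⁻¹ * u * x) * x⁻¹ * (x⁻¹ * u * x)⁻¹)⁻¹ := by group
        rw [e]
        exact inv_mem (hx.2 _ (by simpa using hEQ1 x⁻¹ (inv_mem hx.1) u hu))⟩ }
  have hEL : E ≤ L := by
    rw [← hEB, Subgroup.commutator_le]
    intro e he b hb
    refine ⟨(show ⁅e, b⁆ ∈ E from hEB.le (Subgroup.commutator_mem_commutator he hb)), fun u hu => ?_⟩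
    set u1 := b⁻¹ * u * b with hu1
    set d1 := u1 * u⁻¹ with hd1
    have hd1m : d1 ∈ Q0 := by simpa [hd1, hu1] using hBQ1 b⁻¹ (inv_mem hb) u hu
    have hu1m : u1 ∈ Q1 := by
      have : u1 = d1 * u := by rw [hd1]; group
      rw [this]
      exact mul_mem (show d1 ∈ Q1 from ⟨hd1m.1, Subgroup.le_normalizer hd1m⟩) hu
    set u2 := e⁻¹ * u1 * e with hu2
    have hu2m : u2 ∈ Q1 := by simpa [hu2] using hEQ1 e⁻¹ (inv_mem he) u1 hu1m
    have h2 := hBQ1 b hb u2 hu2m
    have e2 : ⁅e, b⁆ * u * ⁅e, b⁆⁻¹ * u⁻¹ = (e * (b * u2 * b⁻¹ * u2⁻¹) * e⁻¹) * d1 := by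
      rw [hd1, hu2, hu1, commutatorElement_def]; group
    rw [e2]
    exact mul_mem (conj_mem_normalizer (hEN0 he) h2) hd1m
  apply hq0
  refine ⟨hqQ, mem_normalizer_of_map_le ?_⟩
  have hle : E ≤ E.comap (MulAut.conj q).toMonoidHom := by
    refine le_of_coprime hEres fun x hx hc => ?_
    show q * x * q⁻¹ ∈ E
    refine mem_of_mem_sup_coprime (hQ.to_le inf_le_left) inf_le_right ?_ ?_
    · have h := inv_mem ((hEL hx).2 q ⟨hqQ, hqN⟩)
      have e : q * x * q⁻¹ = (x * q * x⁻¹ * q⁻¹)⁻¹ * x := by group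
      rw [e]
      exact mul_mem (Subgroup.mem_sup_right h) (Subgroup.mem_sup_left hx)
    · rwa [← MulAut.conj_apply, MulEquiv.orderOf_eq]
  exact fun x hx => hle hx

end CfsgLib.BBlock
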