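import Cfsg.Agent.Lib.Baumann.BlockNatural
import Cfsg.Agent.Lib.Transfer

/-!
The subgroup `W_E = [Ω₁Z(O_p(E)), E]` of a block `E`.
-/

set_option autoImplicit false
set_option linter.unusedSectionVars false

namespace CfsgLib.BBlock

open Cfsg
open scoped commutatorElement

variable {G : Type*} [Group G] [Finite G] {p : ℕ} [Fact p.Prime]

theorem card_pCoreOf_mul {E : Subgroup G} {R : Type*} [Group R] (S : Subgroup R)
    (hiso : Nonempty (↥E ⧸ pCore p ↥E ≃* ↥S)) :
    Nat.card ↥E = Nat.card ↥(pCoreOf p E) * Nat.card ↥S := by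
  obtain ⟨f⟩ := hiso
  rw [(pCore p ↥E).card_eq_card_quotient_mul_card_subgroup, Nat.card_congr f.toEquiv, pCoreOf,
    Subgroup.card_map_of_injective E.subtype_injective, mul_comm]

/-- The natural module of a block. -/
theorem natSection_of_block {T E : Subgroup G} (hE : IsBaumannBlock p T E) :
    NatSection E (pCoreOf p E) (omegaOneCenter p (pCoreOf p E))
      (omegaOneCenter p (pCoreOf p E) ⊓ Subgroup.centralizer (E : Set G)) := by
  obtain ⟨hres, -, -, hne, hcases⟩ := hE
  set Q := pCoreOf p E with hQ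
  have hK : ∀ k ∈ Q, k ∈ E ∧ ∀ w ∈ omegaOneCenter p Q,
      k * w * k⁻¹ * w⁻¹ ∈ omegaOneCenter p Q ⊓ Subgroup.centralizer (E : Set G) := fun k hk =>
    ⟨Subgroup.map_subtype_le _ hk, fun w hw => by
      rw [omegaOneCenter_comm p Q hw hk, mul_inv_cancel_right, mul_inv_cancel]; exact one_mem _⟩
  rcases hcases with ⟨F, hF, hFt, n, -, hiso, ⟨hN, hle, ρ, ψ, hρ, hψ, hker, heq⟩, -⟩ |
    ⟨-, m, hiso, ⟨hN, hle, ρ, ψ, hρ, hev, hψ, hker, heq⟩, -⟩
  · refine natSection_of_image (fun (r : Matrix.SpecialLinearGroup (Fin 2) F) (v : Fin 2 → F) => (r : Matrix (Fin 2) (Fin 2) F).mulVec v)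
      (commutator (Matrix.SpecialLinearGroup (Fin 2) F) : Set _) Set.univ hN hle ρ ψ (by rw [hρ])
      (fun v _ => ?_) (fun _ => trivial) hker heq (fun U _ hU => ?_) ?_ (fun r _ h => sl2_faithful fun v => h v trivial)
      hK ?_
    · obtain ⟨u, hu⟩ := hψ (Multiplicative.ofAdd v)
      exact ⟨u, by rw [hu]; rfl⟩
    · rcases sl2_irred U hU with h | h
      · exact Or.inl h
      · exact Or.inr fun v _ => h v
    · obtain ⟨M, hM, h⟩ := sl2_moves (F := F)
      exact ⟨M, hM, _, trivial, h⟩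
    · rw [hρ]; exact card_pCoreOf_mul _ hiso
  · have hm : 1 ≤ m := by
      by_contra hm0
      obtain rfl : m = 0 := by omega
      have hcard := card_pCoreOf_mul _ hiso
      have hs : Subsingleton (Fin (2 * 0 + 1)) := ⟨fun a b => Fin.ext (by have := a.isLt; have := b.isLt; omega)⟩
      have h1 : Nat.card ↥(alternatingGroup (Fin (2 * 0 + 1))) = 1 := Nat.card_unique
      rw [h1, mul_one] at hcard
      have hEQ : Q = E := Subgroup.eq_of_le_of_card_ge (Subgroup.map_subtype_le _) hcard.le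
      have hEp : IsPGroup p ↥E := by
        rw [← hEQ, hQ, pCoreOf]
        exact (CfsgLib.isPGroup_pCore p).map _
      apply hne
      have : E = ⊥ := by
        rw [← hres, pResidualOf, CfsgLib.Transfer.pResidual_eq_bot_of_isPGroup hEp, Subgroup.map_bot]
      rw [this]
      exact Subgroup.commutator_bot_left _
    refine natSection_of_image (fun (r : Equiv.Perm (Fin (2 * m + 1))) (v : Fin (2 * m + 1) → ZMod 2) => fun i => v (r⁻¹ i))
      (alternatingGroup (Fin (2 * m + 1)) : Set _) {v | ∑ i, v i = 0} hN hle ρ ψ (by rw [hρ])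
      (fun v hv => hψ v hv) (fun u => hev u) hker (fun e u => ?_) (fun U hUV hU => ?_) ?_
      (fun r _ h => alt_faithful (by omega) h) hK ?_
    · obtain ⟨w, hw, hw'⟩ := heq e u
      exact ⟨w, hw, funext hw'⟩
    · rcases alt_irred ⟨m, rfl⟩ U hUV hU with h | h
      · exact Or.inl h
      · exact Or.inr fun v hv => h v hv
    · have hn : 3 ≤ 2 * m + 1 := by omega
      let a : Fin (2 * m + 1) := ⟨0, by omega⟩
      let b : Fin (2 * m + 1) := ⟨1, by omega⟩
      let c : Fin (2 * m + 1) := ⟨2, by omega⟩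
      have hab : a ≠ b := by simp [a, b]
      have hbc : b ≠ c := by simp [b, c]
      have hac : a ≠ c := by simp [a, c]
      refine ⟨Equiv.swap a b * Equiv.swap b c, swap_mul_swap_mem hab hbc,
        fun x => (Pi.single a 1 : Fin (2 * m + 1) → ZMod 2) x + (Pi.single b 1 : Fin (2 * m + 1) → ZMod 2) x,
        by simp [Finset.sum_add_distrib, CharTwo.add_self_eq_zero], fun h => ?_⟩
      have h1 := congrFun h c
      have h2 : (Equiv.swap a b * Equiv.swap b c)⁻¹ c = b := by
        rw [Equiv.Perm.inv_eq_iff_eq]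
        simp [Equiv.Perm.mul_apply, Equiv.swap_apply_of_ne_of_ne hac.symm hbc.symm]
        all_goals trivial
      rw [h2] at h1
      simp [hab.symm, hac.symm, hbc.symm] at h1
    · rw [hρ]; exact card_pCoreOf_mul _ hiso

/-- An element of `p'`-order acting on a coset of a group of exponent `p` by translation by a fixed
element is trivial on it. -/
theorem eq_one_of_translation {y d r : G} (hy : (orderOf y).Coprime p) (hd : y * d * y⁻¹ = d)
    (hdp : d ^ p = 1) (h : y * r * y⁻¹ = d * r) : d = 1 := by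
  have key : ∀ n : ℕ, y ^ n * r * (y ^ n)⁻¹ = d ^ n * r := by
    intro n
    induction n with
    | zero => simp
    | succ n ih =>
      calc y ^ (n + 1) * r * (y ^ (n + 1))⁻¹ = y * (y ^ n * r * (y ^ n)⁻¹) * y⁻¹ := by
            rw [pow_succ']; group
        _ = (y * d ^ n * y⁻¹) * (y * r * y⁻¹) := by rw [ih]; group
        _ = d ^ (n + 1) * r := by rw [← conj_pow, hd, h, pow_succ]; group
  have := key (orderOf y)
  rw [pow_orderOf_eq_one, one_mul, inv_one, mul_one, right_eq_mul] at this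
  exact orderOf_eq_one_iff.mp (Nat.eq_one_of_dvd_coprimes hy (orderOf_dvd_of_pow_eq_one this)
    (orderOf_dvd_of_pow_eq_one hdp))

theorem exists_coprime_power (g : G) : ∃ k, (orderOf (g ^ p ^ k)).Coprime p := by
  obtain ⟨k, m, hm, hgm⟩ := Nat.exists_eq_pow_mul_and_not_dvd (orderOf_pos g).ne' p (Fact.out : p.Prime).ne_one
  refine ⟨k, Nat.Coprime.coprime_dvd_left (orderOf_dvd_of_pow_eq_one (?_ : (g ^ p ^ k) ^ m = 1)) ?_⟩
  · rw [← pow_mul, ← hgm, pow_orderOf_eq_one]
  · exact ((Fact.out : p.Prime).coprime_iff_not_dvd.2 hm).symm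

variable (T : Sylow p G) {E : Subgroup G}

section
variable (hE : IsBaumannBlock p (T : Subgroup G) E)
include hE

theorem pCore_le_normalizer_block : pCore p G ≤ Subgroup.normalizer (E : Set G) :=
  le_normalizer_block T hE.1 hE.2.1 (CfsgLib.isPGroup_pCore p)
    (by rw [Subgroup.normalizer_eq_top]; exact le_top) (by rw [Subgroup.normalizer_eq_top]; exact le_top)

theorem pResidualOf_sup_pCore : pResidualOf p (E ⊔ pCore p G) = E :=
  le_antisymm
    (pResidualOf_le fun _ hg hc => mem_of_mem_sup_coprime (CfsgLib.isPGroup_pCore p)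
      (pCore_le_normalizer_block T hE) hg hc)
    (le_of_coprime hE.1 fun _ hg hc => mem_pResidualOf (Subgroup.mem_sup_left hg) hc)

omit hE in
theorem inf_pCore_le (E : Subgroup G) : E ⊓ pCore p G ≤ pCoreOf p E := fun x hx =>
  ⟨⟨x, hx.1⟩, CfsgLib.le_pCore (N := (pCore p G).subgroupOf E)
    ((CfsgLib.isPGroup_pCore p).comap_subtype) hx.2, rfl⟩

omit hE in
theorem normalizer_le_normalizer_pCoreOf (E : Subgroup G) :
    Subgroup.normalizer (E : Set G) ≤ Subgroup.normalizer (pCoreOf p E : Set G) := fun g hg =>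
  mem_normalizer_of_map_le fun x hx => by
    obtain ⟨y, hy, rfl⟩ := hx
    have h1 := CfsgLib.pCore_map_equiv p (Subgroup.normalizerMonoidHom E ⟨g, hg⟩ : ↥E ≃* ↥E)
    refine ⟨(Subgroup.normalizerMonoidHom E ⟨g, hg⟩) y, ?_, rfl⟩
    rw [← h1]; exact ⟨y, hy, rfl⟩

theorem conj_pCore_mem {r e : G} (hr : r ∈ pCore p G) (he : e ∈ E) :
    r * e * r⁻¹ * e⁻¹ ∈ pCoreOf p E := by
  refine inf_pCore_le E ⟨show _ ∈ E from mul_mem (conj_mem_normalizer (pCore_le_normalizer_block T hE hr) he) (inv_mem he), ?_⟩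
  have := mul_mem hr ((inferInstance : (pCore p G).Normal).conj_mem _ (inv_mem hr) e)
  simpa [mul_assoc] using this

/-- `O_p(G)` centralizes `W / Z`. -/
theorem pCore_centralizes_section {r w : G} (hr : r ∈ pCore p G) (hw : w ∈ omegaOneCenter p (pCoreOf p E)) :
    r * w * r⁻¹ * w⁻¹ ∈ omegaOneCenter p (pCoreOf p E) ⊓ Subgroup.centralizer (E : Set G) := by
  set Q := pCoreOf p E with hQ
  set W := omegaOneCenter p Q with hW
  set Z := W ⊓ Subgroup.centralizer (E : Set G) with hZ
  set R := pCore p G with hR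
  have hnat := natSection_of_block hE
  have hRW : R ≤ Subgroup.normalizer (W : Set G) := (pCore_le_normalizer_block T hE).trans
    ((normalizer_le_normalizer_pCoreOf E).trans (normalizer_le_normalizer_omegaOneCenter p Q))
  have hRE := pCore_le_normalizer_block T hE
  have hcomm : ∀ a ∈ W, ∀ b ∈ W, a * b = b * a := fun a ha b hb =>
    omegaOneCenter_comm p Q hb (omegaOneCenter_le p Q ha)
  have hZE : ∀ z ∈ Z, ∀ e ∈ E, e * z = z * e := fun z hz e he => Subgroup.mem_centralizer_iff.1 hz.2 e he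
  have hZfix : ∀ r ∈ R, ∀ z ∈ Z, r * z * r⁻¹ ∈ Z := by
    intro r hr z hz
    refine ⟨conj_mem_normalizer (hRW hr) hz.1, Subgroup.mem_centralizer_iff.2 fun e he => ?_⟩
    have h1 : r⁻¹ * e * r ∈ E := by simpa using conj_mem_normalizer (inv_mem (hRE hr)) he
    have h2 := hZE z hz _ h1
    calc e * (r * z * r⁻¹) = r * ((r⁻¹ * e * r) * z) * r⁻¹ := by group
      _ = r * z * r⁻¹ * e := by rw [h2]; group
  let U : Subgroup G :=
    { carrier := {w | w ∈ W ∧ ∀ r ∈ R, r * w * r⁻¹ * w⁻¹ ∈ Z}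
      one_mem' := ⟨one_mem _, fun r _ => by simp⟩
      mul_mem' := fun {a b} ha hb => ⟨mul_mem ha.1 hb.1, fun r hr => by
        have e1 : r * (a * b) * r⁻¹ * (a * b)⁻¹ = (r * a * r⁻¹ * a⁻¹) * (a * (r * b * r⁻¹ * b⁻¹) * a⁻¹) := by group
        rw [e1, hcomm a ha.1 _ (hb.2 r hr).1, mul_inv_cancel_right]
        exact mul_mem (ha.2 r hr) (hb.2 r hr)⟩
      inv_mem' := fun {a} ha => ⟨inv_mem ha.1, fun r hr => by
        have e1 : r * a⁻¹ * r⁻¹ * a⁻¹⁻¹ = a⁻¹ * (r * a * r⁻¹ * a⁻¹)⁻¹ * a := by group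
        rw [e1, hcomm _ (inv_mem ha.1) _ (inv_mem (ha.2 r hr).1), inv_mul_cancel_right]
        exact inv_mem (ha.2 r hr)⟩ }
  have hUE : ∀ e ∈ E, ∀ u ∈ U, e * u * e⁻¹ ∈ U := by
    intro e he u hu
    refine ⟨conj_mem_normalizer (hnat.normalizes he) hu.1, fun s hs => ?_⟩
    have hz := hu.2 s hs
    set z := s * u * s⁻¹ * u⁻¹
    set q := s * e * s⁻¹ * e⁻¹
    have hq : q ∈ Q := conj_pCore_mem T hE hs he
    have hqE : q ∈ E := Subgroup.map_subtype_le _ hq
    have hwq : q * (e * u * e⁻¹) * q⁻¹ = e * u * e⁻¹ := by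
      rw [omegaOneCenter_comm p Q (conj_mem_normalizer (hnat.normalizes he) hu.1) hq, mul_inv_cancel_right]
    have key : s * (e * u * e⁻¹) * s⁻¹ * (e * u * e⁻¹)⁻¹ = z := by
      calc s * (e * u * e⁻¹) * s⁻¹ * (e * u * e⁻¹)⁻¹
          = ((q * e) * z * (q * e)⁻¹) * (q * (e * u * e⁻¹) * q⁻¹) * (e * u * e⁻¹)⁻¹ := by
            simp only [q, z]; group
        _ = z := by rw [hwq, hZE z hz _ (mul_mem hqE he), mul_inv_cancel_right, mul_inv_cancel_right]
    rw [key]; exact hz
  rcases hnat.irred U (fun z hz => ⟨hz.1, fun s hs => mul_mem (hZfix s hs z hz) (inv_mem hz)⟩)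
      (fun u hu => hu.1) hUE with hU | hU
  · exfalso
    obtain ⟨e, he, w, hw, hne⟩ := hnat.moves
    have hwZ : w ∉ Z := fun h => hne (by rw [hZE w h e he, mul_inv_cancel_right, mul_inv_cancel]; exact one_mem _)
    have hRp : IsPGroup p R := CfsgLib.isPGroup_pCore p
    have hWp : IsPGroup p W := fun x => ⟨1, Subtype.ext (by simpa using omegaOneCenter_pow p Q x.2)⟩
    obtain ⟨S, hS⟩ := (IsPGroup.to_sup_of_normal_right' hRp hWp hRW).exists_le_sylow
    obtain ⟨n, hn⟩ := (Subgroup.isNilpotent_iff_lowerCentralSeries (S : Subgroup G)).mp S.isPGroup'.isNilpotent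
    have key : ∀ k, (∀ x ∈ (S : Subgroup G).lowerCentralSeries k, x ∈ W → x ∈ Z) →
        ∀ j ≤ k, ∀ x ∈ (S : Subgroup G).lowerCentralSeries (k - j), x ∈ W → x ∈ Z := by
      intro k hk j
      induction j with
      | zero => intro _; simpa using hk
      | succ j ih =>
        intro hj x hx hxW
        have hUZ : U = Z := hU
        rw [← hUZ]
        refine ⟨hxW, fun s hs => ?_⟩
        refine ih (by omega) _ ?_ (mul_mem (conj_mem_normalizer (hRW hs) hxW) (inv_mem hxW))
        rw [show k - j = k - (j + 1) + 1 by omega, Subgroup.lowerCentralSeries_succ]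
        have h1 := inv_mem (Subgroup.commutator_mem_commutator hx (hS (Subgroup.mem_sup_left hs)))
        simpa [commutatorElement_def, mul_assoc] using h1
    exact hwZ (key n (fun x hx _ => by rw [hn, Subgroup.mem_bot] at hx; rw [hx]; exact one_mem _) n le_rfl w
      (by rw [Nat.sub_self]; exact hS (Subgroup.mem_sup_right hw)) hw)
  · have : w ∈ U := hU.symm ▸ hw
    exact this.2 r hr

theorem commutator_le_omega (hG : Subgroup.centralizer (pCore p G : Set G) ≤ pCore p G) :
    ⁅omegaOneCenter p (pCoreOf p E), E⁆ ≤ omegaOneCenter p (pCore p G) := by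
  set Q := pCoreOf p E with hQ
  set W := omegaOneCenter p Q with hW
  set R := pCore p G with hR
  have hnat := natSection_of_block hE
  rw [Subgroup.commutator_le]
  intro w hw e he
  have hmem : ⁅w, e⁆ ∈ W := by
    rw [commutatorElement_def, mul_assoc w, mul_assoc w]
    exact mul_mem hw (conj_mem_normalizer (hnat.normalizes he) (inv_mem hw))
  have hc : ⁅w, e⁆ ∈ Subgroup.centralizer (R : Set G) := by
    refine Subgroup.mem_centralizer_iff.2 fun r hr => ?_
    have hz := pCore_centralizes_section T hE hr hw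
    have hq := conj_pCore_mem T hE hr he
    set z := r * w * r⁻¹ * w⁻¹
    set q := r * e * r⁻¹ * e⁻¹
    have hqE : q ∈ E := Subgroup.map_subtype_le _ hq
    have hzc : ∀ x ∈ E, x * z = z * x := fun x hx => Subgroup.mem_centralizer_iff.1 hz.2 x hx
    have hew : e * w⁻¹ * e⁻¹ ∈ W := conj_mem_normalizer (hnat.normalizes he) (inv_mem hw)
    have hzw : (e * w⁻¹ * e⁻¹) * z⁻¹ = z⁻¹ * (e * w⁻¹ * e⁻¹) :=
      omegaOneCenter_comm p Q (inv_mem hz.1) (omegaOneCenter_le p Q hew)
    have hzw' : w * z = z * w := omegaOneCenter_comm p Q hz.1 (omegaOneCenter_le p Q hw)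
    have hqw : q * (e * w⁻¹ * e⁻¹) * q⁻¹ = e * w⁻¹ * e⁻¹ := by
      rw [omegaOneCenter_comm p Q hew hq, mul_inv_cancel_right]
    have key : r * ⁅w, e⁆ * r⁻¹ = ⁅w, e⁆ := by
      calc r * ⁅w, e⁆ * r⁻¹ = z * w * ((q * e) * (w⁻¹ * z⁻¹) * (q * e)⁻¹) := by
            simp only [q, z, commutatorElement_def]; group
        _ = z * w * ((q * (e * w⁻¹ * e⁻¹) * q⁻¹) * ((q * e) * z⁻¹ * (q * e)⁻¹)) := by group
        _ = z * w * ((e * w⁻¹ * e⁻¹) * z⁻¹) := by
            rw [hqw, (Commute.inv_right (hzc _ (mul_mem hqE he))).eq, mul_inv_cancel_right]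
        _ = z * (w * z⁻¹) * (e * w⁻¹ * e⁻¹) := by rw [hzw]; group
        _ = ⁅w, e⁆ := by
            rw [(Commute.inv_right hzw').eq, mul_inv_cancel_left, commutatorElement_def]; group
    calc r * ⁅w, e⁆ = r * ⁅w, e⁆ * r⁻¹ * r := by group
      _ = ⁅w, e⁆ * r := by rw [key]
  exact Subgroup.subset_closure ⟨⟨hG hc, hc⟩, omegaOneCenter_pow p Q hmem⟩

omit hE in
theorem commutator_normalized {A B : Subgroup G} {g : G} (hA : g ∈ Subgroup.normalizer (A : Set G))
    (hB : g ∈ Subgroup.normalizer (B : Set G)) : g ∈ Subgroup.normalizer ((⁅A, B⁆ : Subgroup G) : Set G) := by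
  refine mem_normalizer_of_map_le fun x hx => ?_
  have h := Subgroup.map_commutator A B (MulAut.conj g).toMonoidHom
  have h2 : g * x * g⁻¹ ∈ (⁅A, B⁆ : Subgroup G).map (MulAut.conj g).toMonoidHom := ⟨x, hx, rfl⟩
  rw [h] at h2
  refine Subgroup.commutator_mono ?_ ?_ h2
  · rintro _ ⟨a, ha, rfl⟩; exact conj_mem_normalizer hA ha
  · rintro _ ⟨a, ha, rfl⟩; exact conj_mem_normalizer hB ha

theorem block_moves_commutator :
    ¬ ∀ e ∈ E, ∀ c ∈ (⁅omegaOneCenter p (pCoreOf p E), E⁆ : Subgroup G), e * c = c * e := by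
  intro hc
  set Q := pCoreOf p E with hQ
  set W := omegaOneCenter p Q with hW
  have hnat := natSection_of_block hE
  obtain ⟨e, he, w, hw, hne⟩ := hnat.moves
  refine hne ?_
  let L : Subgroup G :=
    { carrier := {x | x ∈ E ∧ x * w = w * x}
      one_mem' := ⟨one_mem _, by simp⟩
      mul_mem' := fun {a b} ha hb => ⟨mul_mem ha.1 hb.1, (Commute.mul_left ha.2 hb.2).eq⟩
      inv_mem' := fun {a} ha => ⟨inv_mem ha.1, (Commute.inv_left ha.2).eq⟩ }
  have hEL : E ≤ L := le_of_coprime hE.1 fun x hx hxc => by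
    refine ⟨hx, ?_⟩
    set d := x * w * x⁻¹ * w⁻¹ with hd
    have hdm : d ∈ W := mul_mem (conj_mem_normalizer (hnat.normalizes hx) hw) (inv_mem hw)
    have hdc : d ∈ (⁅W, E⁆ : Subgroup G) := by
      have := inv_mem (Subgroup.commutator_mem_commutator hw hx)
      simpa [hd, commutatorElement_def, mul_assoc] using this
    have h1 := eq_one_of_translation (y := x) (d := d) (r := w) hxc
      (by rw [hc x hx d hdc, mul_inv_cancel_right]) (omegaOneCenter_pow p Q hdm) (by rw [hd]; group)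
    calc x * w = d * w * x := by rw [hd]; group
      _ = w * x := by rw [h1, one_mul]
  rw [(hEL he).2, mul_inv_cancel_right, mul_inv_cancel]
  exact one_mem _

theorem thompson_not_centralize (hG : Subgroup.centralizer (pCore p G : Set G) ≤ pCore p G) :
    ⁅⁅omegaOneCenter p (pCoreOf p E), E⁆, thompsonSubgroupOf p (T : Subgroup G)⁆ ≠ ⊥ := by
  intro hbot
  set Q := pCoreOf p E with hQ
  set W := omegaOneCenter p Q with hW
  set J := thompsonSubgroupOf p (T : Subgroup G) with hJ
  set WE := (⁅W, E⁆ : Subgroup G) with hWE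
  have hnat := natSection_of_block hE
  have hcl := commutator_le_omega T hE hG
  have hWER : WE ≤ pCore p G := hcl.trans (omegaOneCenter_le p _)
  have hWET : WE ≤ (T : Subgroup G) := hWER.trans (CfsgLib.pCore_le_sylow T)
  have hWJc : ∀ c ∈ WE, ∀ j ∈ J, j * c = c * j := fun c hc j hj => by
    have := Subgroup.mem_bot.1 (hbot ▸ Subgroup.commutator_mem_commutator hc hj)
    exact (commutatorElement_eq_one_iff_mul_comm.1 this).symm
  obtain ⟨A, hA⟩ : ∃ A : Subgroup ↥(T : Subgroup G), A ∈ maxElementaryAbelianSubgroups p ↥(T : Subgroup G) := by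
    classical
    let S : Set (Subgroup ↥(T : Subgroup G)) := {A | IsElementaryAbelian p A}
    have hS : (⊥ : Subgroup ↥(T : Subgroup G)) ∈ S :=
      ⟨⟨⟨fun a b => Subtype.ext (by
          have := Subgroup.mem_bot.1 a.2
          have := Subgroup.mem_bot.1 b.2
          simp_all)⟩⟩, fun a ha => by rw [Subgroup.mem_bot.1 ha, one_pow]⟩
    obtain ⟨A, hAS, hA⟩ := Set.Finite.exists_maximalFor (fun A : Subgroup ↥(T : Subgroup G) => Nat.card A) S
      S.toFinite ⟨⊥, hS⟩
    refine ⟨A, hAS, fun B hB => ?_⟩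
    rcases le_total (Nat.card B) (Nat.card A) with h | h
    · exact h
    · exact hA hB h
  let X := A ⊔ WE.subgroupOf (T : Subgroup G)
  have hAJ : ∀ a ∈ A, (a : G) ∈ J := fun a ha => ⟨a, le_sSup hA ha, rfl⟩
  have hX : IsElementaryAbelian p X := by
    have hXeq : X = Subgroup.closure ((A : Set ↥(T : Subgroup G)) ∪ (WE.subgroupOf (T : Subgroup G) : Set _)) := by
      rw [Subgroup.closure_union, Subgroup.closure_eq, Subgroup.closure_eq]
    have hgen : ∀ a ∈ ((A : Set ↥(T : Subgroup G)) ∪ (WE.subgroupOf (T : Subgroup G) : Set _)),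
        ∀ b ∈ ((A : Set ↥(T : Subgroup G)) ∪ (WE.subgroupOf (T : Subgroup G) : Set _)), a * b = b * a := by
      have hAc := hA.1.1
      intro a ha b hb
      rcases ha with ha | ha <;> rcases hb with hb | hb
      · exact setLike_mul_comm ha hb
      · exact Subtype.ext (hWJc _ hb _ (hAJ a ha))
      · exact Subtype.ext (hWJc _ ha _ (hAJ b hb)).symm
      · refine Subtype.ext (omegaOneCenter_comm p _ (hcl hb) (hWER ha))
    have hcomm := Subgroup.isMulCommutative_closure hgen
    rw [hXeq]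
    refine ⟨hcomm, fun x hx => ?_⟩
    induction hx using Subgroup.closure_induction with
    | mem y hy =>
      rcases hy with hy | hy
      · exact hA.1.2 y hy
      · exact Subtype.ext (by simpa using omegaOneCenter_pow p _ (hcl hy))
    | one => simp
    | mul a b ha hb e1 e2 =>
      rw [(show Commute a b from setLike_mul_comm ha hb).mul_pow, e1, e2, one_mul]
    | inv a _ e1 => rw [inv_pow, e1, inv_one]
  have hXA : A = X := Subgroup.eq_of_le_of_card_ge le_sup_left (hA.2 X hX)
  have hWEJ : WE ≤ J := fun c hc =>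
    hAJ ⟨c, hWET hc⟩ (by rw [hXA]; exact Subgroup.mem_sup_right hc)
  have hWEΩ : WE ≤ omegaOne p (centerThompsonOf p (T : Subgroup G)) := fun c hc =>
    Subgroup.subset_closure ⟨⟨hWEJ hc, Subgroup.mem_centralizer_iff.2 fun j hj => hWJc c hc j hj⟩,
      omegaOneCenter_pow p _ (hcl hc)⟩
  apply block_moves_commutator T hE
  have hEC : E ≤ Subgroup.centralizer (WE : Set G) := by
    rw [← hE.2.1, Subgroup.commutator_le]
    intro e he b hb
    have hbc : b ∈ Subgroup.centralizer (WE : Set G) := Subgroup.centralizer_le hWEΩ hb.2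
    have heN : e ∈ Subgroup.normalizer (WE : Set G) :=
      commutator_normalized (hnat.normalizes he) (Subgroup.le_normalizer he)
    rw [commutatorElement_def]
    exact mul_mem (conj_mem_normalizer (normalizer_le_normalizer_centralizer WE heN) hbc) (inv_mem hbc)
  exact fun e he c hc => (Subgroup.mem_centralizer_iff.1 (hEC he) c hc).symm

theorem centralizer_le_normalizer_of_eq (hG : Subgroup.centralizer (pCore p G : Set G) ≤ pCore p G)
    (hQW : pCoreOf p E = omegaOneCenter p (pCoreOf p E)) :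
    Subgroup.centralizer ((⁅omegaOneCenter p (pCoreOf p E), E⁆ : Subgroup G) : Set G) ≤
      Subgroup.normalizer (E : Set G) := by
  set Q := pCoreOf p E with hQ
  set W := omegaOneCenter p Q with hW
  set WE := (⁅W, E⁆ : Subgroup G) with hWE
  set C := Subgroup.centralizer (WE : Set G) with hC
  set R := pCore p G with hR
  have hnat := natSection_of_block hE
  have hcl := commutator_le_omega T hE hG
  have hWER : WE ≤ R := hcl.trans (omegaOneCenter_le p _)
  have hEWE : E ≤ Subgroup.normalizer (WE : Set G) := fun e he =>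
    commutator_normalized (hnat.normalizes he) (Subgroup.le_normalizer he)
  let L : Subgroup G :=
    { carrier := {g | g ∈ Subgroup.normalizer (WE : Set G) ∧ ∀ r ∈ R, g * r * g⁻¹ * r⁻¹ ∈ WE}
      one_mem' := ⟨one_mem _, fun r _ => by simp⟩
      mul_mem' := fun {a b} ha hb => ⟨mul_mem ha.1 hb.1, fun r hr => by
        have e1 : a * b * r * (a * b)⁻¹ * r⁻¹ = (a * (b * r * b⁻¹ * r⁻¹) * a⁻¹) * (a * r * a⁻¹ * r⁻¹) := by group
        rw [e1]
        exact mul_mem (conj_mem_normalizer ha.1 (hb.2 r hr)) (ha.2 r hr)⟩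
      inv_mem' := fun {a} ha => ⟨inv_mem ha.1, fun r hr => by
        have e1 : a⁻¹ * r * a⁻¹⁻¹ * r⁻¹ = a⁻¹ * (a * r * a⁻¹ * r⁻¹)⁻¹ * a⁻¹⁻¹ := by group
        rw [e1]
        exact conj_mem_normalizer (inv_mem ha.1) (inv_mem (ha.2 r hr))⟩ }
  have hEL : E ≤ L := by
    refine le_of_coprime hE.1 fun x hx hxc => ⟨hEWE hx, fun r hr => ?_⟩
    set w := x * r * x⁻¹ * r⁻¹ with hw
    have hwW : w ∈ W := by
      rw [← hQW]
      have := inv_mem (conj_pCore_mem T hE hr hx)
      simpa [hw, mul_assoc] using this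
    have hwm : ∀ n : ℕ, ∃ d ∈ WE, x ^ n * r * (x ^ n)⁻¹ = d * w ^ n * r := by
      intro n
      induction n with
      | zero => exact ⟨1, one_mem _, by simp⟩
      | succ n ih =>
        obtain ⟨d, hd, hdn⟩ := ih
        refine ⟨(x * d * x⁻¹) * (x * w ^ n * x⁻¹ * (w ^ n)⁻¹), mul_mem (conj_mem_normalizer (hEWE hx) hd) ?_, ?_⟩
        · have := inv_mem (Subgroup.commutator_mem_commutator (pow_mem hwW n) hx)
          simpa [commutatorElement_def, mul_assoc] using this
        · calc x ^ (n + 1) * r * (x ^ (n + 1))⁻¹ = x * (x ^ n * r * (x ^ n)⁻¹) * x⁻¹ := by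
                rw [pow_succ']; group
            _ = x * (d * w ^ n * r) * x⁻¹ := by rw [hdn]
            _ = _ := by rw [pow_succ, hw]; group
    obtain ⟨d, hd, hdn⟩ := hwm (orderOf x)
    rw [pow_orderOf_eq_one, one_mul, inv_one, mul_one, right_eq_mul] at hdn
    obtain ⟨m, hm⟩ := exists_pow_eq_self_of_coprime (x := w) (n := orderOf x)
      (Nat.Coprime.coprime_dvd_right (orderOf_dvd_of_pow_eq_one (omegaOneCenter_pow p Q hwW)) hxc)
    rw [← hm, eq_inv_of_mul_eq_one_right hdn]
    exact pow_mem (inv_mem hd) m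
  have hCN : ∀ g ∈ Subgroup.normalizer (WE : Set G), g ∈ Subgroup.normalizer (C : Set G) := fun g hg =>
    normalizer_le_normalizer_centralizer WE hg
  have hCW : C ≤ Subgroup.normalizer (WE : Set G) := fun c hc =>
    mem_normalizer_of_map_le fun x hx => by
      rw [← Subgroup.mem_centralizer_iff.1 hc x hx, mul_inv_cancel_right]; exact hx
  set K := (⁅E, C⁆ : Subgroup G) with hK
  have hKL : K ≤ L ⊓ C := by
    rw [hK, Subgroup.commutator_le]
    intro e he c hc
    refine ⟨?_, ?_⟩
    · rw [commutatorElement_def, mul_assoc e, mul_assoc e]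
      refine mul_mem (hEL he) ⟨mul_mem (mul_mem (hCW hc) (hEWE (inv_mem he))) (hCW (inv_mem hc)), fun r hr => ?_⟩
      have hl := (hEL (inv_mem he)).2 _ ((inferInstance : R.Normal).conj_mem r hr c⁻¹)
      have := conj_mem_normalizer (hCW hc) hl
      simpa [mul_assoc] using this
    · rw [commutatorElement_def]
      exact show _ ∈ C from mul_mem (conj_mem_normalizer (hCN e (hEWE he)) hc) (inv_mem hc)
  have hKp : IsPGroup p K := by
    intro g
    obtain ⟨k, hk⟩ := exists_coprime_power (p := p) (g : G)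
    refine ⟨k, Subtype.ext ?_⟩
    rw [SubmonoidClass.coe_pow, OneMemClass.coe_one]
    set y := (g : G) ^ p ^ k with hy
    have hyK : y ∈ L ⊓ C := hKL (pow_mem g.2 _)
    have hyR : y ∈ Subgroup.centralizer (R : Set G) := Subgroup.mem_centralizer_iff.2 fun r hr => by
      have hd := hyK.1.2 r hr
      have h1 := eq_one_of_translation (y := y) (d := y * r * y⁻¹ * r⁻¹) (r := r) hk
        (by rw [← Subgroup.mem_centralizer_iff.1 hyK.2 _ hd, mul_inv_cancel_right])
        (omegaOneCenter_pow p _ (hcl hd)) (by group)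
      calc r * y = (y * r * y⁻¹ * r⁻¹)⁻¹ * (y * r) := by group
        _ = y * r := by rw [h1, inv_one, one_mul]
    obtain ⟨i, hi⟩ := CfsgLib.isPGroup_pCore p ⟨y, hG hyR⟩
    have hyi : y ^ p ^ i = 1 := congrArg Subtype.val hi
    exact orderOf_eq_one_iff.mp (Nat.eq_one_of_dvd_coprimes (Nat.Coprime.pow_right i hk)
      dvd_rfl (orderOf_dvd_of_pow_eq_one hyi))
  have hBK : baumannSubgroupOf p (T : Subgroup G) ≤ Subgroup.normalizer (K : Set G) := fun b hb => by
    have hbE := le_normalizer_of_commutator_eq hE.2.1 hb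
    exact commutator_normalized hbE (hCN b (commutator_normalized
      (normalizer_le_normalizer_omegaOneCenter p Q (normalizer_le_normalizer_pCoreOf E hbE)) hbE))
  have hEK : E ≤ Subgroup.normalizer (K : Set G) := fun e he =>
    commutator_normalized (Subgroup.le_normalizer he) (hCN e (hEWE he))
  have hKE := le_normalizer_block T hE.1 hE.2.1 hKp hBK hEK
  intro c hc
  have hle : E ≤ E.comap (MulAut.conj c).toMonoidHom := by
    refine le_of_coprime hE.1 fun x hx hxc => ?_
    show c * x * c⁻¹ ∈ E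
    refine mem_of_mem_sup_coprime hKp hKE ?_ ?_
    · have e : c * x * c⁻¹ = (⁅x, c⁆)⁻¹ * x := by rw [commutatorElement_def]; group
      rw [e]
      exact mul_mem (Subgroup.mem_sup_right (inv_mem (Subgroup.commutator_mem_commutator hx hc)))
        (Subgroup.mem_sup_left hx)
    · rwa [← MulAut.conj_apply, MulEquiv.orderOf_eq]
  exact mem_normalizer_of_map_le fun x hx => hle hx

end

end CfsgLib.BBlock
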