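import Cfsg.Agent.Lib.Baumann.BlockKind

/-!
Conjugates of subnormal blocks are subnormal blocks.
-/

set_option autoImplicit false
set_option linter.unusedSectionVars false

universe u

namespace CfsgLib.BBlock

open Cfsg
open scoped commutatorElement

variable {G : Type u} [Group G] [Finite G] {p : ℕ} [Fact p.Prime]

section
variable (f : G →* G) (hb : Function.Bijective f)
include hb

theorem pCoreOf_map_aut (K : Subgroup G) :
    pCoreOf p (K.map f) = (pCoreOf p K).map f := by
  rw [pCoreOf, pCoreOf, ← CfsgLib.pCore_map_equiv p (K.equivMapOfInjective f hb.1),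
    Subgroup.map_map, Subgroup.map_map]
  rfl

theorem omegaOneCenter_map_aut (K : Subgroup G) :
    omegaOneCenter p (K.map f) = (omegaOneCenter p K).map f :=
  (CfsgLib.PLocal.omegaZ_map (p := p) f fun _ _ _ _ h => hb.1 h).symm

theorem centralizer_map_aut (K : Subgroup G) :
    Subgroup.centralizer ((K.map f : Subgroup G) : Set G) =
      (Subgroup.centralizer (K : Set G)).map f := by
  ext x
  constructor
  · intro hx
    obtain ⟨y, rfl⟩ := hb.2 x
    refine ⟨y, fun k hk => hb.1 ?_, rfl⟩
    rw [map_mul, map_mul]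
    exact hx (f k) ⟨k, hk, rfl⟩
  · rintro ⟨y, hy, rfl⟩ _ ⟨k, hk, rfl⟩
    rw [← map_mul, ← map_mul, hy k hk]

theorem inf_centralizer_map_aut (A K : Subgroup G) :
    A.map f ⊓ Subgroup.centralizer ((K.map f : Subgroup G) : Set G) =
      (A ⊓ Subgroup.centralizer (K : Set G)).map f := by
  rw [centralizer_map_aut f hb, Subgroup.map_inf _ _ _ hb.1]

theorem baumannSubgroupOf_map_aut (T : Subgroup G) :
    baumannSubgroupOf p (T.map f) = (baumannSubgroupOf p T).map f := by
  have h : omegaOne p (centerThompsonOf p (T.map f)) =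
      (omegaOne p (centerThompsonOf p T)).map f := by
    show omegaOneCenter p (thompsonSubgroupOf p (T.map f)) = _
    rw [← CfsgLib.PLocal.thompsonSubgroupOf_map (p := p) f fun _ _ _ _ h => hb.1 h,
      omegaOneCenter_map_aut f hb]
    rfl
  rw [baumannSubgroupOf, baumannSubgroupOf, h, inf_centralizer_map_aut f hb]

theorem actsAsSL2_map_aut {F : Type} [Field F] {R : Subgroup (Matrix.SpecialLinearGroup (Fin 2) F)}
    {E U U₀ : Subgroup G} (h : ActsAsSL2OnSection F R E U U₀) :
    ActsAsSL2OnSection F R (E.map f) (U.map f) (U₀.map f) := by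
  obtain ⟨hN, hle, ρ, ψ, hρ, hψ, hker, heq⟩ := h
  refine ⟨(Subgroup.map_mono hN).trans (Subgroup.le_normalizer_map _), Subgroup.map_mono hle,
    ρ.comp (E.equivMapOfInjective f hb.1).symm.toMonoidHom,
    ψ.comp (U.equivMapOfInjective f hb.1).symm.toMonoidHom, ?_, ?_, ?_, ?_⟩
  · rw [← hρ, MonoidHom.range_comp, MonoidHom.range_eq_top.2 (MulEquiv.surjective _), ← MonoidHom.range_eq_map]
  · exact hψ.comp (MulEquiv.surjective _)
  · intro x
    obtain ⟨u, rfl⟩ := (U.equivMapOfInjective f hb.1).surjective x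
    rw [MonoidHom.comp_apply, MulEquiv.coe_toMonoidHom, MulEquiv.symm_apply_apply, hker,
      Subgroup.coe_equivMapOfInjective_apply]
    exact (Subgroup.mem_map_iff_mem hb.1).symm
  · intro a x
    obtain ⟨b, rfl⟩ := (E.equivMapOfInjective f hb.1).surjective a
    obtain ⟨u, rfl⟩ := (U.equivMapOfInjective f hb.1).surjective x
    obtain ⟨w, hw, hw'⟩ := heq b u
    refine ⟨U.equivMapOfInjective f hb.1 w, ?_, ?_⟩
    · simp [hw]
    · simpa using hw'

theorem actsAsOddPerm_map_aut {n : ℕ} {R : Subgroup (Equiv.Perm (Fin n))} {E U U₀ : Subgroup G}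
    (h : ActsAsOddPermModuleOnSection n R E U U₀) :
    ActsAsOddPermModuleOnSection n R (E.map f) (U.map f) (U₀.map f) := by
  obtain ⟨hN, hle, ρ, ψ, hρ, hev, hψ, hker, heq⟩ := h
  refine ⟨(Subgroup.map_mono hN).trans (Subgroup.le_normalizer_map _), Subgroup.map_mono hle,
    ρ.comp (E.equivMapOfInjective f hb.1).symm.toMonoidHom,
    ψ.comp (U.equivMapOfInjective f hb.1).symm.toMonoidHom, ?_, ?_, ?_, ?_, ?_⟩
  · rw [← hρ, MonoidHom.range_comp, MonoidHom.range_eq_top.2 (MulEquiv.surjective _), ← MonoidHom.range_eq_map]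
  · exact fun x => hev _
  · intro v hv
    obtain ⟨u, hu⟩ := hψ v hv
    exact ⟨U.equivMapOfInjective f hb.1 u, by simpa using hu⟩
  · intro x
    obtain ⟨u, rfl⟩ := (U.equivMapOfInjective f hb.1).surjective x
    rw [MonoidHom.comp_apply, MulEquiv.coe_toMonoidHom, MulEquiv.symm_apply_apply, hker,
      Subgroup.coe_equivMapOfInjective_apply]
    exact (Subgroup.mem_map_iff_mem hb.1).symm
  · intro a x
    obtain ⟨b, rfl⟩ := (E.equivMapOfInjective f hb.1).surjective a
    obtain ⟨u, rfl⟩ := (U.equivMapOfInjective f hb.1).surjective x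
    obtain ⟨w, hw, hw'⟩ := heq b u
    refine ⟨U.equivMapOfInjective f hb.1 w, ?_, ?_⟩
    · simp [hw]
    · intro i; simpa using hw' i

theorem isBaumannBlock_map_aut [Finite G] [Fact p.Prime] {T E : Subgroup G} (h : IsBaumannBlock p T E) :
    IsBaumannBlock p (T.map f) (E.map f) := by
  obtain ⟨hres, hEB, hQ, hne, hcases⟩ := h
  have hinj : Function.Injective f := hb.1
  refine ⟨le_antisymm (Subgroup.map_subtype_le _) ?_, ?_, ?_, ?_, ?_⟩
  · rw [Subgroup.map_le_iff_le_comap]
    refine le_of_coprime hres fun g hg hc => ?_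
    exact mem_pResidualOf ⟨g, hg, rfl⟩ (by rw [orderOf_injective f hinj]; exact hc)
  · rw [baumannSubgroupOf_map_aut f hb, ← Subgroup.map_commutator, hEB]
  · rw [pCoreOf_map_aut f hb, ← Subgroup.map_commutator, hQ]
  · rw [omegaOneCenter_map_aut f hb, ← Subgroup.map_commutator, Ne, Subgroup.map_eq_bot_iff_of_injective _ hinj]
    exact hne
  · have iso : ↥E ⧸ pCore p ↥E ≃* ↥(E.map f) ⧸ pCore p ↥(E.map f) :=
      QuotientGroup.congr _ _ (E.equivMapOfInjective f hinj) (CfsgLib.pCore_map_equiv p _)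
    rw [pCoreOf_map_aut f hb, omegaOneCenter_map_aut f hb, inf_centralizer_map_aut f hb, baumannSubgroupOf_map_aut f hb]
    rcases hcases with ⟨F, hF, hFt, n, hcF, ⟨i⟩, hact, hshape⟩ | ⟨hp2, m, ⟨i⟩, hact, heq⟩
    · refine Or.inl ⟨F, hF, hFt, n, hcF, ⟨iso.symm.trans i⟩, actsAsSL2_map_aut f hb hact, ?_⟩
      rcases hshape with h | ⟨hp3, h1, h2, h3, h4, h5, h6⟩
      · exact Or.inl (by rw [← h])
      refine Or.inr ⟨hp3, actsAsSL2_map_aut f hb h1, ?_, ?_, ?_, ?_, ?_⟩
      · rw [← Subgroup.map_commutator, h2]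
      · have hη : (frattini ↥(pCoreOf p E)).map ((pCoreOf p E).equivMapOfInjective f hinj).toMonoidHom =
            frattini ↥((pCoreOf p E).map f) :=
          le_antisymm (Subgroup.map_le_iff_le_comap.2 (frattini_le_comap_frattini_of_surjective
              (MulEquiv.surjective _))) fun y hy =>
            ⟨((pCoreOf p E).equivMapOfInjective f hinj).symm y,
              frattini_le_comap_frattini_of_surjective (φ := ((pCoreOf p E).equivMapOfInjective f hinj).symm.toMonoidHom)
                (MulEquiv.surjective _) hy, MulEquiv.apply_symm_apply _ _⟩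
        rw [← hη, Subgroup.map_map, ← h3, Subgroup.map_map]
        rfl
      · rw [inf_centralizer_map_aut f hb, h4]
      · rw [inf_centralizer_map_aut f hb, Subgroup.card_map_of_injective hinj]; exact h5
      · intro b hb hbW hle
        obtain ⟨a, ha, rfl⟩ := hb
        refine h6 a ha (fun hc => hbW ?_) ?_
        · rw [centralizer_map_aut f hb]; exact ⟨a, hc, rfl⟩
        · rw [inf_centralizer_map_aut f hb, ← MonoidHom.map_zpowers, ← Subgroup.map_commutator,
            ← Subgroup.map_commutator, Subgroup.map_le_map_iff_of_injective hinj] at hle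
          exact hle
    · exact Or.inr ⟨hp2, m, ⟨iso.symm.trans i⟩, actsAsOddPerm_map_aut f hb hact, by rw [← heq]⟩

end

theorem IsSubBlock.conj [Finite G] [Fact p.Prime] {E : Subgroup G} (hE : IsSubBlock p E) (g : G) :
    IsSubBlock p (E.map (MulAut.conj g).toMonoidHom) := by
  obtain ⟨⟨T, hT⟩, hs⟩ := hE
  refine ⟨⟨g • T, ?_⟩, hs.map (MulAut.conj g).surjective⟩
  exact isBaumannBlock_map_aut (MulAut.conj g).toMonoidHom (MulAut.conj g).bijective hT

end CfsgLib.BBlock
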