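import Cfsg.Agent.Lib.Baumann.BlockMutual
import Cfsg.Agent.Lib.Baumann.BlockConj

/-!
Subnormal blocks are equal or commute.
-/

set_option autoImplicit false
set_option linter.unusedSectionVars false

universe u

namespace CfsgLib.BBlock

open Cfsg
open scoped commutatorElement

variable {G : Type u} [Group G] [Finite G] {p : ℕ} [Fact p.Prime] {E F : Subgroup G}

local notation:max "Qc" E:max => pCoreOf p E

theorem isComponent_image (hE : IsSubBlock p E) (hq : IsQuasisimple (↥E ⧸ pCore p ↥E)) :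
    IsComponent (E.map (QuotientGroup.mk' (pCore p G))) := by
  refine ⟨hE.2.map (QuotientGroup.mk'_surjective _), ?_⟩
  set φ := (QuotientGroup.mk' (pCore p G)).comp E.subtype with hφ
  have hker : φ.ker = pCore p ↥E := by
    ext x
    rw [MonoidHom.mem_ker]
    constructor
    · intro h
      obtain ⟨y, hy, hyx⟩ := hE.mem_q x.2 ((QuotientGroup.eq_one_iff _).1 h)
      rwa [← Subtype.ext hyx]
    · intro h
      exact (QuotientGroup.eq_one_iff _).2 (hE.q_le_core ⟨x, h, rfl⟩)
  have hr : φ.range = E.map (QuotientGroup.mk' (pCore p G)) := by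
    rw [hφ, MonoidHom.range_comp, Subgroup.range_subtype]
  exact isQuasisimple_of_equiv (((QuotientGroup.quotientMulEquivOfEq hker.symm).trans
    (QuotientGroup.quotientKerEquivRange φ)).trans (MulEquiv.subgroupCongr hr)) hq

theorem image_le_fitting (hF : IsSubBlock p F) (hk : KindTwo p F ∨ ∃ z, KindThree p F z) :
    F.map (QuotientGroup.mk' (pCore p G)) ≤ fittingSubgroup (G ⧸ pCore p G) := by
  refine CfsgLib.isSubnormal_nilpotent_le_fitting (hF.2.map (QuotientGroup.mk'_surjective _)) ?_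
  rcases hk with h | ⟨z, h⟩
  · have : Fact (Nat.Prime 3) := ⟨Nat.prime_three⟩
    refine IsPGroup.isNilpotent (p := 3) fun x => ⟨1, ?_⟩
    obtain ⟨_, f, hf, rfl⟩ := x
    rw [pow_one]
    exact Subtype.ext (show QuotientGroup.mk' (pCore p G) f ^ 3 = 1 by
      rw [← map_pow]; exact (QuotientGroup.eq_one_iff _).2 (h.cube_mem hF hf))
  · have : Fact (Nat.Prime 2) := ⟨Nat.prime_two⟩
    refine IsPGroup.isNilpotent (p := 2) fun x => ⟨2, ?_⟩
    obtain ⟨_, f, hf, rfl⟩ := x
    exact Subtype.ext (h.pow_four_mem hF hf)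

theorem mod_of_image (h : ⁅E.map (QuotientGroup.mk' (pCore p G)), F.map (QuotientGroup.mk' (pCore p G))⁆ = ⊥) :
    ∀ e ∈ E, ∀ f ∈ F, ⁅e, f⁆ ∈ pCore p G := by
  intro e he f hf
  rw [← Subgroup.map_commutator] at h
  have h1 : QuotientGroup.mk' (pCore p G) ⁅e, f⁆ ∈ (⊥ : Subgroup (G ⧸ pCore p G)) :=
    h ▸ ⟨_, Subgroup.commutator_mem_commutator he hf, rfl⟩
  exact (QuotientGroup.eq_one_iff _).1 (Subgroup.mem_bot.1 h1)

theorem le_of_image_le (hE : IsSubBlock p E) (hF : IsSubBlock p F)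
    (h : F.map (QuotientGroup.mk' (pCore p G)) ≤ E.map (QuotientGroup.mk' (pCore p G))) : F ≤ E := by
  refine le_of_coprime hF.res fun f hf hc =>
    mem_of_mem_sup_coprime (CfsgLib.isPGroup_pCore p) hE.core_le_normalizer ?_ hc
  obtain ⟨e, he, hef⟩ := h ⟨f, hf, rfl⟩
  rw [show f = e * (e⁻¹ * f) by group]
  exact mul_mem (Subgroup.mem_sup_left he) (Subgroup.mem_sup_right ((QuotientGroup.eq (s := pCore p G)).1 hef))

theorem eq_or_commute_qs (hG : Subgroup.centralizer (pCore p G : Set G) ≤ pCore p G)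
    (hE : IsSubBlock p E) (hF : IsSubBlock p F) (hq : IsQuasisimple (↥E ⧸ pCore p ↥E)) :
    E = F ∨ ⁅E, F⁆ = ⊥ := by
  have hEc := isComponent_image hE hq
  rcases (block_kind hF).1 with hk | hk | hk
  · rcases components_eq_or_commute hEc (isComponent_image hF hk) with h | h
    · exact Or.inl (le_antisymm (le_of_image_le hF hE h.le) (le_of_image_le hE hF h.ge))
    · exact eq_or_commute_of_mod hG hE hF (mod_of_image h)
  all_goals
    refine eq_or_commute_of_mod hG hE hF (mod_of_image (le_bot_iff.1 ?_))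
    rw [← component_commutator_fitting hEc]
    exact Subgroup.commutator_mono le_rfl (image_le_fitting hF (by tauto))

theorem mutual_two (hE : IsSubBlock p E) (hF : IsSubBlock p F) (hE2 : KindTwo p E) (hF2 : KindTwo p F)
    (hFE : F ≤ Subgroup.normalizer (E : Set G)) (hEF : E ≤ Subgroup.normalizer (F : Set G)) :
    E = F ∨ ∀ e ∈ E, ∀ f ∈ F, ⁅e, f⁆ ∈ pCore p G := by
  by_contra hcon
  simp only [not_or, not_forall] at hcon
  obtain ⟨hne, e, he, f, hf, hc⟩ := hcon
  set c := ⁅e, f⁆ with hcdef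
  have hcE : c ∈ E := by
    rw [hcdef, show ⁅e, f⁆ = e * (f * e⁻¹ * f⁻¹) by rw [commutatorElement_def]; group]
    exact mul_mem he (conj_mem_normalizer (hFE hf) (inv_mem he))
  have hcF : c ∈ F := by
    rw [hcdef, commutatorElement_def]
    exact mul_mem (conj_mem_normalizer (hEF he) hf) (inv_mem hf)
  have hcard : Nat.card (↥E ⧸ pCore p ↥E) = 3 := by
    have h := (pCore p ↥E).card_eq_card_quotient_mul_card_subgroup
    rw [hE2.card, pCoreOf, Subgroup.card_map_of_injective E.subtype_injective, mul_comm] at h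
    exact (Nat.eq_of_mul_eq_mul_right Nat.card_pos h).symm
  have : Fact (Nat.Prime 3) := ⟨Nat.prime_three⟩
  have hc1 : ((⟨c, hcE⟩ : ↥E) : ↥E ⧸ pCore p ↥E) ≠ 1 := fun h => hc
    (hE.q_le_core ⟨_, (QuotientGroup.eq_one_iff _).1 h, rfl⟩)
  refine hne (Subgroup.eq_of_le_of_card_ge ?_
    (by rw [hE2.card, hF2.card, hE2.eqW, hF2.eqW, hE2.cardW, hF2.cardW]))
  refine le_of_coprime hE.res fun a ha hac =>
    mem_of_mem_sup_coprime (CfsgLib.isPGroup_pCore p) hF.core_le_normalizer ?_ hac
  obtain ⟨i, hi⟩ := mem_powers_of_prime_card hcard (g' := ((⟨a, ha⟩ : ↥E) : ↥E ⧸ pCore p ↥E)) hc1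
  have hq : ((⟨c, hcE⟩ : ↥E) ^ i)⁻¹ * ⟨a, ha⟩ ∈ pCore p ↥E := by
    rw [← QuotientGroup.eq, QuotientGroup.mk_pow]; exact hi
  rw [show a = c ^ i * ((c ^ i)⁻¹ * a) by group]
  exact mul_mem (Subgroup.mem_sup_left (pow_mem hcF i))
    (Subgroup.mem_sup_right (hE.q_le_core ⟨_, hq, by simp⟩))

theorem eq_or_commute (hG : Subgroup.centralizer (pCore p G : Set G) ≤ pCore p G)
    (hE : IsSubBlock p E) (hF : IsSubBlock p F) : E = F ∨ ⁅E, F⁆ = ⊥ := by
  induction hn : Nat.card ↥(E ⊔ F) using Nat.strong_induction_on generalizing E F with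
  | h n ih =>
    subst hn
    have hconj : ∀ {A B : Subgroup G}, IsSubBlock p A → IsSubBlock p B → A ⊔ B = E ⊔ F → ConjCommute A B := by
      intro A B hA hB hAB a ha hmove x hx
      have hAX : A ≤ A ⊔ B := le_sup_left
      have hne : A.map (MulAut.conj a).toMonoidHom ≠ A := fun h => hmove
        (mem_normalizer_of_map_le fun y hy => h.le ⟨y, hy, rfl⟩)
      rcases (hA.2.subgroupOf (K := A ⊔ B)).lt_normal with htop | ⟨M, hM, hAM, hMlt⟩
      · exact absurd (Subgroup.le_normalizer (Subgroup.subgroupOf_eq_top.1 htop (Subgroup.mem_sup_right ha))) hmove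
      · have h1 : A.map (MulAut.conj a).toMonoidHom ⊔ A ≤ M.map (A ⊔ B).subtype := by
          refine sup_le ?_ fun y hy => ⟨⟨y, hAX hy⟩, hAM hy, rfl⟩
          rintro _ ⟨y, hy, rfl⟩
          exact ⟨⟨a, Subgroup.mem_sup_right ha⟩ * ⟨y, hAX hy⟩ * (⟨a, Subgroup.mem_sup_right ha⟩ : ↥(A ⊔ B))⁻¹,
            hM.conj_mem _ (hAM hy) _, rfl⟩
        have hlt : Nat.card ↥(A.map (MulAut.conj a).toMonoidHom ⊔ A) < Nat.card ↥(E ⊔ F) := by
          refine (Subgroup.card_le_of_le h1).trans_lt ?_
          rw [Subgroup.card_map_of_injective (A ⊔ B).subtype_injective, ← hAB]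
          exact card_lt_of_lt_top hMlt
        rcases ih _ hlt (hA.conj a) hA rfl with h | h
        · exact absurd h hne
        · exact Subgroup.commutator_eq_bot_iff_le_centralizer.1 h ⟨x, hx, rfl⟩
    rcases (block_kind hE).1 with hk | hk | ⟨zE, hk⟩
    · exact eq_or_commute_qs hG hE hF hk
    · rcases (block_kind hF).1 with hl | hl | ⟨zF, hl⟩
      · rw [eq_comm, Subgroup.commutator_comm]; exact eq_or_commute_qs hG hF hE hl
      · rcases mutual_two hE hF hk hl (normalizes_two hE hF hk hl (hconj hE hF rfl))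
          (normalizes_two hF hE hl hk (hconj hF hE (sup_comm _ _))) with h | h
        · exact Or.inl h
        · exact eq_or_commute_of_mod hG hE hF h
      · exact absurd (hk.two.symm.trans hl.three) (by norm_num)
    · rcases (block_kind hF).1 with hl | hl | ⟨zF, hl⟩
      · rw [eq_comm, Subgroup.commutator_comm]; exact eq_or_commute_qs hG hF hE hl
      · exact absurd (hl.two.symm.trans hk.three) (by norm_num)
      · rcases mutual_three hG hE hF hk hl (normalizes_three hE hF hk hl (hconj hE hF rfl))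
          (normalizes_three hF hE hl hk (hconj hF hE (sup_comm _ _))) with h | h
        · exact Or.inl h
        · exact eq_or_commute_of_mod hG hE hF h

end CfsgLib.BBlock
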