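import Cfsg.Agent.Lib.Baumann.BlockKind

/-!
Elements acting trivially on the sections of a subnormal block.
-/

set_option autoImplicit false
set_option linter.unusedSectionVars false

namespace CfsgLib.BBlock

open Cfsg
open scoped commutatorElement

variable {G : Type*} [Group G] [Finite G] {p : ℕ} [Fact p.Prime] {E : Subgroup G}

local notation:max "Qc" E:max => pCoreOf p E
local notation:max "Wc" E:max => omegaOneCenter p (pCoreOf p E)
local notation:max "Zc" E:max => omegaOneCenter p (pCoreOf p E) ⊓ Subgroup.centralizer (E : Set G)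

/-- A `p'`-element moving `r` to `d r`, with `d` a fixed element of `O_p(G)`, fixes `r`. -/
theorem eq_one_of_core_translation {y d r : G} (hy : (orderOf y).Coprime p) (hd : y * d * y⁻¹ = d)
    (hdp : d ∈ pCore p G) (h : y * r * y⁻¹ = d * r) : d = 1 := by
  have key : ∀ n : ℕ, y ^ n * r * (y ^ n)⁻¹ = d ^ n * r := by
    intro n
    induction n with
    | zero => simp
    | succ n ih =>
      calc y ^ (n + 1) * r * (y ^ (n + 1))⁻¹ = y * (y ^ n * r * (y ^ n)⁻¹) * y⁻¹ := by
            rw [pow_succ']; group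
        _ = (y * d ^ n * y⁻¹) * (y * r * y⁻¹) := by rw [ih]; group
        _ = d ^ (n + 1) * r := by rw [← conj_pow, hd, h, pow_succ]; group
  have h1 := key (orderOf y)
  rw [pow_orderOf_eq_one, one_mul, inv_one, mul_one, right_eq_mul] at h1
  obtain ⟨k, hk⟩ := CfsgLib.isPGroup_pCore p (G := G) ⟨d, hdp⟩
  exact orderOf_eq_one_iff.mp (Nat.eq_one_of_dvd_coprimes (Nat.Coprime.pow_right k hy)
    (orderOf_dvd_of_pow_eq_one h1) (orderOf_dvd_of_pow_eq_one (congrArg Subtype.val hk)))

/-- A `p'`-element centralising `O_p(G)` is trivial. -/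
theorem eq_one_of_centralizes (hG : Subgroup.centralizer (pCore p G : Set G) ≤ pCore p G) {y : G}
    (hy : (orderOf y).Coprime p) (h : ∀ r ∈ pCore p G, y * r * y⁻¹ = r) : y = 1 := by
  have hyR : y ∈ pCore p G := hG (Subgroup.mem_centralizer_iff.2 fun r hr =>
    (mul_inv_eq_iff_eq_mul.1 (h r hr)).symm)
  obtain ⟨k, hk⟩ := CfsgLib.isPGroup_pCore p (G := G) ⟨y, hyR⟩
  exact orderOf_eq_one_iff.mp (Nat.eq_one_of_dvd_coprimes (Nat.Coprime.pow_right k hy)
    dvd_rfl (orderOf_dvd_of_pow_eq_one (congrArg Subtype.val hk)))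

/-- In odd characteristic an element of `O_p(E)` lies in `K` as soon as its square does. -/
theorem mem_of_sq_mem (hp : p = 3) {x : G} {K : Subgroup G} (hx : x ∈ Qc E) (h : x * x ∈ K) : x ∈ K := by
  obtain ⟨k, hk⟩ := ((CfsgLib.isPGroup_pCore p (G := ↥E)).map E.subtype) ⟨x, hx⟩
  obtain ⟨m, hm⟩ := exists_pow_eq_self_of_coprime (x := x) (n := 2)
    (Nat.Coprime.coprime_dvd_right (orderOf_dvd_of_pow_eq_one (congrArg Subtype.val hk))
      (Nat.Coprime.pow_right k (by rw [hp]; norm_num)))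
  rw [← hm, pow_two]
  exact pow_mem h m

namespace IsSubBlock

variable (hE : IsSubBlock p E)
include hE

theorem q_comm (hX : Exc p E) {a b : G} (ha : a ∈ Qc E) (hb : b ∈ Qc E) : ⁅a, b⁆ ∈ Zc E := by
  rw [← hX.der]; exact Subgroup.commutator_mem_commutator ha hb

theorem q_normalizes_w {a w : G} (ha : a ∈ Qc E) (hw : w ∈ Wc E) : a * w * a⁻¹ = w := by
  rw [omegaOneCenter_comm p _ hw ha, mul_inv_cancel_right]

/-- `O_p(G)` centralizes `Q / W` for an exceptional block. -/
theorem core_sectionQ (hX : Exc p E) {r q : G} (hr : r ∈ pCore p G) (hq : q ∈ Qc E) :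
    r * q * r⁻¹ * q⁻¹ ∈ Wc E := by
  set R := pCore p G with hR
  have hRN : R ≤ Subgroup.normalizer ((Qc E : Subgroup G) : Set G) :=
    hE.core_le_normalizer.trans (normalizer_le_normalizer_pCoreOf E)
  let U : Subgroup G :=
    { carrier := {a | a ∈ Qc E ∧ ∀ s ∈ R, s * a * s⁻¹ * a⁻¹ ∈ Wc E}
      one_mem' := ⟨one_mem _, fun s _ => by simp⟩
      mul_mem' := fun {a b} ha hb => ⟨mul_mem ha.1 hb.1, fun s hs => by
        rw [show s * (a * b) * s⁻¹ * (a * b)⁻¹ =
          (s * a * s⁻¹ * a⁻¹) * (a * (s * b * s⁻¹ * b⁻¹) * a⁻¹) by group, hE.q_normalizes_w ha.1 (hb.2 s hs)]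
        exact mul_mem (ha.2 s hs) (hb.2 s hs)⟩
      inv_mem' := fun {a} ha => ⟨inv_mem ha.1, fun s hs => by
        rw [show s * a⁻¹ * s⁻¹ * a⁻¹⁻¹ = a⁻¹ * (s * a * s⁻¹ * a⁻¹)⁻¹ * a by group]
        have h := hE.q_normalizes_w (inv_mem ha.1) (inv_mem (ha.2 s hs))
        rw [inv_inv] at h
        rw [h]
        exact inv_mem (ha.2 s hs)⟩ }
  have hWU : (Wc E) ≤ U := fun w hw => ⟨omegaOneCenter_le p _ hw, fun s hs => (hE.core_section hs hw).1⟩
  have hinv : ∀ e ∈ E, ∀ u ∈ U, e * u * e⁻¹ ∈ U := fun e he u hu =>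
    ⟨conj_mem_normalizer (hE.normalizes_q he) hu.1, fun s hs => by
      have h1 : e⁻¹ * s * e ∈ R := by simpa using (inferInstance : R.Normal).conj_mem _ hs e⁻¹
      have h2 := conj_mem_normalizer (hE.nat.normalizes he) (hu.2 _ h1)
      rw [show s * (e * u * e⁻¹) * s⁻¹ * (e * u * e⁻¹)⁻¹ =
        e * ((e⁻¹ * s * e) * u * (e⁻¹ * s * e)⁻¹ * u⁻¹) * e⁻¹ by group]
      exact h2⟩
  rcases hX.nat.irred U hWU (fun _ hu => hu.1) hinv with h | h
  · exfalso
    obtain ⟨n, hn⟩ := (Subgroup.isNilpotent_iff_lowerCentralSeries R).1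
      (show Group.IsNilpotent ↥R from (CfsgLib.isPGroup_pCore p).isNilpotent)
    have key : ∀ k, k ≤ n → ∀ a ∈ Qc E, a ∈ R.lowerCentralSeries (n - k) → a ∈ Wc E := by
      intro k
      induction k with
      | zero =>
        intro _ a _ ha
        rw [Nat.sub_zero, hn, Subgroup.mem_bot] at ha
        rw [ha]; exact one_mem _
      | succ k ih =>
        intro hk a ha haL
        rw [← h]
        refine ⟨ha, fun s hs => ih (by omega) _ ?_ ?_⟩
        · exact mul_mem (conj_mem_normalizer (hRN hs) ha) (inv_mem ha)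
        · rw [show n - k = (n - (k + 1)) + 1 by omega, Subgroup.lowerCentralSeries_succ]
          have h2 := Subgroup.commutator_mem_commutator haL hs
          simpa [commutatorElement_def, mul_assoc] using inv_mem h2
    have hQW : (Qc E) ≤ Wc E := fun a ha => key n le_rfl a ha (by rw [Nat.sub_self]; exact hE.q_le_core ha)
    obtain ⟨e, he, w, hw, hne⟩ := hX.nat.moves
    exact hne (hQW (mul_mem (conj_mem_normalizer (hE.normalizes_q he) hw) (inv_mem hw)))
  · exact (h.ge hq).2 r hr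

end IsSubBlock

/-- `y` induces the identity on the sections of `E`. -/
def TrivSect (p : ℕ) (E : Subgroup G) (y : G) : Prop :=
  (∀ w ∈ omegaOneCenter p (pCoreOf p E), y * w * y⁻¹ * w⁻¹ ∈
      omegaOneCenter p (pCoreOf p E) ⊓ Subgroup.centralizer (E : Set G)) ∧
    (Exc p E → ∀ q ∈ pCoreOf p E, y * q * y⁻¹ * q⁻¹ ∈ omegaOneCenter p (pCoreOf p E))

theorem trivSect_core (hE : IsSubBlock p E) {r : G} (hr : r ∈ pCore p G) : TrivSect p E r :=
  ⟨fun _ hw => hE.core_section hr hw, fun hX _ hq => hE.core_sectionQ hX hr hq⟩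

/-- The elements normalizing `E` that are trivial on its sections. -/
def trivSub (hE : IsSubBlock p E) : Subgroup G where
  carrier := {y | y ∈ Subgroup.normalizer (E : Set G) ∧ TrivSect p E y}
  one_mem' := ⟨one_mem _, fun w _ => by simp, fun _ q _ => by simp⟩
  mul_mem' := fun {a b} ha hb => ⟨mul_mem ha.1 hb.1, fun w hw => by
      rw [show a * b * w * (a * b)⁻¹ * w⁻¹ =
        (a * (b * w * b⁻¹ * w⁻¹) * a⁻¹) * (a * w * a⁻¹ * w⁻¹) by group]
      exact mul_mem (conj_mem_normalizer (hE.normalizer_z ha.1) (hb.2.1 w hw)) (ha.2.1 w hw),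
    fun hX q hq => by
      rw [show a * b * q * (a * b)⁻¹ * q⁻¹ =
        (a * (b * q * b⁻¹ * q⁻¹) * a⁻¹) * (a * q * a⁻¹ * q⁻¹) by group]
      exact mul_mem (conj_mem_normalizer (hE.normalizer_w ha.1) (hb.2.2 hX q hq)) (ha.2.2 hX q hq)⟩
  inv_mem' := fun {a} ha => ⟨inv_mem ha.1, fun w hw => by
      rw [show a⁻¹ * w * a⁻¹⁻¹ * w⁻¹ = a⁻¹ * (a * w * a⁻¹ * w⁻¹)⁻¹ * a⁻¹⁻¹ by group]
      exact conj_mem_normalizer (hE.normalizer_z (inv_mem ha.1)) (inv_mem (ha.2.1 w hw)),
    fun hX q hq => by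
      rw [show a⁻¹ * q * a⁻¹⁻¹ * q⁻¹ = a⁻¹ * (a * q * a⁻¹ * q⁻¹)⁻¹ * a⁻¹⁻¹ by group]
      exact conj_mem_normalizer (hE.normalizer_w (inv_mem ha.1)) (inv_mem (ha.2.2 hX q hq))⟩

/-- A `p'`-element trivial on the sections and on `E / Q` centralizes `Q`. -/
theorem fix_q (hE : IsSubBlock p E) {y : G} (hy : (orderOf y).Coprime p)
    (hN : y ∈ Subgroup.normalizer (E : Set G)) (hcE : ∀ e ∈ E, y * e * y⁻¹ * e⁻¹ ∈ Qc E)
    (hy1 : TrivSect p E y) : ∀ q ∈ Qc E, y * q * y⁻¹ = q := by
  set Q := Qc E with hQ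
  rcases (block_kind hE).2 with hQW | hX
  · let K : Subgroup G := Subgroup.centralizer {y}
    have hle : ⁅Q, E⁆ ≤ K := by
      rw [Subgroup.commutator_le]
      intro w hw e he
      rw [Subgroup.mem_centralizer_singleton_iff]
      rw [hQ, hQW] at hw
      have hz := hy1.1 w hw
      have hq := hcE e he
      set z := y * w * y⁻¹ * w⁻¹ with hzdef
      set q := y * e * y⁻¹ * e⁻¹ with hqdef
      have h1 : y * ⁅w, e⁆ * y⁻¹ = ⁅z * w, q * e⁆ := by
        rw [hzdef, hqdef, commutatorElement_def, commutatorElement_def]; group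
      have hzE : ∀ x ∈ E, x * z = z * x := fun x hx => Subgroup.mem_centralizer_iff.1 hz.2 x hx
      have hwq : w * q = q * w := (omegaOneCenter_comm p _ hw hq).symm
      have hwe : ⁅w, e⁆ ∈ Wc E := by
        rw [commutatorElement_def, mul_assoc w, mul_assoc w]
        exact mul_mem hw (conj_mem_normalizer (hE.nat.normalizes he) (inv_mem hw))
      have h2 : ⁅z * w, q * e⁆ = ⁅w, e⁆ := by
        have hqe : q * e ∈ E := mul_mem (Subgroup.map_subtype_le _ hq) he
        have hwE : w ∈ E := Subgroup.map_subtype_le _ (omegaOneCenter_le p _ hw)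
        calc ⁅z * w, q * e⁆ = z * (w * (q * e) * w⁻¹) * z⁻¹ * (q * e)⁻¹ := by
              rw [commutatorElement_def]; group
          _ = (w * (q * e) * w⁻¹) * (q * e)⁻¹ := by
              rw [← hzE _ (mul_mem (mul_mem hwE hqe) (inv_mem hwE)), mul_inv_cancel_right]
          _ = (w * q) * (e * w⁻¹ * e⁻¹) * q⁻¹ := by group
          _ = q * ⁅w, e⁆ * q⁻¹ := by rw [hwq, commutatorElement_def]; group
          _ = _ := hE.q_normalizes_w hq hwe
      rw [h2] at h1
      exact (mul_inv_eq_iff_eq_mul.1 h1).symm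
    intro q hq
    have := hle (by rw [hQ, hE.q_eq]; exact hq)
    rw [Subgroup.mem_centralizer_singleton_iff] at this
    rw [← this, mul_inv_cancel_right]
  · have hZ : ∀ z ∈ Zc E, y * z * y⁻¹ = z := by
      intro z hz
      rw [← hX.der] at hz
      have hle : ⁅Q, Q⁆ ≤ Subgroup.centralizer {y} := by
        rw [Subgroup.commutator_le]
        intro a ha b hb
        rw [Subgroup.mem_centralizer_singleton_iff]
        have ha' := hy1.2 hX a ha
        have hb' := hy1.2 hX b hb
        set u := y * a * y⁻¹ * a⁻¹ with hudef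
        set v := y * b * y⁻¹ * b⁻¹ with hvdef
        have hu : ∀ x ∈ Q, x * u = u * x := fun x hx => omegaOneCenter_comm p _ ha' hx
        have hv : ∀ x ∈ Q, x * v = v * x := fun x hx => omegaOneCenter_comm p _ hb' hx
        have h1 : y * ⁅a, b⁆ * y⁻¹ = ⁅u * a, v * b⁆ := by
          rw [hudef, hvdef, commutatorElement_def, commutatorElement_def]; group
        have h2 : ⁅u * a, v * b⁆ = ⁅a, b⁆ := by
          have huQ := omegaOneCenter_le p _ ha'
          have hvQ := omegaOneCenter_le p _ hb'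
          calc ⁅u * a, v * b⁆ = u * (a * (v * b) * a⁻¹) * u⁻¹ * (v * b)⁻¹ := by
                rw [commutatorElement_def]; group
            _ = (a * (v * b) * a⁻¹) * (v * b)⁻¹ := by
                rw [← hu _ (mul_mem (mul_mem ha (mul_mem hvQ hb)) (inv_mem ha)), mul_inv_cancel_right]
            _ = (a * v) * (b * a⁻¹ * b⁻¹) * v⁻¹ := by group
            _ = v * ⁅a, b⁆ * v⁻¹ := by rw [hv a ha, commutatorElement_def]; group
            _ = _ := by
                rw [← hv _ (Subgroup.commutator_le_self Q (Subgroup.commutator_mem_commutator ha hb)),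
                  mul_inv_cancel_right]
        rw [h2] at h1
        exact (mul_inv_eq_iff_eq_mul.1 h1).symm
      have := hle hz
      rw [Subgroup.mem_centralizer_singleton_iff] at this
      rw [← this, mul_inv_cancel_right]
    have hWfix : ∀ w ∈ Wc E, y * w * y⁻¹ = w := by
      intro w hw
      have hz := hy1.1 w hw
      have h := eq_one_of_core_translation (d := y * w * y⁻¹ * w⁻¹) (r := w) hy (hZ _ hz)
        (hE.q_le_core (omegaOneCenter_le p _ hz.1)) (by group)
      exact mul_inv_eq_one.1 h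
    intro q hq
    have hz := hy1.2 hX q hq
    have h := eq_one_of_core_translation (d := y * q * y⁻¹ * q⁻¹) (r := q) hy (hWfix _ hz)
      (hE.q_le_core (omegaOneCenter_le p _ hz)) (by group)
    exact mul_inv_eq_one.1 h

/-- A `p'`-element trivial on the sections and on `E / Q` centralizes `E`. -/
theorem fix_block (hE : IsSubBlock p E) {y : G} (hy : (orderOf y).Coprime p)
    (hN : y ∈ Subgroup.normalizer (E : Set G)) (hcE : ∀ e ∈ E, y * e * y⁻¹ * e⁻¹ ∈ Qc E)
    (hy1 : TrivSect p E y) : ∀ e ∈ E, y * e * y⁻¹ = e := fun e he => by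
  have h := eq_one_of_core_translation (d := y * e * y⁻¹ * e⁻¹) (r := e) hy
    (fix_q hE hy hN hcE hy1 _ (hcE e he)) (hE.q_le_core (hcE e he)) (by group)
  exact mul_inv_eq_one.1 h

theorem KindThree.fixed_mem_z {z x : G} (hz : KindThree p E z) (hx : x ∈ Qc E) (hfix : z * x * z⁻¹ = x) :
    x ∈ Zc E := by
  have hW : x ∈ Wc E := by
    rcases hz.shape with ⟨h, -⟩ | ⟨-, h, -⟩
    · rw [← h]; exact hx
    · refine mem_of_sq_mem hz.three hx ?_
      have := h x hx
      rwa [hfix] at this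
  refine mem_of_sq_mem hz.three hx ?_
  have := hz.invW x hW
  rwa [hfix] at this

theorem KindThree.orderOf_coprime {z : G} (hz : KindThree p E z) : (orderOf z).Coprime p := by
  refine Nat.Coprime.coprime_dvd_left (orderOf_dvd_of_pow_eq_one (n := 2) ?_) (by rw [hz.three]; norm_num)
  rw [pow_two]; exact hz.sq_one

end CfsgLib.BBlock
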