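import Cfsg.Agent.Lib.Baumann.BlockShape

/-!
Subnormal blocks: basic facts and the three kinds.
-/

set_option autoImplicit false
set_option linter.unusedSectionVars false

namespace CfsgLib.BBlock

open Cfsg
open scoped commutatorElement

variable {G : Type*} [Group G] [Finite G] {p : ℕ} [Fact p.Prime] {E : Subgroup G}

local notation:max "Qc" E:max => pCoreOf p E
local notation:max "Wc" E:max => omegaOneCenter p (pCoreOf p E)
local notation:max "Zc" E:max => omegaOneCenter p (pCoreOf p E) ⊓ Subgroup.centralizer (E : Set G)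

/-- A subnormal block. -/
def IsSubBlock (p : ℕ) (E : Subgroup G) : Prop :=
  (∃ T : Sylow p G, IsBaumannBlock p (T : Subgroup G) E) ∧ E.IsSubnormal

/-- The exceptional case. -/
structure Exc (p : ℕ) (E : Subgroup G) : Prop where
  three : p = 3
  nat : NatSection E (pCoreOf p E) (pCoreOf p E) (omegaOneCenter p (pCoreOf p E))
  der : ⁅pCoreOf p E, pCoreOf p E⁆ = omegaOneCenter p (pCoreOf p E) ⊓ Subgroup.centralizer (E : Set G)
  ne : ¬ ∀ a ∈ pCoreOf p E, ∀ b ∈ pCoreOf p E, a * b = b * a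

/-- `E / Q` has order three. -/
structure KindTwo (p : ℕ) (E : Subgroup G) : Prop where
  two : p = 2
  card : Nat.card E = Nat.card (pCoreOf p E) * 3
  eqW : pCoreOf p E = omegaOneCenter p (pCoreOf p E)
  zBot : omegaOneCenter p (pCoreOf p E) ⊓ Subgroup.centralizer (E : Set G) = ⊥
  cardW : Nat.card (omegaOneCenter p (pCoreOf p E)) = 4

/-- `E / Q` is the quaternion group. -/
structure KindThree (p : ℕ) (E : Subgroup G) (z : G) : Prop where
  three : p = 3
  mem : z ∈ E
  not_mem : z ∉ pCoreOf p E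
  sq_one : z * z = 1
  card : Nat.card E = Nat.card (pCoreOf p E) * 8
  sq : ∀ e ∈ E, e ∈ pCoreOf p E ∨ z * e ∈ pCoreOf p E ∨ z * (e * e) ∈ pCoreOf p E
  centre : ∀ e ∈ E, (∀ x ∈ E, ⁅e, x⁆ ∈ pCoreOf p E) → e ∈ pCoreOf p E ∨ z * e ∈ pCoreOf p E
  comm : ∃ a ∈ E, ∃ b ∈ E, z * ⁅a, b⁆ ∈ pCoreOf p E
  invW : ∀ w ∈ omegaOneCenter p (pCoreOf p E),
    z * w * z⁻¹ * w ∈ omegaOneCenter p (pCoreOf p E) ⊓ Subgroup.centralizer (E : Set G)
  cardW : Nat.card (omegaOneCenter p (pCoreOf p E)) =
    9 * Nat.card ↥(omegaOneCenter p (pCoreOf p E) ⊓ Subgroup.centralizer (E : Set G))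
  shape : (pCoreOf p E = omegaOneCenter p (pCoreOf p E) ∧
      omegaOneCenter p (pCoreOf p E) ⊓ Subgroup.centralizer (E : Set G) = ⊥) ∨
    (Exc p E ∧ (∀ q ∈ pCoreOf p E, z * q * z⁻¹ * q ∈ omegaOneCenter p (pCoreOf p E)) ∧
      Nat.card (pCoreOf p E) = 9 * Nat.card (omegaOneCenter p (pCoreOf p E)) ∧
      Nat.card ↥(omegaOneCenter p (pCoreOf p E) ⊓ Subgroup.centralizer (E : Set G)) = 3 ∧
      ∃ T : Sylow p G, IsBaumannBlock p (T : Subgroup G) E ∧
        ∀ b : G, b ∈ baumannSubgroupOf p (T : Subgroup G) →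
          b ∉ Subgroup.centralizer (omegaOneCenter p (pCoreOf p E) : Set G) →
          ¬ ⁅⁅pCoreOf p E, Subgroup.zpowers b⁆, Subgroup.zpowers b⁆ ≤
            omegaOneCenter p (pCoreOf p E) ⊓ Subgroup.centralizer (E : Set G))

namespace IsSubBlock

variable (hE : IsSubBlock p E)
include hE

theorem res : pResidualOf p E = E := hE.1.elim fun _ h => h.1

theorem nat : NatSection E (Qc E) (Wc E) (Zc E) := hE.1.elim fun _ h => natSection_of_block h

theorem core_le_normalizer : pCore p G ≤ Subgroup.normalizer (E : Set G) :=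
  hE.1.elim fun T h => pCore_le_normalizer_block T h

theorem res_sup : pResidualOf p (E ⊔ pCore p G) = E :=
  hE.1.elim fun T h => pResidualOf_sup_pCore T h

theorem conj_mem {r e : G} (hr : r ∈ pCore p G) (he : e ∈ E) : r * e * r⁻¹ * e⁻¹ ∈ Qc E :=
  hE.1.elim fun T h => conj_pCore_mem T h hr he

theorem core_section {r w : G} (hr : r ∈ pCore p G) (hw : w ∈ Wc E) : r * w * r⁻¹ * w⁻¹ ∈ Zc E :=
  hE.1.elim fun T h => pCore_centralizes_section T h hr hw

theorem q_eq : ⁅Qc E, E⁆ = Qc E := hE.1.elim fun _ h => h.2.2.1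

theorem q_le_core : (Qc E) ≤ pCore p G := by
  have h1 : (pCore p ↥E).IsSubnormal := Subgroup.Normal.isSubnormal inferInstance
  exact isSubnormal_isPGroup_le_pCore (h1.trans' hE.2) ((CfsgLib.isPGroup_pCore p).map _)

theorem inf_core : E ⊓ pCore p G = Qc E :=
  le_antisymm (inf_pCore_le E) (le_inf (Subgroup.map_subtype_le _) hE.q_le_core)

theorem mem_q {x : G} (hx : x ∈ E) (hR : x ∈ pCore p G) : x ∈ Qc E := hE.inf_core ▸ ⟨hx, hR⟩

theorem wE_le (hG : Subgroup.centralizer (pCore p G : Set G) ≤ pCore p G) :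
    ⁅Wc E, E⁆ ≤ omegaOneCenter p (pCore p G) := hE.1.elim fun T h => commutator_le_omega T h hG

theorem normalizes_z : E ≤ Subgroup.normalizer ((Zc E : Subgroup G) : Set G) := fun e he =>
  mem_normalizer_of_map_le fun z hz => by
    rw [Subgroup.mem_centralizer_iff.1 hz.2 e he, mul_inv_cancel_right]; exact hz

theorem normalizes_q : E ≤ Subgroup.normalizer ((Qc E : Subgroup G) : Set G) := fun _ he =>
  normalizer_le_normalizer_pCoreOf E (Subgroup.le_normalizer he)

theorem normalizer_w : Subgroup.normalizer (E : Set G) ≤ Subgroup.normalizer ((Wc E : Subgroup G) : Set G) :=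
  (normalizer_le_normalizer_pCoreOf E).trans (normalizer_le_normalizer_omegaOneCenter p _)

theorem normalizer_z : Subgroup.normalizer (E : Set G) ≤ Subgroup.normalizer ((Zc E : Subgroup G) : Set G) :=
  (le_inf hE.normalizer_w (normalizer_le_normalizer_centralizer E)).trans (inf_normalizer_le _ _)

end IsSubBlock

/-- If some element of `E`, central modulo `O_p(E)` and of order prime to `p`, fixes only `Z` in `W` then `Z = 1`. -/
theorem zc_eq_bot (hE : IsSubBlock p E) (hQW : (Qc E) = Wc E) {c : G} (hc : c ∈ E)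
    (hcop : (orderOf c).Coprime p) (hcen : ∀ e ∈ E, ⁅e, c⁆ ∈ Qc E)
    (hfix : ∀ w ∈ Wc E, c * w * c⁻¹ = w → w ∈ Zc E) : (Zc E) = ⊥ := by
  set W := Wc E with hW
  set Z := Zc E with hZ
  have hcomm : ∀ a ∈ W, ∀ b ∈ W, a * b = b * a := fun a ha b hb =>
    omegaOneCenter_comm p _ hb (omegaOneCenter_le p _ ha)
  have hcW : ∀ w ∈ W, c * w * c⁻¹ ∈ W := fun w hw => conj_mem_normalizer (hE.nat.normalizes hc) hw
  let φ : ↥W →* ↥W :=
    { toFun := fun w => ⟨c * w * c⁻¹ * (w : G)⁻¹, mul_mem (hcW w w.2) (inv_mem w.2)⟩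
      map_one' := Subtype.ext (by simp)
      map_mul' := fun a b => Subtype.ext (by
        show c * ((a : G) * b) * c⁻¹ * ((a : G) * b)⁻¹ = c * a * c⁻¹ * (a : G)⁻¹ * (c * b * c⁻¹ * (b : G)⁻¹)
        have h1 := hcomm _ (inv_mem a.2) _ (mul_mem (hcW b b.2) (inv_mem b.2))
        calc c * ((a : G) * b) * c⁻¹ * ((a : G) * b)⁻¹
            = c * a * c⁻¹ * ((c * b * c⁻¹ * (b : G)⁻¹) * (a : G)⁻¹) := by group
          _ = c * a * c⁻¹ * ((a : G)⁻¹ * (c * b * c⁻¹ * (b : G)⁻¹)) := by rw [h1]
          _ = _ := by group) }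
  have hker : φ.ker ≤ Z.subgroupOf W := fun w hw => by
    have h : c * (w : G) * c⁻¹ * (w : G)⁻¹ = 1 := congrArg Subtype.val hw
    exact hfix w w.2 (mul_inv_eq_one.1 h)
  have hdisj : φ.range ⊓ Z.subgroupOf W = ⊥ := by
    rw [Subgroup.eq_bot_iff_forall]
    rintro _ ⟨⟨w, rfl⟩, hz⟩
    refine Subtype.ext (eq_one_of_translation (y := c) (d := (φ w : G)) (r := (w : G)) hcop
      ?_ (omegaOneCenter_pow p _ (φ w).2) ?_)
    · rw [Subgroup.mem_centralizer_iff.1 (Subgroup.mem_subgroupOf.1 hz).2 c hc, mul_inv_cancel_right]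
    · show c * (w : G) * c⁻¹ = c * w * c⁻¹ * (w : G)⁻¹ * w
      group
  have hZc : ∀ e ∈ E, ∀ z ∈ Z, e * z * e⁻¹ = z := fun e he z hz => by
    rw [Subgroup.mem_centralizer_iff.1 hz.2 e he, mul_inv_cancel_right]
  have hnor : (Z.subgroupOf W).Normal := ⟨fun x hx y => by
    rwa [show y * x = x * y from Subtype.ext (hcomm _ y.2 _ x.2), mul_inv_cancel_right]⟩
  have htop : φ.range ⊔ Z.subgroupOf W = ⊤ := by
    refine Subgroup.eq_top_of_le_card _ ?_
    have h1 : Nat.card (φ.range ⊔ Z.subgroupOf W : Subgroup ↥W) =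
        Nat.card φ.range * Nat.card (Z.subgroupOf W) := by
      have h2 := (φ.range).relIndex_sup_right (Z.subgroupOf W)
      rw [sup_comm] at h2
      have h3 := ((Z.subgroupOf W).subgroupOf (φ.range ⊔ Z.subgroupOf W)).card_mul_index
      have h4 : (Z.subgroupOf W).relIndex φ.range = Nat.card φ.range := by
        rw [← Subgroup.inf_relIndex_right, inf_comm, hdisj, Subgroup.relIndex_bot_left]
      rw [Nat.card_congr (Subgroup.subgroupOfEquivOfLe le_sup_right).toEquiv] at h3
      rw [← h3, ← h4, ← h2, mul_comm, sup_comm]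
      rfl
    rw [h1, ← φ.ker.card_mul_index, Subgroup.index_ker, mul_comm]
    exact Nat.mul_le_mul_left _ (Subgroup.card_le_of_le hker)
  have hinv : ∀ e ∈ E, ∀ u : ↥W, ∀ w : ↥W, (w : G) = e * u * e⁻¹ → u ∈ φ.range → w ∈ φ.range := by
    rintro e he _ w hw ⟨u, rfl⟩
    refine ⟨⟨e * u * e⁻¹, conj_mem_normalizer (hE.nat.normalizes he) u.2⟩, Subtype.ext ?_⟩
    rw [hw]
    show c * (e * (u : G) * e⁻¹) * c⁻¹ * (e * (u : G) * e⁻¹)⁻¹ = e * (c * u * c⁻¹ * (u : G)⁻¹) * e⁻¹
    have hx : e * (c * u * c⁻¹) * e⁻¹ ∈ W := conj_mem_normalizer (hE.nat.normalizes he) (hcW u u.2)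
    calc c * (e * (u : G) * e⁻¹) * c⁻¹ * (e * (u : G) * e⁻¹)⁻¹
        = ⁅e, c⁆⁻¹ * (e * (c * u * c⁻¹) * e⁻¹) * ⁅e, c⁆ * (e * (u : G) * e⁻¹)⁻¹ := by
          rw [commutatorElement_def]; group
      _ = e * (c * u * c⁻¹) * e⁻¹ * (e * (u : G) * e⁻¹)⁻¹ := by
          rw [omegaOneCenter_comm p _ hx (inv_mem (hcen e he)), inv_mul_cancel_right]
      _ = _ := by group
  have hle : W ≤ φ.range.map W.subtype := by
    conv_lhs => rw [← hQW, ← hE.q_eq, hQW]
    rw [Subgroup.commutator_le]
    intro w hw e he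
    obtain ⟨a, ha, b, hb, hab⟩ := Subgroup.mem_sup_of_normal_right.1
      (htop.symm ▸ Subgroup.mem_top (⟨w, hw⟩ : ↥W))
    have hab' : (a : G) * b = w := congrArg Subtype.val hab
    have h1 : e * (a : G)⁻¹ * e⁻¹ ∈ W := conj_mem_normalizer (hE.nat.normalizes he) (inv_mem a.2)
    refine ⟨a * ⟨_, h1⟩, mul_mem ha (hinv e he a⁻¹ ⟨_, h1⟩ (by simp) (inv_mem ha)), ?_⟩
    show (a : G) * (e * (a : G)⁻¹ * e⁻¹) = _
    have h2 := hZc e he _ (inv_mem (Subgroup.mem_subgroupOf.1 hb))
    calc (a : G) * (e * (a : G)⁻¹ * e⁻¹) = a * (b : G) * ((b : G)⁻¹ * (e * (a : G)⁻¹ * e⁻¹)) := by group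
      _ = a * b * ((e * (b : G)⁻¹ * e⁻¹) * (e * (a : G)⁻¹ * e⁻¹)) := by rw [h2]
      _ = ⁅w, e⁆ := by rw [commutatorElement_def, ← hab']; group
  rw [Subgroup.eq_bot_iff_forall]
  intro z hz
  obtain ⟨u, hu, rfl⟩ := hle hz.1
  have : u ∈ φ.range ⊓ Z.subgroupOf W := ⟨hu, hz⟩
  rw [hdisj, Subgroup.mem_bot] at this
  rw [this]; rfl

theorem card_of_image {U U₀ : Subgroup G} {M : Type*} [Group M] (ψ : ↥U →* M) (hle : U₀ ≤ U)
    (hker : ∀ u : ↥U, ψ u = 1 ↔ (u : G) ∈ U₀) :
    Nat.card U = Nat.card ψ.range * Nat.card U₀ := by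
  have hk : ψ.ker = U₀.subgroupOf U := Subgroup.ext fun u => hker u
  rw [← ψ.ker.card_mul_index, Subgroup.index_ker, hk,
    Nat.card_congr (Subgroup.subgroupOfEquivOfLe hle).toEquiv, mul_comm]

theorem alt_quasisimple {k : ℕ} (hk : 5 ≤ k) : IsQuasisimple ↥(alternatingGroup (Fin k)) := by
  have hs : IsSimpleGroup ↥(alternatingGroup (Fin k)) := alternatingGroup.isSimpleGroup (by simpa using hk)
  have hc : Subgroup.center ↥(alternatingGroup (Fin k)) = ⊥ :=
    alternatingGroup.center_eq_bot (by simpa using (by omega : 4 ≤ k))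
  refine ⟨⟨?_⟩, ?_⟩
  · rcases (Subgroup.commutator_normal (⊤ : Subgroup ↥(alternatingGroup (Fin k))) ⊤).eq_bot_or_eq_top with h | h
    · exfalso
      have h2 : Subgroup.center ↥(alternatingGroup (Fin k)) = ⊤ := by
        rw [eq_top_iff]
        intro x _
        exact Subgroup.mem_center_iff.2 fun y => commutatorElement_eq_one_iff_mul_comm.1
          (Subgroup.mem_bot.1 (h ▸ Subgroup.commutator_mem_commutator (Subgroup.mem_top y) (Subgroup.mem_top x)))
      exact bot_ne_top (hc.symm.trans h2)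
    · exact h
  · refine (QuotientGroup.quotientMulEquivOfEq hc).isSimpleGroup_congr.2 ?_
    exact (QuotientGroup.quotientBot (G := ↥(alternatingGroup (Fin k)))).isSimpleGroup_congr.2 hs

theorem sl2_quasisimple {F : Type*} [Field F] [Fintype F] (h4 : 4 ≤ Fintype.card F) :
    IsQuasisimple ↥(commutator (Matrix.SpecialLinearGroup (Fin 2) F)) := by
  have h := StSL.perfect_SL2 h4
  refine isQuasisimple_of_equiv ((MulEquiv.subgroupCongr h).trans Subgroup.topEquiv).symm ?_
  exact ⟨⟨h⟩, Matrix.ProjectiveSpecialLinearGroup.rank_two_simple (by rwa [Nat.card_eq_fintype_card])⟩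

theorem sl2_two_commutator_card : Nat.card ↥(commutator (Matrix.SpecialLinearGroup (Fin 2) (ZMod 2))) = 3 := by
  classical
  let S : Subgroup (Matrix.SpecialLinearGroup (Fin 2) (ZMod 2)) :=
    { carrier := {a | a * a * a = 1}
      one_mem' := by simp
      mul_mem' := fun {a b} => (by decide +kernel : ∀ a b : Matrix.SpecialLinearGroup (Fin 2) (ZMod 2),
        a * a * a = 1 → b * b * b = 1 → a * b * (a * b) * (a * b) = 1) a b
      inv_mem' := fun {a} (h : a * a * a = 1) => by
        show a⁻¹ * a⁻¹ * a⁻¹ = 1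
        rw [← mul_inv_rev, ← mul_inv_rev, ← mul_assoc, h, inv_one] }
  have h : commutator (Matrix.SpecialLinearGroup (Fin 2) (ZMod 2)) = S := by
    refine le_antisymm ?_ fun a ha => ?_
    · rw [commutator_def, Subgroup.commutator_le]
      exact fun x _ y _ => (by decide +kernel : ∀ x y : Matrix.SpecialLinearGroup (Fin 2) (ZMod 2),
        ⁅x, y⁆ * ⁅x, y⁆ * ⁅x, y⁆ = 1) x y
    · obtain ⟨u, v, huv⟩ := (by decide +kernel : ∀ a : Matrix.SpecialLinearGroup (Fin 2) (ZMod 2),
        a * a * a = 1 → ∃ u v : Matrix.SpecialLinearGroup (Fin 2) (ZMod 2), ⁅u, v⁆ = a) a ha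
      exact huv ▸ mem_commutator_sl u v
  rw [h]
  show Nat.card {a : Matrix.SpecialLinearGroup (Fin 2) (ZMod 2) // a * a * a = 1} = 3
  rw [Nat.card_eq_fintype_card]
  decide +kernel

theorem even_weight_card : Nat.card {v : Fin (2 * 1 + 1) → ZMod 2 // ∑ i, v i = 0} = 4 := by
  rw [Nat.card_eq_fintype_card]; decide +kernel

theorem kindTwo_of_card (hE : IsSubBlock p E) (hp : p = 2) (hQW : (Qc E) = Wc E)
    (hcard : Nat.card E = Nat.card (pCoreOf p E) * 3) (hW : Nat.card ↥(Wc E) = 4 * Nat.card ↥(Zc E)) :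
    KindTwo p E := by
  set Q := Qc E with hQ
  have hq : Nat.card (↥E ⧸ pCore p ↥E) = 3 := by
    have h := (pCore p ↥E).card_eq_card_quotient_mul_card_subgroup
    rw [hcard, hQ, pCoreOf, Subgroup.card_map_of_injective E.subtype_injective, mul_comm] at h
    exact (Nat.eq_of_mul_eq_mul_right Nat.card_pos h).symm
  have hQm : ∀ x : E, (x : ↥E ⧸ pCore p ↥E) = 1 ↔ (x : G) ∈ Q := fun x => by
    rw [QuotientGroup.eq_one_iff]
    exact ⟨fun h => ⟨x, h, rfl⟩, fun ⟨y, hy, e⟩ => by rwa [Subtype.ext e] at hy⟩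
  obtain ⟨e, he, w0, hw0, hmv⟩ := hE.nat.moves
  have heQ : e ∉ Q := fun h => hmv (by
    rw [omegaOneCenter_comm p _ hw0 h, mul_inv_cancel_right, mul_inv_cancel]; exact one_mem _)
  obtain ⟨k, hk⟩ := exists_coprime_power (p := p) e
  set c : E := ⟨e, he⟩ ^ p ^ k with hc
  have hg1 : (c : ↥E ⧸ pCore p ↥E) ≠ 1 := by
    intro h
    have h1 : ((⟨e, he⟩ : E) : ↥E ⧸ pCore p ↥E) ^ p ^ k = 1 := h
    have h3 := pow_card_eq_one' (x := ((⟨e, he⟩ : E) : ↥E ⧸ pCore p ↥E))
    rw [hq] at h3
    exact heQ ((hQm _).1 (orderOf_eq_one_iff.1 (Nat.eq_one_of_dvd_coprimes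
      (show (p ^ k).Coprime 3 by rw [hp]; exact Nat.Coprime.pow_left _ (by norm_num))
      (orderOf_dvd_of_pow_eq_one h1) (orderOf_dvd_of_pow_eq_one h3))))
  have : Fact (Nat.Prime 3) := ⟨Nat.prime_three⟩
  have hgen : ∀ x : E, ∃ i : ℕ, ((c ^ i)⁻¹ * x : E).1 ∈ Q := fun x => by
    obtain ⟨i, hi⟩ := mem_powers_of_prime_card hq (g' := (x : ↥E ⧸ pCore p ↥E)) hg1
    exact ⟨i, (hQm _).1 (by
      rw [QuotientGroup.mk_mul, QuotientGroup.mk_inv, QuotientGroup.mk_pow, inv_mul_eq_one]; exact hi)⟩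
  have hZ : (Zc E) = ⊥ := zc_eq_bot hE hQW c.2 (by rw [hc, SubmonoidClass.coe_pow]; exact hk) (fun x hx => by
      obtain ⟨i, hi⟩ := hgen ⟨x, hx⟩
      refine (hQm ⁅(⟨x, hx⟩ : ↥E), c⁆).1 ?_
      have h1 := (hQm _).2 hi
      rw [QuotientGroup.mk_mul, QuotientGroup.mk_inv, QuotientGroup.mk_pow, inv_mul_eq_one] at h1
      show QuotientGroup.mk' (pCore p ↥E) ⁅(⟨x, hx⟩ : ↥E), c⁆ = 1
      rw [map_commutatorElement, commutatorElement_eq_one_iff_mul_comm]
      show ((⟨x, hx⟩ : E) : ↥E ⧸ pCore p ↥E) * c = c * (⟨x, hx⟩ : E)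
      rw [← h1]
      exact (Commute.pow_self _ i).eq)
    (fun w hw hfix => by
      refine ⟨hw, Subgroup.mem_centralizer_iff.2 fun x hx => ?_⟩
      obtain ⟨i, hi⟩ := hgen ⟨x, hx⟩
      rw [Subgroup.coe_mul, Subgroup.coe_inv, SubmonoidClass.coe_pow] at hi
      have h1 : Commute ((c : G) ^ i) w := Commute.pow_left (show (c : G) * w = w * c from
        (mul_inv_eq_iff_eq_mul.1 hfix)) i
      calc x * w = (c : G) ^ i * ((((c : G) ^ i)⁻¹ * x) * w) := by group
        _ = (c : G) ^ i * (w * (((c : G) ^ i)⁻¹ * x)) := by rw [omegaOneCenter_comm p _ hw hi]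
        _ = (c : G) ^ i * w * (((c : G) ^ i)⁻¹ * x) := by group
        _ = w * x := by rw [h1.eq]; group)
  exact ⟨hp, hcard, hQW, hZ, by rw [hW, hZ, Subgroup.card_bot]⟩

/-- Every subnormal block has one of three kinds. -/
theorem block_kind (hE : IsSubBlock p E) :
    (IsQuasisimple (↥E ⧸ pCore p ↥E) ∨ KindTwo p E ∨ ∃ z, KindThree p E z) ∧
      ((Qc E) = Wc E ∨ Exc p E) := by
  obtain ⟨T, hT⟩ := hE.1
  have hnat := hE.nat
  set Q := Qc E with hQ
  set W := Wc E with hW
  have hQE : Q ≤ E := Subgroup.map_subtype_le _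
  have hQW : ∀ k ∈ Q, ∀ w ∈ W, k * w * k⁻¹ = w := fun k hk w hw => by
    rw [omegaOneCenter_comm p _ hw hk, mul_inv_cancel_right]
  have hcase := hT.2.2.2.2
  rcases hcase with ⟨F, hF, hFt, n, hcF, hiso, ⟨hN, hle, ρ, ψ, hρ, hψ, hker, heq⟩, hshape⟩ |
    ⟨hp2, m, hiso, ⟨hN, hle, ρ, ψ, hρ, hev, hψ, hker, heq⟩, hQeq⟩
  · have hψc : Nat.card ψ.range = Fintype.card F * Fintype.card F := by
      rw [MonoidHom.range_eq_top.2 hψ, Subgroup.card_top, Nat.card_eq_fintype_card, Fintype.card_multiplicative,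
        Fintype.card_fun, Fintype.card_fin, sq]
    have hWcard := card_of_image ψ hle hker
    rw [hψc] at hWcard
    have hcardE := card_pCoreOf_mul _ hiso
    have hkerρ : ρ.ker = Q.subgroupOf E := by
      refine le_antisymm ?_ (fun k hk => ?_)
      · intro e he
        refine hnat.faithful (e : G) e.2 fun w hw => ?_
        obtain ⟨u, hu, hu'⟩ := heq e ⟨w, hw⟩
        rw [MonoidHom.mem_ker.1 he, Matrix.SpecialLinearGroup.coe_one, Matrix.one_mulVec] at hu'
        have h1 : ψ (u * (⟨w, hw⟩ : ↥W)⁻¹) = 1 := by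
          rw [map_mul, map_inv, mul_inv_eq_one]; exact Multiplicative.toAdd.injective hu'
        have h2 := (hker _).1 h1
        rw [Subgroup.coe_mul, Subgroup.coe_inv, hu] at h2
        exact h2
      · refine MonoidHom.mem_ker.2 (sl2_faithful fun v => ?_)
        obtain ⟨u, hu⟩ := hψ (Multiplicative.ofAdd v)
        obtain ⟨w, hw, hw'⟩ := heq k u
        rw [hu] at hw'
        have : w = u := Subtype.ext (hw.trans (hQW _ hk _ u.2))
        rw [this, hu] at hw'
        exact hw'.symm
    have hexc : Q = W ∨ Exc p E := by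
      rcases hshape with h | ⟨hp3, ⟨hN', hle', ρ', ψ', hρ', hψ', hker', heq'⟩, hder, -, hEZ, hZc, -⟩
      · exact Or.inl h
      · refine Or.inr ⟨hp3, ?_, hder, fun hab => ?_⟩
        · have hWQ : ∀ k ∈ Q, k ∈ E ∧ ∀ w ∈ Q, k * w * k⁻¹ * w⁻¹ ∈ W := fun k hk => ⟨hQE hk, fun w hw => by
            have := Subgroup.commutator_mem_commutator hk hw
            rw [hder] at this
            exact this.1⟩
          refine natSection_of_image (fun (r : Matrix.SpecialLinearGroup (Fin 2) F) (v : Fin 2 → F) =>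
            (r : Matrix (Fin 2) (Fin 2) F).mulVec v)
            (commutator (Matrix.SpecialLinearGroup (Fin 2) F) : Set _) Set.univ hN' hle' ρ' ψ' (by rw [hρ'])
            (fun v _ => ?_) (fun _ => trivial) hker' heq' (fun U _ hU => ?_) ?_
            (fun r _ h => sl2_faithful fun v => h v trivial) hWQ ?_
          · obtain ⟨u, hu⟩ := hψ' (Multiplicative.ofAdd v)
            exact ⟨u, by rw [hu]; rfl⟩
          · rcases sl2_irred U hU with h | h
            · exact Or.inl h
            · exact Or.inr fun v _ => h v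
          · obtain ⟨M, hM, h⟩ := sl2_moves (F := F)
            exact ⟨M, hM, _, trivial, h⟩
          · rw [hρ']; exact hcardE
        · have hbot : ⁅Q, Q⁆ = ⊥ := by
            rw [eq_bot_iff, Subgroup.commutator_le]
            intro a ha b hb
            rw [Subgroup.mem_bot, commutatorElement_eq_one_iff_mul_comm]
            exact hab a ha b hb
          rw [hder] at hbot
          have h1 : Nat.card ↥(E ⊓ Subgroup.centralizer (E : Set G)) = 1 := by
            rw [hEZ, hbot, Subgroup.card_bot]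
          rw [hZc] at h1
          have hn0 : n = 0 := by
            by_contra h
            exact absurd h1 (Nat.one_lt_pow h (by norm_num)).ne'
          rw [hn0, pow_zero] at hcF
          exact absurd hcF Fintype.one_lt_card.ne'
    refine ⟨?_, hexc⟩
    by_cases h4 : 4 ≤ Fintype.card F
    · obtain ⟨f⟩ := hiso
      exact Or.inl (isQuasisimple_of_equiv f.symm (sl2_quasisimple h4))
    right
    have hn : n ≠ 0 := by
      intro h; rw [h, pow_zero] at hcF; exact absurd hcF Fintype.one_lt_card.ne'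
    have hpF : Fintype.card F = p := by
      have h2 := (Fact.out : p.Prime).two_le
      rcases Nat.lt_or_ge 1 n with h | h
      · have h3 := Nat.pow_le_pow_right (show 1 ≤ p by omega) h
        rw [pow_two] at h3
        have := Nat.mul_le_mul h2 h2
        omega
      · rw [hcF, show n = 1 by omega, pow_one]
    have h1F := Fintype.one_lt_card (α := F)
    rcases (show Fintype.card F = 2 ∨ Fintype.card F = 3 by omega) with hF2 | hF3
    · left
      have hp2 : p = 2 := by omega
      have hQWe : Q = W := hshape.resolve_right fun h => by omega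
      have hcard : Nat.card ↥(commutator (Matrix.SpecialLinearGroup (Fin 2) F)) = 3 := by
        classical
        have : Fact (Nat.Prime 2) := ⟨Nat.prime_two⟩
        let e : ZMod 2 ≃+* F := FiniteField.ringEquivOfCardEq (by rw [ZMod.card, hF2])
        let φ : Matrix.SpecialLinearGroup (Fin 2) (ZMod 2) →* Matrix.SpecialLinearGroup (Fin 2) F :=
          Matrix.SpecialLinearGroup.map e.toRingHom
        have hinj : Function.Injective φ := fun a b h => by
          apply Subtype.ext; ext i j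
          exact e.injective (by simpa [φ] using congrFun (congrFun (congrArg Subtype.val h) i) j)
        have hsurj : Function.Surjective φ := fun b => by
          refine ⟨Matrix.SpecialLinearGroup.map e.symm.toRingHom b, ?_⟩
          apply Subtype.ext; ext i j
          simp [φ]
        rw [show commutator (Matrix.SpecialLinearGroup (Fin 2) F) =
            (commutator (Matrix.SpecialLinearGroup (Fin 2) (ZMod 2))).map φ by
          rw [commutator_def, commutator_def, Subgroup.map_commutator, Subgroup.map_top_of_surjective φ hsurj],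
          Subgroup.card_map_of_injective hinj]
        exact sl2_two_commutator_card
      rw [hcard] at hcardE
      exact kindTwo_of_card hE hp2 hQWe hcardE (by rw [hWcard, hF2])
    · right
      have hp3 : p = 3 := by omega
      obtain ⟨m, hm, hm1⟩ := q8Like_of_card hF3
      have hcard := hm.card
      rw [hcard] at hcardE
      have hmr : (m : Matrix.SpecialLinearGroup (Fin 2) F) ∈ ρ.range := by rw [hρ]; exact m.2
      obtain ⟨e₀, he₀⟩ := hmr
      have he2 : e₀ * e₀ ∈ ρ.ker := by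
        rw [MonoidHom.mem_ker, map_mul, he₀]; exact congrArg Subtype.val hm.inv.1
      rw [hkerρ] at he2
      obtain ⟨k, hk⟩ := ((CfsgLib.isPGroup_pCore p (G := ↥E)).map E.subtype) ⟨_, he2⟩
      have hk' : ((e₀ : G) * e₀) ^ p ^ k = 1 := congrArg Subtype.val hk
      set zE := e₀ ^ p ^ k with hzE
      have hzρ : ρ zE = (m : Matrix.SpecialLinearGroup (Fin 2) F) := by
        obtain ⟨j, hj⟩ := (show Odd (p ^ k) by rw [hp3]; exact Odd.pow (by decide))
        rw [hzE, map_pow, he₀, hj, pow_add, pow_mul, pow_one, pow_two]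
        have := congrArg Subtype.val hm.inv.1
        simp only [Subgroup.coe_mul, OneMemClass.coe_one] at this
        rw [this, one_pow, one_mul]
      set z := (zE : G) with hz
      have hzz : z * z = 1 := by
        rw [hz, hzE, SubmonoidClass.coe_pow, ← (Commute.refl (e₀ : G)).mul_pow]; exact hk'
      have hρm : ∀ e : E, ρ e = 1 ↔ (e : G) ∈ Q := fun e => by
        have := SetLike.ext_iff.1 hkerρ e
        simpa [Subgroup.mem_subgroupOf] using this
      have hlift : ∀ e : E, ∃ a : ↥(commutator (Matrix.SpecialLinearGroup (Fin 2) F)), (a : Matrix.SpecialLinearGroup (Fin 2) F) = ρ e := fun e => ⟨⟨ρ e, by rw [← hρ]; exact ⟨e, rfl⟩⟩, rfl⟩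
      have hzinv : ∀ e : E, ρ e = (m : Matrix.SpecialLinearGroup (Fin 2) F) → z * e ∈ Q := fun e he => by
        refine (hρm (zE * e)).1 ?_
        rw [map_mul, hzρ, he]; exact congrArg Subtype.val hm.inv.1
      have hzQ : z ∉ Q := fun h => hm.inv.2 (Subtype.ext (by
        rw [← hzρ, (hρm zE).2 h]; rfl))
      have hinv : ∀ w ∈ W, z * w * z⁻¹ * w ∈ Zc E := by
        intro w hw
        obtain ⟨u, hu, hu'⟩ := heq zE ⟨w, hw⟩
        rw [hzρ, hm1] at hu'
        have h1 : ψ (u * (⟨w, hw⟩ : ↥W)) = 1 := by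
          refine Multiplicative.toAdd.injective ?_
          rw [map_mul, toAdd_mul, hu', toAdd_one, Matrix.neg_mulVec, Matrix.one_mulVec, neg_add_cancel]
        have h2 := (hker _).1 h1
        rw [Subgroup.coe_mul, hu] at h2
        exact h2
      have hsq : ∀ e ∈ E, e ∈ Q ∨ z * e ∈ Q ∨ z * (e * e) ∈ Q := by
        intro e he
        obtain ⟨a, ha⟩ := hlift ⟨e, he⟩
        rcases hm.sq a with h | h | h
        · exact Or.inl ((hρm ⟨e, he⟩).1 (by rw [← ha, h]; rfl))
        · exact Or.inr (Or.inl (hzinv ⟨e, he⟩ (by rw [← ha, h])))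
        · exact Or.inr (Or.inr (hzinv (⟨e, he⟩ * ⟨e, he⟩) (by rw [map_mul, ← ha, ← h]; rfl)))
      refine ⟨z, ⟨hp3, zE.2, hzQ, hzz, hcardE, hsq, ?_, ?_, hinv, by rw [hWcard, hF3], ?_⟩⟩
      · intro e he hc
        obtain ⟨a, ha⟩ := hlift ⟨e, he⟩
        rcases hm.centre a (fun b => by
          obtain ⟨x, hx⟩ : (b : Matrix.SpecialLinearGroup (Fin 2) F) ∈ ρ.range := by rw [hρ]; exact b.2
          apply Subtype.ext
          show (a : Matrix.SpecialLinearGroup (Fin 2) F) * b = b * a
          rw [ha, ← hx, ← commutatorElement_eq_one_iff_mul_comm, ← map_commutatorElement]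
          exact (hρm _).2 (hc x x.2)) with h | h
        · exact Or.inl ((hρm ⟨e, he⟩).1 (by rw [← ha, h]; rfl))
        · exact Or.inr (hzinv ⟨e, he⟩ (by rw [← ha, h]))
      · obtain ⟨a, b, hab⟩ := hm.comm
        obtain ⟨x, hx⟩ : (a : Matrix.SpecialLinearGroup (Fin 2) F) ∈ ρ.range := by rw [hρ]; exact a.2
        obtain ⟨y, hy⟩ : (b : Matrix.SpecialLinearGroup (Fin 2) F) ∈ ρ.range := by rw [hρ]; exact b.2
        exact ⟨x, x.2, y, y.2, hzinv ⁅x, y⁆ (by rw [map_commutatorElement, hx, hy, ← hab]; rfl)⟩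
      · rcases hshape with h | ⟨hp3', ⟨hN', hle', ρ', ψ', hρ', hψ', hker', heq'⟩, hder, hfr, hEZ, hZc, hquad⟩
        · refine Or.inl ⟨h, zc_eq_bot hE h zE.2 ?_ (fun x hx => ?_) (fun w hw hfix => ?_)⟩
          · refine Nat.Coprime.coprime_dvd_left (orderOf_dvd_of_pow_eq_one (n := 2) ?_) (by rw [hp3]; norm_num)
            rw [pow_two]; exact hzz
          · refine (hρm ⁅(⟨x, hx⟩ : ↥E), zE⁆).1 ?_
            rw [map_commutatorElement, hzρ, commutatorElement_eq_one_iff_mul_comm]
            apply Subtype.ext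
            show ((ρ ⟨x, hx⟩ : Matrix.SpecialLinearGroup (Fin 2) F) : Matrix (Fin 2) (Fin 2) F) *
              ((m : Matrix.SpecialLinearGroup (Fin 2) F) : Matrix (Fin 2) (Fin 2) F) = _ * _
            rw [hm1]; simp
          · have h1 := hinv w hw
            rw [show z * w * z⁻¹ = w from hfix] at h1
            obtain ⟨j, hj⟩ := exists_pow_eq_self_of_coprime (x := w) (n := 2) (Nat.Coprime.coprime_dvd_right
              (orderOf_dvd_of_pow_eq_one (omegaOneCenter_pow p _ hw)) (by rw [hp3]; norm_num))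
            rw [← hj, pow_two]
            exact pow_mem h1 j
        · have hQW' : Q ≠ W := by
            intro hh
            have h9 := card_of_image ψ' hle' hker'
            rw [MonoidHom.range_eq_top.2 hψ', Subgroup.card_top, Nat.card_eq_fintype_card (α := Multiplicative _),
              Fintype.card_multiplicative, Fintype.card_fun, Fintype.card_fin, hF3] at h9
            have h10 : Nat.card ↥(Qc E) = Nat.card ↥(Wc E) := congrArg (fun H : Subgroup G => Nat.card H) hh
            have hpos' : 0 < Nat.card ↥(Wc E) := Nat.card_pos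
            norm_num at h9
            omega
          refine Or.inr ⟨(hexc.resolve_left fun h => ?_), fun q hq => ?_, ?_, ?_, T, hT, fun b hb hbW => ?_⟩
          · exact absurd h hQW'
          · have hzρ' : ρ' zE = (m : Matrix.SpecialLinearGroup (Fin 2) F) := by
              obtain ⟨a, ha⟩ : ∃ a : ↥(commutator (Matrix.SpecialLinearGroup (Fin 2) F)),
                  (a : Matrix.SpecialLinearGroup (Fin 2) F) = ρ' zE := ⟨⟨ρ' zE, by rw [← hρ']; exact ⟨zE, rfl⟩⟩, rfl⟩
              have ha2 : a * a = 1 := Subtype.ext (by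
                rw [Subgroup.coe_mul, ha, ← map_mul, show zE * zE = 1 from Subtype.ext hzz, map_one]; rfl)
              rcases hm.sq a with h' | h' | h'
              · exfalso
                apply hzQ
                refine ((hexc.resolve_left ?_).nat).faithful z zE.2 fun w hw => ?_
                · exact fun hh => hQW' hh
                · obtain ⟨u, hu, hu'⟩ := heq' zE ⟨w, hw⟩
                  rw [← ha, h'] at hu'
                  simp only [OneMemClass.coe_one, Matrix.SpecialLinearGroup.coe_one, Matrix.one_mulVec] at hu'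
                  have h1 : ψ' (u * (⟨w, hw⟩ : ↥(pCoreOf p E))⁻¹) = 1 := by
                    rw [map_mul, map_inv, mul_inv_eq_one]; exact Multiplicative.toAdd.injective hu'
                  have h2 := (hker' _).1 h1
                  rw [Subgroup.coe_mul, Subgroup.coe_inv, hu] at h2
                  exact h2
              · rw [← ha, h']
              · exact absurd (h'.symm.trans ha2) hm.inv.2
            obtain ⟨u, hu, hu'⟩ := heq' zE ⟨q, hq⟩
            rw [hzρ', hm1] at hu'
            have h1 : ψ' (u * (⟨q, hq⟩ : ↥(pCoreOf p E))) = 1 := by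
              refine Multiplicative.toAdd.injective ?_
              rw [map_mul, toAdd_mul, hu', toAdd_one, Matrix.neg_mulVec, Matrix.one_mulVec, neg_add_cancel]
            have h2 := (hker' _).1 h1
            rw [Subgroup.coe_mul, hu] at h2
            exact h2
          · rw [card_of_image ψ' hle' hker', MonoidHom.range_eq_top.2 hψ', Subgroup.card_top,
              Nat.card_eq_fintype_card, Fintype.card_multiplicative, Fintype.card_fun, Fintype.card_fin, hF3]
            norm_num
          · rw [← hEZ, hZc]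
            have h31 : n = 1 := by
              rw [hF3, hp3] at hcF
              exact (Nat.pow_right_injective (le_refl 2 |>.trans (by norm_num : 2 ≤ 3)) (hcF.symm.trans (pow_one 3).symm))
            rw [h31]; rfl
          · have := hquad b hb hbW
            rwa [hEZ] at this
  · refine ⟨?_, Or.inl hQeq⟩
    have hcardE := card_pCoreOf_mul _ hiso
    have hm : m ≠ 0 := by
      intro hm0
      subst hm0
      have h1 : Nat.card ↥(alternatingGroup (Fin (2 * 0 + 1))) = 1 := by
        have hs : Subsingleton (Fin (2 * 0 + 1)) := ⟨fun a b => Fin.ext (by have := a.isLt; have := b.isLt; omega)⟩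
        exact Nat.card_unique
      rw [h1, mul_one] at hcardE
      have hEQ : Q = E := Subgroup.eq_of_le_of_card_ge hQE hcardE.le
      obtain ⟨e, he, w, hw, hne⟩ := hnat.moves
      exact hne (by rw [hQW e (hEQ.ge he) w hw, mul_inv_cancel]; exact one_mem _)
    by_cases hm2 : 2 ≤ m
    · obtain ⟨f⟩ := hiso
      exact Or.inl (isQuasisimple_of_equiv f.symm (alt_quasisimple (by omega)))
    · obtain rfl : m = 1 := by omega
      refine Or.inr (Or.inl (kindTwo_of_card hE hp2 hQeq ?_ ?_))
      · rw [hcardE, nat_card_alternatingGroup]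
        norm_num [Nat.factorial]
      · rw [card_of_image ψ hle hker]
        congr 1
        rw [← even_weight_card]
        refine Nat.card_congr ((Equiv.subtypeEquiv Multiplicative.toAdd fun v => ⟨?_, fun hv => ?_⟩))
        · rintro ⟨u, rfl⟩; exact hev u
        · obtain ⟨u, hu⟩ := hψ _ hv
          exact ⟨u, Multiplicative.toAdd.injective hu⟩

end CfsgLib.BBlock
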