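import Cfsg.Agent.Lib.Baumann.BlockFix

/-!
Two subnormal blocks commuting modulo `O_p(G)` are equal or commute.
-/

set_option autoImplicit false
set_option linter.unusedSectionVars false

namespace CfsgLib.BBlock

open Cfsg
open scoped commutatorElement

variable {G : Type*} [Group G] [Finite G] {p : ℕ} [Fact p.Prime] {E F : Subgroup G}

local notation:max "Qc" E:max => pCoreOf p E
local notation:max "Wc" E:max => omegaOneCenter p (pCoreOf p E)
local notation:max "Zc" E:max => omegaOneCenter p (pCoreOf p E) ⊓ Subgroup.centralizer (E : Set G)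

theorem KindTwo.comm_mod (h2 : KindTwo p E) {a b : G} (ha : a ∈ E) (hb : b ∈ E) : ⁅a, b⁆ ∈ Qc E := by
  have hc : Nat.card (↥E ⧸ pCore p ↥E) = 3 := by
    have h := (pCore p ↥E).card_eq_card_quotient_mul_card_subgroup
    rw [h2.card, pCoreOf, Subgroup.card_map_of_injective E.subtype_injective, mul_comm] at h
    exact (Nat.eq_of_mul_eq_mul_right Nat.card_pos h).symm
  have : Fact (Nat.Prime 3) := ⟨Nat.prime_three⟩
  have hcyc : IsCyclic (↥E ⧸ pCore p ↥E) := isCyclic_of_prime_card hc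
  have h : QuotientGroup.mk' (pCore p ↥E) ⁅(⟨a, ha⟩ : ↥E), ⟨b, hb⟩⁆ = 1 := by
    rw [map_commutatorElement, commutatorElement_eq_one_iff_mul_comm]
    letI := hcyc.commGroup
    exact mul_comm _ _
  exact ⟨_, (QuotientGroup.eq_one_iff _).1 h, rfl⟩

theorem KindTwo.sq_mem (h2 : KindTwo p E) {e : G} (he : e ∈ E) (h : e * e ∈ Qc E) : e ∈ Qc E := by
  have hc : Nat.card (↥E ⧸ pCore p ↥E) = 3 := by
    have h := (pCore p ↥E).card_eq_card_quotient_mul_card_subgroup
    rw [h2.card, pCoreOf, Subgroup.card_map_of_injective E.subtype_injective, mul_comm] at h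
    exact (Nat.eq_of_mul_eq_mul_right Nat.card_pos h).symm
  have h1 : ((⟨e, he⟩ : ↥E) : ↥E ⧸ pCore p ↥E) ^ 3 = 1 := by
    rw [← hc]; exact pow_card_eq_one'
  obtain ⟨y, hy, hye⟩ := h
  have h3 : ((⟨e, he⟩ : ↥E) : ↥E ⧸ pCore p ↥E) ^ 2 = 1 := by
    rw [← QuotientGroup.mk_pow, QuotientGroup.eq_one_iff]
    have : (⟨e, he⟩ : ↥E) ^ 2 = y := Subtype.ext (by rw [pow_two]; exact hye.symm)
    rw [this]; exact hy
  refine ⟨⟨e, he⟩, (QuotientGroup.eq_one_iff _).1 ?_, rfl⟩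
  rw [show ((⟨e, he⟩ : ↥E) : ↥E ⧸ pCore p ↥E) = ((⟨e, he⟩ : ↥E) : ↥E ⧸ pCore p ↥E) ^ 3 *
    (((⟨e, he⟩ : ↥E) : ↥E ⧸ pCore p ↥E) ^ 2)⁻¹ by group, h1, h3, inv_one, mul_one]

theorem KindTwo.cube_mem (hE : IsSubBlock p E) (h2 : KindTwo p E) {e : G} (he : e ∈ E) : e ^ 3 ∈ pCore p G := by
  have hc : Nat.card (↥E ⧸ pCore p ↥E) = 3 := by
    have h := (pCore p ↥E).card_eq_card_quotient_mul_card_subgroup
    rw [h2.card, pCoreOf, Subgroup.card_map_of_injective E.subtype_injective, mul_comm] at h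
    exact (Nat.eq_of_mul_eq_mul_right Nat.card_pos h).symm
  have h1 : ((⟨e, he⟩ : ↥E) : ↥E ⧸ pCore p ↥E) ^ 3 = 1 := by rw [← hc]; exact pow_card_eq_one'
  rw [← QuotientGroup.mk_pow, QuotientGroup.eq_one_iff] at h1
  exact hE.q_le_core ⟨_, h1, rfl⟩

/-- Conjugation by an element centralising `E` modulo `O_p(G)` normalises `E`. -/
theorem normalizes_of_mod (hE : IsSubBlock p E) {f : G} (h : ∀ e ∈ E, ⁅e, f⁆ ∈ pCore p G) :
    f ∈ Subgroup.normalizer (E : Set G) := by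
  refine mem_normalizer_of_map_le fun x hx => ?_
  have hle : E ≤ E.comap (MulAut.conj f).toMonoidHom := by
    refine le_of_coprime hE.res fun e he hc => ?_
    show f * e * f⁻¹ ∈ E
    refine mem_of_mem_sup_coprime (CfsgLib.isPGroup_pCore p) hE.core_le_normalizer ?_ ?_
    · rw [show f * e * f⁻¹ = ⁅e, f⁆⁻¹ * e by rw [commutatorElement_def]; group]
      exact mul_mem (Subgroup.mem_sup_right (inv_mem (h e he))) (Subgroup.mem_sup_left he)
    · rwa [← MulAut.conj_apply, MulEquiv.orderOf_eq]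
  exact hle hx

section
variable (hE : IsSubBlock p E) (hF : IsSubBlock p F) (h : ∀ e ∈ E, ∀ f ∈ F, ⁅e, f⁆ ∈ pCore p G)
include hE hF h

theorem mod_comm_mem {e f : G} (he : e ∈ E) (hf : f ∈ F) : f * e * f⁻¹ * e⁻¹ ∈ Qc E := by
  refine hE.mem_q ?_ ?_
  · exact mul_mem (conj_mem_normalizer (normalizes_of_mod hE fun x hx => h x hx f hf) he) (inv_mem he)
  · rw [show f * e * f⁻¹ * e⁻¹ = ⁅e, f⁆⁻¹ by rw [commutatorElement_def]; group]
    exact inv_mem (h e he f hf)

theorem commutator_trivSect {a b : G} (ha : a ∈ F) (hb : b ∈ F) : ⁅a, b⁆ ∈ trivSub hE := by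
  have hN : ∀ f ∈ F, f ∈ Subgroup.normalizer (E : Set G) := fun f hf =>
    normalizes_of_mod hE fun x hx => h x hx f hf
  have haN := hN a ha
  have hbN := hN b hb
  refine ⟨mul_mem (mul_mem (mul_mem haN hbN) (inv_mem haN)) (inv_mem hbN), fun w hw => ?_, fun hX q hq => ?_⟩
  · have key : ∀ f ∈ F, ∀ e ∈ E, ∀ u ∈ Wc E,
        f * e * u * (f * e)⁻¹ * (e * f * u * (e * f)⁻¹)⁻¹ ∈ Zc E := by
      intro f hf e he u hu
      have hv : e * f * u * (e * f)⁻¹ ∈ Wc E :=
        conj_mem_normalizer (hE.normalizer_w (mul_mem (Subgroup.le_normalizer he) (hN f hf))) hu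
      rw [show f * e * u * (f * e)⁻¹ * (e * f * u * (e * f)⁻¹)⁻¹ =
        (f * e * f⁻¹ * e⁻¹) * (e * f * u * (e * f)⁻¹) * (f * e * f⁻¹ * e⁻¹)⁻¹ * (e * f * u * (e * f)⁻¹)⁻¹ by group,
        hE.q_normalizes_w (mod_comm_mem hE hF h he hf) hv, mul_inv_cancel]
      exact one_mem _
    have hx := conj_mem_normalizer (hE.normalizer_w (inv_mem (mul_mem hbN haN))) hw
    have := sect_comm (E := E) hE.nat.le (fun u hu v hv => by
        rw [commutatorElement_eq_one_iff_mul_comm.2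
          (omegaOneCenter_comm p _ hv (omegaOneCenter_le p _ hu))]; exact one_mem _)
      hE.nat.irred hE.nat.normalizes hE.normalizes_z
      (f := a) (g := b) ⟨hE.normalizer_w haN, hE.normalizer_z haN⟩ ⟨hE.normalizer_w hbN, hE.normalizer_z hbN⟩
      (key a ha) (key b hb) hx
    rw [show ⁅a, b⁆ * w * ⁅a, b⁆⁻¹ * w⁻¹ = a * b * ((b * a)⁻¹ * w * (b * a)⁻¹⁻¹) * (a * b)⁻¹ *
      (b * a * ((b * a)⁻¹ * w * (b * a)⁻¹⁻¹) * (b * a)⁻¹)⁻¹ by rw [commutatorElement_def]; group]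
    exact this
  · have key : ∀ f ∈ F, ∀ e ∈ E, ∀ u ∈ Qc E,
        f * e * u * (f * e)⁻¹ * (e * f * u * (e * f)⁻¹)⁻¹ ∈ Wc E := by
      intro f hf e he u hu
      have hv : e * f * u * (e * f)⁻¹ ∈ Qc E :=
        conj_mem_normalizer (normalizer_le_normalizer_pCoreOf E (mul_mem (Subgroup.le_normalizer he) (hN f hf))) hu
      rw [show f * e * u * (f * e)⁻¹ * (e * f * u * (e * f)⁻¹)⁻¹ =
        ⁅f * e * f⁻¹ * e⁻¹, e * f * u * (e * f)⁻¹⁆ by rw [commutatorElement_def]; group]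
      exact (hE.q_comm hX (mod_comm_mem hE hF h he hf) hv).1
    have hx := conj_mem_normalizer (normalizer_le_normalizer_pCoreOf (p := p) E (inv_mem (mul_mem hbN haN))) hq
    have := sect_comm (E := E) (omegaOneCenter_le p _) (fun u hu v hv => (hE.q_comm hX hu hv).1)
      hX.nat.irred hE.normalizes_q hE.nat.normalizes
      (f := a) (g := b) ⟨normalizer_le_normalizer_pCoreOf E haN, hE.normalizer_w haN⟩
      ⟨normalizer_le_normalizer_pCoreOf E hbN, hE.normalizer_w hbN⟩ (key a ha) (key b hb) hx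
    rw [show ⁅a, b⁆ * q * ⁅a, b⁆⁻¹ * q⁻¹ = a * b * ((b * a)⁻¹ * q * (b * a)⁻¹⁻¹) * (a * b)⁻¹ *
      (b * a * ((b * a)⁻¹ * q * (b * a)⁻¹⁻¹) * (b * a)⁻¹)⁻¹ by rw [commutatorElement_def]; group]
    exact this

theorem centralizes_of_triv {y : G} (hy : (orderOf y).Coprime p) (hyF : y ∈ F) (hyt : y ∈ trivSub hE) :
    ∀ e ∈ E, y * e * y⁻¹ = e :=
  fix_block hE hy hyt.1 (fun _ he => mod_comm_mem hE hF h he hyF) hyt.2

/-- A quasisimple block, or one with a quaternion quotient, centralises. -/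
theorem commutator_eq_bot_of_mod (hk : IsQuasisimple (↥F ⧸ pCore p ↥F) ∨ ∃ z, KindThree p F z) :
    ⁅E, F⁆ = ⊥ := by
  have hQ : (Qc F) ≤ trivSub hE := fun r hr =>
    ⟨hE.core_le_normalizer (hF.q_le_core hr), trivSect_core hE (hF.q_le_core hr)⟩
  have hsuff : ∀ f ∈ F, (orderOf f).Coprime p → ∀ e ∈ E, f * e * f⁻¹ = e := by
    rcases hk with hqs | ⟨z, hz⟩
    · have hperf := hqs.1
      have hle : F ≤ trivSub hE := by
        have h1 : commutator ↥F ⊔ pCore p ↥F = ⊤ := by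
          rw [← QuotientGroup.ker_mk' (pCore p ↥F), ← Subgroup.comap_map_eq, commutator_def,
            Subgroup.map_commutator, Subgroup.map_top_of_surjective _ (QuotientGroup.mk'_surjective _),
            ← commutator_def, hperf.commutator_eq_top, Subgroup.comap_top]
        have h2 : commutator ↥F ⊔ pCore p ↥F ≤ (trivSub hE).comap F.subtype := by
          refine sup_le ?_ fun x hx => hQ ⟨x, hx, rfl⟩
          rw [commutator_def, Subgroup.commutator_le]
          intro a _ b _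
          show ((⁅a, b⁆ : ↥F) : G) ∈ trivSub hE
          exact commutator_trivSect hE hF h a.2 b.2
        rw [h1] at h2
        exact fun x hx => h2 (Subgroup.mem_top ⟨x, hx⟩)
      exact fun f hf hc => centralizes_of_triv hE hF h hc hf (hle hf)
    · obtain ⟨a, ha, b, hb, hab⟩ := hz.comm
      have hzt : z ∈ trivSub hE := by
        rw [show z = z * ⁅a, b⁆ * ⁅a, b⁆⁻¹ by group]
        exact mul_mem (hQ hab) (inv_mem (commutator_trivSect hE hF h ha hb))
      have hzE := centralizes_of_triv hE hF h hz.orderOf_coprime hz.mem hzt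
      intro f hf hc e he
      have hcE := mod_comm_mem hE hF h he hf
      have hh : ∀ x ∈ F, ∀ y ∈ E, ⁅x, y⁆ ∈ pCore p G := fun x hx y hy => by
        rw [show ⁅x, y⁆ = ⁅y, x⁆⁻¹ from (commutatorElement_inv y x).symm]; exact inv_mem (h y hy x hx)
      have hcF : f * e * f⁻¹ * e⁻¹ ∈ Qc F := by
        have h1 := inv_mem (mod_comm_mem hF hE hh hf he)
        rwa [show (e * f * e⁻¹ * f⁻¹)⁻¹ = f * e * f⁻¹ * e⁻¹ by group] at h1
      have hcZ := hz.fixed_mem_z hcF (hzE _ (Subgroup.map_subtype_le _ hcE))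
      have h3 := eq_one_of_core_translation (d := f * e * f⁻¹ * e⁻¹) (r := e) hc
        (by rw [Subgroup.mem_centralizer_iff.1 hcZ.2 f hf, mul_inv_cancel_right])
        (hF.q_le_core hcF) (by group)
      exact mul_inv_eq_one.1 h3
  rw [Subgroup.commutator_eq_bot_iff_le_centralizer]
  intro e he
  rw [Subgroup.mem_centralizer_iff]
  have : F ≤ Subgroup.centralizer {e} := by
    refine le_of_coprime hF.res fun f hf hc => ?_
    rw [Subgroup.mem_centralizer_singleton_iff]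
    exact mul_inv_eq_iff_eq_mul.1 (hsuff f hf hc e he)
  intro f hf
  exact Subgroup.mem_centralizer_singleton_iff.1 (this hf)

/-- Two blocks with quotient of order three. -/
theorem eq_or_commute_of_mod_two (hG : Subgroup.centralizer (pCore p G : Set G) ≤ pCore p G)
    (hE2 : KindTwo p E) (hF2 : KindTwo p F) : E = F ∨ ⁅E, F⁆ = ⊥ := by
  have hN : ∀ f ∈ F, f ∈ Subgroup.normalizer (E : Set G) := fun f hf =>
    normalizes_of_mod hE fun x hx => h x hx f hf
  by_cases htriv : F ≤ trivSub hE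
  · right
    rw [Subgroup.commutator_eq_bot_iff_le_centralizer]
    intro e he
    rw [Subgroup.mem_centralizer_iff]
    have : F ≤ Subgroup.centralizer {e} := by
      refine le_of_coprime hF.res fun f hf hc => ?_
      rw [Subgroup.mem_centralizer_singleton_iff]
      exact mul_inv_eq_iff_eq_mul.1 (centralizes_of_triv hE hF h hc hf (htriv hf) e he)
    intro f hf
    exact Subgroup.mem_centralizer_singleton_iff.1 (this hf)
  left
  set W := Wc E with hWdef
  have hQW : (Qc E) = W := hE2.eqW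
  have hZ : (Zc E) = ⊥ := hE2.zBot
  have hFN : ∀ e ∈ E, e ∈ Subgroup.normalizer (F : Set G) := fun e he =>
    normalizes_of_mod hF fun x hx => by
      rw [show ⁅x, e⁆ = ⁅e, x⁆⁻¹ from (commutatorElement_inv e x).symm]; exact inv_mem (h e he x hx)
  obtain ⟨f₁, hf₁, w₁, hw₁, hne⟩ : ∃ f ∈ F, ∃ w ∈ W, f * w * f⁻¹ * w⁻¹ ∉ (Zc E) := by
    by_contra hcon
    simp only [not_exists, not_and, not_not] at hcon
    exact htriv fun f hf => ⟨hN f hf, fun w hw => hcon f hf w hw, fun hX => absurd (hX.three.symm.trans hE2.two) (by norm_num)⟩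
  have hWR : ∀ w ∈ W, w ∈ pCore p G := fun w hw => hE.q_le_core (omegaOneCenter_le p _ hw)
  have hWeq : W = (Qc F) := by
    have hmem : f₁ * w₁ * f₁⁻¹ * w₁⁻¹ ∈ W ⊓ (Qc F) := by
      refine ⟨show f₁ * w₁ * f₁⁻¹ * w₁⁻¹ ∈ W from mul_mem (conj_mem_normalizer (hE.normalizer_w (hN f₁ hf₁)) hw₁) (inv_mem hw₁), hF.mem_q ?_ ?_⟩
      · rw [show f₁ * w₁ * f₁⁻¹ * w₁⁻¹ = f₁ * (w₁ * f₁⁻¹ * w₁⁻¹) by group]
        exact mul_mem hf₁ (conj_mem_normalizer (hF.core_le_normalizer (hWR w₁ hw₁)) (inv_mem hf₁))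
      · exact mul_mem ((inferInstance : (pCore p G).Normal).conj_mem _ (hWR _ hw₁) f₁) (inv_mem (hWR _ hw₁))
    rcases hE.nat.irred (W ⊓ (Qc F)) (by rw [hZ]; exact bot_le) inf_le_left (fun e he u hu =>
      ⟨conj_mem_normalizer (hE.nat.normalizes he) hu.1,
        conj_mem_normalizer (normalizer_le_normalizer_pCoreOf F (hFN e he)) hu.2⟩) with hh | hh
    · rw [hh, hZ, Subgroup.mem_bot] at hmem
      exact absurd (by rw [hmem]; exact one_mem _) hne
    · exact Subgroup.eq_of_le_of_card_ge (inf_eq_left.1 hh) (by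
        rw [show (Qc F) = Wc F from hF2.eqW, hF2.cardW, hWdef, hE2.cardW])
  -- an element of `E` and one of `F` commute on `W`
  have hcomm : ∀ e ∈ E, ∀ f ∈ F, ∀ w ∈ W, e * (f * w * f⁻¹) * e⁻¹ = f * (e * w * e⁻¹) * f⁻¹ := by
    intro e he f hf w hw
    have hq := mod_comm_mem hE hF h he hf
    have hv : e * (f * w * f⁻¹) * e⁻¹ ∈ W :=
      conj_mem_normalizer (hE.nat.normalizes he) (conj_mem_normalizer (hE.normalizer_w (hN f hf)) hw)
    have := hE.q_normalizes_w hq hv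
    rw [show f * (e * w * e⁻¹) * f⁻¹ =
      (f * e * f⁻¹ * e⁻¹) * (e * (f * w * f⁻¹) * e⁻¹) * (f * e * f⁻¹ * e⁻¹)⁻¹ by group, this]
  -- fixed points
  have hfix : ∀ x ∈ Subgroup.normalizer (E : Set G),
      (∀ e ∈ E, ∀ w ∈ W, x * (e * w * e⁻¹) * x⁻¹ = e * (x * w * x⁻¹) * e⁻¹) →
      ∀ a ∈ W, a ≠ 1 → x * a * x⁻¹ = a → ∀ w ∈ W, x * w * x⁻¹ = w := by
    intro x hx hxe a ha ha1 hxa w hw
    let U : Subgroup G := W ⊓ Subgroup.centralizer {x}
    have hU : ∀ u : G, u ∈ U ↔ u ∈ W ∧ x * u * x⁻¹ = u := fun u => by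
      show u ∈ W ∧ u ∈ Subgroup.centralizer {x} ↔ _
      rw [Subgroup.mem_centralizer_singleton_iff, mul_inv_eq_iff_eq_mul]
      exact and_congr_right fun _ => ⟨Eq.symm, Eq.symm⟩
    rcases hE.nat.irred U (by rw [hZ]; exact bot_le) inf_le_left (fun e he u hu => (hU _).2
      ⟨conj_mem_normalizer (hE.nat.normalizes he) hu.1, by rw [hxe e he u hu.1, ((hU u).1 hu).2]⟩) with hh | hh
    · have : a ∈ U := (hU a).2 ⟨ha, hxa⟩
      rw [hh, hZ, Subgroup.mem_bot] at this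
      exact absurd this ha1
    · exact ((hU w).1 (hh.ge hw)).2
  obtain ⟨e₀, he₀, a, ha, hmv⟩ := hE.nat.moves
  have ha1 : a ≠ 1 := fun hh => hmv (by rw [hh]; simp)
  have hEE : ∀ e ∈ E, ∀ e' ∈ E, ∀ w ∈ W, e * (e' * w * e'⁻¹) * e⁻¹ = e' * (e * w * e⁻¹) * e'⁻¹ := by
    intro e he e' he' w hw
    have hv : e' * (e * w * e⁻¹) * e'⁻¹ ∈ W :=
      conj_mem_normalizer (hE.nat.normalizes he') (conj_mem_normalizer (hE.nat.normalizes he) hw)
    rw [show e * (e' * w * e'⁻¹) * e⁻¹ = ⁅e, e'⁆ * (e' * (e * w * e⁻¹) * e'⁻¹) * ⁅e, e'⁆⁻¹ by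
      rw [commutatorElement_def]; group, hE.q_normalizes_w (hE2.comm_mod he he') hv]
  have hne1 : ∀ e ∈ E, e ∉ (Qc E) → e * a * e⁻¹ ≠ a := fun e he heQ hh => heQ
    (hE.nat.faithful e he fun w hw => by
      rw [hfix e (Subgroup.le_normalizer he) (fun x hx => hEE e he x hx) a ha ha1 hh w hw, mul_inv_cancel]
      exact one_mem _)
  have he₀Q : e₀ ∉ (Qc E) := fun hh => hmv (by
    rw [hE.q_normalizes_w hh ha, mul_inv_cancel]; exact one_mem _)
  set b := e₀ * a * e₀⁻¹ with hb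
  set c := e₀ * b * e₀⁻¹ with hc
  have hbW : b ∈ W := conj_mem_normalizer (hE.nat.normalizes he₀) ha
  have hcW : c ∈ W := conj_mem_normalizer (hE.nat.normalizes he₀) hbW
  have hab : a ≠ b := (hne1 e₀ he₀ he₀Q).symm
  have hac : a ≠ c := fun hh => hne1 (e₀ * e₀) (mul_mem he₀ he₀) (fun hq => he₀Q (hE2.sq_mem he₀ hq))
    (by rw [show e₀ * e₀ * a * (e₀ * e₀)⁻¹ = c by rw [hc, hb]; group, ← hh])
  have hbc : b ≠ c := fun hh => hab ((MulAut.conj e₀).injective (show e₀ * a * e₀⁻¹ = e₀ * b * e₀⁻¹ from hh))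
  have hset : ({1, a, b, c} : Set G) = (W : Set G) := by
    refine Set.eq_of_subset_of_ncard_le ?_ ?_ (Set.toFinite _)
    · rintro x (rfl | rfl | rfl | rfl)
      · exact one_mem _
      · exact ha
      · exact hbW
      · exact hcW
    · have hb1 : b ≠ 1 := fun hh => ha1 ((MulAut.conj e₀).injective ((show (MulAut.conj e₀) a = 1 from hh).trans (map_one _).symm))
      have hc1 : c ≠ 1 := fun hh => hb1 ((MulAut.conj e₀).injective ((show (MulAut.conj e₀) b = 1 from hh).trans (map_one _).symm))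
      rw [← Nat.card_coe_set_eq, Set.ncard_insert_of_notMem (by simp [ha1.symm, hb1.symm, hc1.symm]),
        Set.ncard_insert_of_notMem (by simp [hab, hac]), Set.ncard_pair hbc]
      exact hE2.cardW.le
  refine Subgroup.eq_of_le_of_card_ge ?_ ?_ |>.symm
  · refine le_of_coprime hF.res fun f hf hcf => ?_
    obtain ⟨e, he, hea⟩ : ∃ e ∈ E, e * a * e⁻¹ = f * a * f⁻¹ := by
      have hfa : f * a * f⁻¹ ∈ ({1, a, b, c} : Set G) := by
        rw [hset]; exact conj_mem_normalizer (hE.normalizer_w (hN f hf)) ha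
      rcases hfa with hh | hh | hh | hh
      · exact absurd ((MulAut.conj f).injective (by simpa using hh)) ha1
      · exact ⟨1, one_mem _, by rw [hh]; simp⟩
      · exact ⟨e₀, he₀, hh.symm⟩
      · exact ⟨e₀ * e₀, mul_mem he₀ he₀, by rw [hh, hc, hb]; group⟩
    set x := e⁻¹ * f with hx
    have hxa : x * a * x⁻¹ = a := by
      rw [show x * a * x⁻¹ = e⁻¹ * (f * a * f⁻¹) * e by rw [hx]; group, ← hea]; group
    have hxN : x ∈ Subgroup.normalizer (E : Set G) := mul_mem (Subgroup.le_normalizer (inv_mem he)) (hN f hf)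
    have hxW : ∀ w ∈ W, x * w * x⁻¹ = w := hfix x hxN (fun e' he' w hw => by
      have h1 := hcomm e' he' f hf w hw
      have h2 := hEE e' he' e⁻¹ (inv_mem he) (f * w * f⁻¹) (conj_mem_normalizer (hE.normalizer_w (hN f hf)) hw)
      rw [h1] at h2
      calc x * (e' * w * e'⁻¹) * x⁻¹ = e⁻¹ * (f * (e' * w * e'⁻¹) * f⁻¹) * e⁻¹⁻¹ := by rw [hx]; group
        _ = e' * (e⁻¹ * (f * w * f⁻¹) * e⁻¹⁻¹) * e'⁻¹ := h2.symm
        _ = _ := by rw [hx]; group) a ha ha1 hxa
    let K : Subgroup G :=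
      { carrier := {g | g ∈ Subgroup.normalizer (W : Set G) ∧ ∀ r ∈ pCore p G, g * r * g⁻¹ * r⁻¹ ∈ W}
        one_mem' := ⟨one_mem _, fun r _ => by simp⟩
        mul_mem' := fun {g g'} hg hg' => ⟨mul_mem hg.1 hg'.1, fun r hr => by
          rw [show g * g' * r * (g * g')⁻¹ * r⁻¹ =
            (g * (g' * r * g'⁻¹ * r⁻¹) * g⁻¹) * (g * r * g⁻¹ * r⁻¹) by group]
          exact mul_mem (conj_mem_normalizer hg.1 (hg'.2 r hr)) (hg.2 r hr)⟩
        inv_mem' := fun {g} hg => ⟨inv_mem hg.1, fun r hr => by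
          rw [show g⁻¹ * r * g⁻¹⁻¹ * r⁻¹ = g⁻¹ * (g * r * g⁻¹ * r⁻¹)⁻¹ * g⁻¹⁻¹ by group]
          exact conj_mem_normalizer (inv_mem hg.1) (inv_mem (hg.2 r hr))⟩ }
    have hEK : ∀ g ∈ E, g ∈ K := fun g hg => ⟨hE.nat.normalizes hg, fun r hr => by
      rw [← hQW, show g * r * g⁻¹ * r⁻¹ = (r * g * r⁻¹ * g⁻¹)⁻¹ by group]
      exact inv_mem (hE.conj_mem hr hg)⟩
    have hFK : f ∈ K := ⟨hE.normalizer_w (hN f hf), fun r hr => by
      rw [hWeq, show f * r * f⁻¹ * r⁻¹ = (r * f * r⁻¹ * f⁻¹)⁻¹ by group]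
      exact inv_mem (hF.conj_mem hr hf)⟩
    have hxK : x ∈ K := mul_mem (inv_mem (hEK e he)) hFK
    obtain ⟨k, hk⟩ := exists_coprime_power (p := p) x
    have hyK : x ^ p ^ k ∈ K := pow_mem hxK _
    have hyW : ∀ w ∈ W, x ^ p ^ k * w * (x ^ p ^ k)⁻¹ = w := fun w hw => by
      have : Commute x w := mul_inv_eq_iff_eq_mul.1 (hxW w hw)
      rw [(this.pow_left _).eq, mul_inv_cancel_right]
    have hy1 : x ^ p ^ k = 1 := eq_one_of_centralizes hG hk fun r hr =>
      mul_inv_eq_one.1 (eq_one_of_core_translation (r := r) hk (hyW _ (hyK.2 r hr)) (hWR _ (hyK.2 r hr)) (by group))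
    have hxR : x ∈ pCore p G := by
      let π := QuotientGroup.mk' (pCore p G)
      have hπ : ∀ g : G, π g = 1 ↔ g ∈ pCore p G := fun g => QuotientGroup.eq_one_iff g
      have hcπ : Commute (π e⁻¹) (π f) := by
        rw [← commutatorElement_eq_one_iff_commute, ← map_commutatorElement, hπ]
        exact h _ (inv_mem he) f hf
      have hx3 : (π x) ^ 3 = 1 := by
        rw [hx, map_mul, hcπ.mul_pow, ← map_pow, ← map_pow, (hπ _).2 (hE2.cube_mem hE (inv_mem he)),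
          (hπ _).2 (hF2.cube_mem hF hf), one_mul]
      refine (hπ x).1 (orderOf_eq_one_iff.1 (Nat.eq_one_of_dvd_coprimes ?_
        (orderOf_dvd_of_pow_eq_one (x := π x) (n := p ^ k) (by rw [← map_pow, hy1, map_one]))
        (orderOf_dvd_of_pow_eq_one hx3)))
      rw [hE2.two]; exact Nat.Coprime.pow_left _ (by norm_num)
    refine mem_of_mem_sup_coprime (CfsgLib.isPGroup_pCore p) hE.core_le_normalizer ?_ hcf
    rw [show f = e * x by rw [hx]; group]
    exact mul_mem (Subgroup.mem_sup_left he) (Subgroup.mem_sup_right hxR)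
  · rw [hE2.card, hF2.card, hE2.eqW, hF2.eqW, hE2.cardW, hF2.cardW]

end

/-- Two subnormal blocks commuting modulo `O_p(G)` are equal or commute. -/
theorem eq_or_commute_of_mod (hG : Subgroup.centralizer (pCore p G : Set G) ≤ pCore p G)
    (hE : IsSubBlock p E) (hF : IsSubBlock p F) (h : ∀ e ∈ E, ∀ f ∈ F, ⁅e, f⁆ ∈ pCore p G) :
    E = F ∨ ⁅E, F⁆ = ⊥ := by
  rcases (block_kind hF).1 with hk | hk | hk
  · exact Or.inr (commutator_eq_bot_of_mod hE hF h (Or.inl hk))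
  · have h' : ∀ f ∈ F, ∀ e ∈ E, ⁅f, e⁆ ∈ pCore p G := fun f hf e he => by
      rw [show ⁅f, e⁆ = ⁅e, f⁆⁻¹ from (commutatorElement_inv e f).symm]; exact inv_mem (h e he f hf)
    rcases (block_kind hE).1 with hl | hl | hl
    · right; rw [Subgroup.commutator_comm]; exact commutator_eq_bot_of_mod hF hE h' (Or.inl hl)
    · exact eq_or_commute_of_mod_two hE hF h hG hl hk
    · right; rw [Subgroup.commutator_comm]; exact commutator_eq_bot_of_mod hF hE h' (Or.inr hl)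
  · exact Or.inr (commutator_eq_bot_of_mod hE hF h (Or.inr hk))

end CfsgLib.BBlock
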