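import Cfsg.Agent.Lib.Baumann.BlockMod

/-!
A block with solvable quotient normalizes another one of the same kind, provided the conjugates of the
latter commute with it.
-/

set_option autoImplicit false
set_option linter.unusedSectionVars false

namespace CfsgLib.BBlock

open Cfsg
open scoped commutatorElement

variable {G : Type*} [Group G] [Finite G] {p : ℕ} [Fact p.Prime] {E F : Subgroup G}

local notation:max "Qc" E:max => pCoreOf p E
local notation:max "Wc" E:max => omegaOneCenter p (pCoreOf p E)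
local notation:max "Zc" E:max => omegaOneCenter p (pCoreOf p E) ⊓ Subgroup.centralizer (E : Set G)

/-- The conjugates of `E` under the elements of `F` moving it commute with `E`. -/
def ConjCommute (E F : Subgroup G) : Prop :=
  ∀ a ∈ F, a ∉ Subgroup.normalizer (E : Set G) → ∀ x ∈ E, a * x * a⁻¹ ∈ Subgroup.centralizer (E : Set G)

theorem conj_mem_qc (hE : IsSubBlock p E) (hF : IsSubBlock p F) {w f : G} (hw : w ∈ Wc E) (hf : f ∈ F) :
    w * f * w⁻¹ * f⁻¹ ∈ Qc F := by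
  have hwR : w ∈ pCore p G := hE.q_le_core (omegaOneCenter_le p _ hw)
  refine hF.mem_q (mul_mem (conj_mem_normalizer (hF.core_le_normalizer hwR) hf) (inv_mem hf)) ?_
  rw [show w * f * w⁻¹ * f⁻¹ = w * (f * w⁻¹ * f⁻¹) by group]
  exact mul_mem hwR ((inferInstance : (pCore p G).Normal).conj_mem _ (inv_mem hwR) f)

theorem wc_le (E : Subgroup G) : (Wc E) ≤ E := (omegaOneCenter_le p _).trans (Subgroup.map_subtype_le _)

theorem normalizes_two (hE : IsSubBlock p E) (hF : IsSubBlock p F) (hE2 : KindTwo p E) (hF2 : KindTwo p F)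
    (hconj : ConjCommute E F) : F ≤ Subgroup.normalizer (E : Set G) := by
  refine le_of_coprime hF.res fun f hf hc => ?_
  by_contra hmove
  have hf3 : f ^ 3 = 1 := by
    obtain ⟨k, hk⟩ := CfsgLib.isPGroup_pCore p (G := G) ⟨_, hF2.cube_mem hF hf⟩
    exact orderOf_eq_one_iff.mp (Nat.eq_one_of_dvd_coprimes (Nat.Coprime.pow_right k hc)
      (orderOf_pow_dvd 3) (orderOf_dvd_of_pow_eq_one (congrArg Subtype.val hk)))
  have hf' : f * f = f⁻¹ := by
    rw [eq_inv_iff_mul_eq_one, ← hf3, pow_succ, pow_two]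
  have hC := hconj f hf hmove
  have hC' := hconj f⁻¹ (inv_mem hf) (fun h => hmove (by simpa using inv_mem h))
  set W := Wc E with hW
  have hWE : W ≤ E := wc_le E
  have h1 : ∀ w ∈ W, w ∈ Subgroup.centralizer (E : Set G) → w = 1 := fun w hw hc => by
    have : w ∈ (Zc E) := ⟨hw, hc⟩
    rwa [hE2.zBot, Subgroup.mem_bot] at this
  let ψ : ↥W →* ↥(Qc F) :=
    { toFun := fun w => ⟨(w : G) * f * (w : G)⁻¹ * f⁻¹, conj_mem_qc hE hF w.2 hf⟩
      map_one' := Subtype.ext (by simp)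
      map_mul' := fun a b => Subtype.ext (by
        show (a : G) * b * f * ((a : G) * b)⁻¹ * f⁻¹ = (a : G) * f * (a : G)⁻¹ * f⁻¹ * ((b : G) * f * (b : G)⁻¹ * f⁻¹)
        have h2 := Subgroup.mem_centralizer_iff.1 (hC _ (hWE (inv_mem a.2))) _ (hWE b.2)
        calc (a : G) * b * f * ((a : G) * b)⁻¹ * f⁻¹
            = (a : G) * ((b : G) * f * (b : G)⁻¹ * f⁻¹) * (f * (a : G)⁻¹ * f⁻¹) := by group
          _ = (a : G) * (((b : G) * f * (b : G)⁻¹ * f⁻¹) * (f * (a : G)⁻¹ * f⁻¹)) := by group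
          _ = (a : G) * ((f * (a : G)⁻¹ * f⁻¹) * ((b : G) * f * (b : G)⁻¹ * f⁻¹)) := by
              congr 1
              have h3 : f * (a : G)⁻¹ * f⁻¹ * (f * (b : G)⁻¹ * f⁻¹) = f * (b : G)⁻¹ * f⁻¹ * (f * (a : G)⁻¹ * f⁻¹) := by
                rw [conj_mul, conj_mul, omegaOneCenter_comm p _ (inv_mem b.2) (omegaOneCenter_le p _ (inv_mem a.2))]
              calc (b : G) * f * (b : G)⁻¹ * f⁻¹ * (f * (a : G)⁻¹ * f⁻¹)
                  = (b : G) * ((f * (b : G)⁻¹ * f⁻¹) * (f * (a : G)⁻¹ * f⁻¹)) := by group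
                _ = ((b : G) * (f * (a : G)⁻¹ * f⁻¹)) * (f * (b : G)⁻¹ * f⁻¹) := by rw [← h3]; group
                _ = _ := by rw [h2]; group
          _ = _ := by group) }
  have hinj : Function.Injective ψ := by
    refine (injective_iff_map_eq_one ψ).2 fun w hw => Subtype.ext (h1 _ w.2 ?_)
    have h2 : (w : G) * f * (w : G)⁻¹ * f⁻¹ = 1 := congrArg Subtype.val hw
    have h3 : (w : G) = f * w * f⁻¹ := by
      rw [← mul_inv_eq_one, ← h2]; group
    rw [h3]; exact hC _ (hWE w.2)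
  have hsurj : Function.Surjective ψ := by
    have := Fintype.ofFinite ↥W
    have := Fintype.ofFinite ↥(Qc F)
    refine ((Fintype.bijective_iff_injective_and_card ψ).2 ⟨hinj, ?_⟩).2
    rw [← Nat.card_eq_fintype_card, ← Nat.card_eq_fintype_card, hW, hE2.cardW, hF2.eqW, hF2.cardW]
  have htriv : ∀ w : ↥W, w = 1 := by
    intro w
    obtain ⟨w', hw'⟩ := hsurj ⟨f * (ψ w : G) * f⁻¹,
      conj_mem_normalizer (hF.normalizes_q hf) (ψ w).2⟩
    have h2 : (w' : G) * f * (w' : G)⁻¹ * f⁻¹ = f * ((w : G) * f * (w : G)⁻¹ * f⁻¹) * f⁻¹ := congrArg Subtype.val hw'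
    have h3 : (w' : G) = f * w * f⁻¹ * (f⁻¹ * (w : G)⁻¹ * f⁻¹⁻¹) * (f * w' * f⁻¹) := by
      calc (w' : G) = ((w' : G) * f * (w' : G)⁻¹ * f⁻¹) * (f * w' * f⁻¹) := by group
        _ = (f * w * f⁻¹ * ((f * f) * (w : G)⁻¹ * (f * f)⁻¹)) * (f * w' * f⁻¹) := by rw [h2]; group
        _ = _ := by rw [hf']
    have h4 : (w' : G) = 1 := h1 _ w'.2 (by
      rw [h3]; exact mul_mem (mul_mem (hC _ (hWE w.2)) (hC' _ (hWE (inv_mem w.2)))) (hC _ (hWE w'.2)))
    rw [show w' = 1 from Subtype.ext h4, map_one] at hw'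
    refine Subtype.ext (congrArg Subtype.val (hinj (a₁ := w) (a₂ := 1) ?_))
    rw [map_one]
    exact Subtype.ext (by
      have h5 : f * (ψ w : G) * f⁻¹ = 1 := (congrArg Subtype.val hw').symm
      exact (conj_eq_one_iff).1 h5)
  have h4 := hE2.cardW
  rw [← hW] at h4
  have : Subsingleton ↥W := ⟨fun a b => (htriv a).trans (htriv b).symm⟩
  rw [Nat.card_of_subsingleton (1 : ↥W)] at h4
  omega

theorem KindThree.replace {z z' : G} (hE : IsSubBlock p E) (hz : KindThree p E z) (h' : z' ∈ E)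
    (hd : z * z' ∈ Qc E) (hsq : z' * z' = 1) : KindThree p E z' := by
  have hz' : z' = z * (z * z') := by rw [← mul_assoc, hz.sq_one, one_mul]
  have key : ∀ e ∈ E, z * e ∈ Qc E → z' * e ∈ Qc E := by
    intro e he h
    have h1 : z' * e = z * (z * z') * z⁻¹ * (z * e) := by
      conv_lhs => rw [hz']
      group
    rw [h1]
    exact mul_mem (conj_mem_normalizer (hE.normalizes_q hz.mem) hd) h
  refine
    { three := hz.three, mem := h', not_mem := fun h => hz.not_mem ?_, sq_one := hsq, card := hz.card, sq := ?_,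
      centre := ?_, comm := ?_, invW := ?_, cardW := hz.cardW, shape := ?_ }
  · rw [show z = z * z' * z'⁻¹ by group]; exact mul_mem hd (inv_mem h)
  · intro e he
    rcases hz.sq e he with h | h | h
    · exact Or.inl h
    · exact Or.inr (Or.inl (key e he h))
    · exact Or.inr (Or.inr (key _ (mul_mem he he) h))
  · intro e he hc
    rcases hz.centre e he hc with h | h
    · exact Or.inl h
    · exact Or.inr (key e he h)
  · obtain ⟨a, ha, b, hb, h⟩ := hz.comm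
    exact ⟨a, ha, b, hb, key _ (mul_mem (mul_mem (mul_mem ha hb) (inv_mem ha)) (inv_mem hb)) h⟩
  · intro w hw
    have := hz.invW w hw
    rwa [show z' * w * z'⁻¹ = z * ((z * z') * w * (z * z')⁻¹) * z⁻¹ by
      conv_lhs => rw [hz']
      group, hE.q_normalizes_w hd hw]
  · rcases hz.shape with h | ⟨hX, h1, h2, h3, h4⟩
    · exact Or.inl h
    refine Or.inr ⟨hX, fun q hq => ?_, h2, h3, h4⟩
    have hq' : (z * z') * q * (z * z')⁻¹ ∈ Qc E := mul_mem (mul_mem hd hq) (inv_mem hd)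
    have hcm : (z * z') * q * (z * z')⁻¹ * q⁻¹ ∈ Zc E := hE.q_comm hX hd hq
    rw [show z' * q * z'⁻¹ * q = z * ((z * z') * q * (z * z')⁻¹ * q⁻¹) * z⁻¹ * (z * q * z⁻¹ * q) by
      conv_lhs => rw [hz']
      group]
    exact mul_mem (conj_mem_normalizer (hE.nat.normalizes hz.mem) hcm.1) (h1 q hq)

theorem KindThree.exists_not_pm {z : G} (hz : KindThree p E z) : ∃ k ∈ E, z * (k * k) ∈ Qc E := by
  classical
  by_contra hcon
  have h : ∀ e : ↥E, (e : G) ∈ (Qc E) ∨ z * e ∈ (Qc E) := fun e => by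
    rcases hz.sq e e.2 with h | h | h
    · exact Or.inl h
    · exact Or.inr h
    · exact absurd ⟨e, e.2, h⟩ hcon
  let φ : ↥E → Bool × ↥(Qc E) := fun e =>
    if he : (e : G) ∈ (Qc E) then (false, ⟨e, he⟩) else (true, ⟨z * e, (h e).resolve_left he⟩)
  have hφ : Function.Injective φ := by
    intro a b hab
    by_cases ha : (a : G) ∈ (Qc E) <;> by_cases hb : (b : G) ∈ (Qc E) <;>
      simp [φ, ha, hb] at hab
    · exact hab
    · exact hab
  have := Nat.card_le_card_of_injective φ hφ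
  rw [hz.card, Nat.card_prod, Nat.card_eq_fintype_card (α := Bool), Fintype.card_bool] at this
  have hpos : 0 < Nat.card ↥(Qc E) := Nat.card_pos
  omega

theorem normalizes_three (hE : IsSubBlock p E) (hF : IsSubBlock p F) {zE zF : G} (hE3 : KindThree p E zE)
    (hF3 : KindThree p F zF) (hconj : ConjCommute E F) : F ≤ Subgroup.normalizer (E : Set G) := by
  set N := Subgroup.normalizer (E : Set G) with hN
  have hRN : pCore p G ≤ N := hE.core_le_normalizer
  intro f₀ hf₀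
  by_contra hmove₀
  -- choose an element of order four
  obtain ⟨k, hk, hkz, hkmove⟩ : ∃ k ∈ F, zF * (k * k) ∈ (Qc F) ∧ (zF ∈ N → k ∉ N) := by
    by_cases hzN : zF ∈ N
    · refine ⟨f₀, hf₀, ?_, fun _ => hmove₀⟩
      rcases hF3.sq f₀ hf₀ with h | h | h
      · exact absurd (hRN (hF.q_le_core h)) hmove₀
      · refine absurd ?_ hmove₀
        rw [show f₀ = zF⁻¹ * (zF * f₀) by group]
        exact mul_mem (inv_mem hzN) (hRN (hF.q_le_core h))
      · exact h
    · obtain ⟨k, hk, h⟩ := hF3.exists_not_pm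
      exact ⟨k, hk, h, fun h' => absurd h' hzN⟩
  have hk4 : k * k * (k * k) ∈ (Qc F) := by
    have h1 := conj_mem_normalizer (hF.normalizes_q hF3.mem) hkz
    rw [show k * k * (k * k) = zF * (zF * (k * k)) * zF⁻¹ * (zF * (k * k)) by
      rw [show zF * (zF * (k * k)) * zF⁻¹ * (zF * (k * k)) = (zF * zF) * (k * k) * (k * k) by group, hF3.sq_one, one_mul]]
    exact mul_mem h1 hkz
  obtain ⟨j, hj⟩ := ((CfsgLib.isPGroup_pCore p (G := ↥F)).map F.subtype) ⟨_, hk4⟩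
  have hj' : (k * k * (k * k)) ^ p ^ j = 1 := congrArg Subtype.val hj
  obtain ⟨m, hm⟩ : ∃ m, p ^ j = 2 * m + 1 := by
    obtain ⟨m, hm⟩ : Odd (p ^ j) := by rw [hF3.three]; exact Odd.pow (by decide)
    exact ⟨m, hm⟩
  set f := k ^ p ^ j with hfdef
  have hf : f ∈ F := pow_mem hk _
  set z := f * f with hzdef
  have hz2 : z * z = 1 := by
    rw [hzdef, hfdef, ← (Commute.refl k).mul_pow, ← (Commute.refl (k * k)).mul_pow]; exact hj'
  have hfk : f = k * (k * k) ^ m := by rw [hfdef, hm, pow_succ', pow_mul, pow_two]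
  have hzz : zF * z ∈ (Qc F) := by
    refine hF.mem_q (mul_mem hF3.mem (mul_mem hf hf)) ?_
    have hπ : ∀ g : G, QuotientGroup.mk' (pCore p G) g = 1 ↔ g ∈ pCore p G := fun g => QuotientGroup.eq_one_iff g
    rw [← hπ, hzdef, hfdef, ← (Commute.refl k).mul_pow, map_mul, map_pow]
    have h1 := (hπ _).2 (hF.q_le_core hkz)
    rw [map_mul, mul_eq_one_iff_inv_eq, ← map_inv, show zF⁻¹ = zF from inv_eq_of_mul_eq_one_left hF3.sq_one] at h1
    rw [← h1, hm, pow_succ, pow_mul, pow_two, ← map_mul, hF3.sq_one, map_one, one_pow, one_mul, ← map_mul,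
      hF3.sq_one, map_one]
  have hz : KindThree p F z := hF3.replace hF (mul_mem hf hf) hzz hz2
  have hfN : f ∉ N := by
    intro hfN
    have hzFN : zF ∈ N := by
      rw [show zF = zF * z * z⁻¹ by group]
      exact mul_mem (hRN (hF.q_le_core hzz)) (inv_mem (mul_mem hfN hfN))
    refine hkmove hzFN ?_
    have hkkN : k * k ∈ N := by
      rw [show k * k = zF⁻¹ * (zF * (k * k)) by group]
      exact mul_mem (inv_mem hzFN) (hRN (hF.q_le_core hkz))
    rw [show k = f * ((k * k) ^ m)⁻¹ by rw [hfk]; group]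
    exact mul_mem hfN (inv_mem (pow_mem hkkN m))
  set W := Wc E with hW
  have hWE : W ≤ E := wc_le E
  set C := Subgroup.centralizer (E : Set G) with hC
  have hf3 : z * f = f⁻¹ := by
    rw [eq_inv_iff_mul_eq_one, mul_assoc]
    exact hz2
  have hzinv : z⁻¹ = z := inv_eq_of_mul_eq_one_left hz2
  have hfz : f * z = z * f := by rw [hzdef]; group
  have hcf : ∀ x ∈ E, f * x * f⁻¹ ∈ C := hconj f hf hfN
  have hcf' : ∀ x ∈ E, f⁻¹ * x * f⁻¹⁻¹ ∈ C := hconj f⁻¹ (inv_mem hf) fun h => hfN (by simpa using inv_mem h)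
  have hzW : ∀ a ∈ W, z * a * z⁻¹ ∈ W ∨ z * a * z⁻¹ ∈ C := fun a ha => by
    by_cases hzN : z ∈ N
    · exact Or.inl (conj_mem_normalizer (hE.normalizer_w hzN) ha)
    · exact Or.inr (hconj z hz.mem hzN a (hWE ha))
  have hzWc : ∀ a ∈ W, ∀ b ∈ W, z * a * z⁻¹ * b = b * (z * a * z⁻¹) := fun a ha b hb => by
    rcases hzW a ha with h | h
    · exact (omegaOneCenter_comm p _ hb (omegaOneCenter_le p _ h))
    · exact (Subgroup.mem_centralizer_iff.1 h b (hWE hb)).symm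
  -- `χ a = [a, z]`
  let χ : ↥W →* G :=
    { toFun := fun a => (a : G) * z * (a : G)⁻¹ * z⁻¹
      map_one' := by simp
      map_mul' := fun a b => by
        show (a : G) * b * z * ((a : G) * b)⁻¹ * z⁻¹ = (a : G) * z * (a : G)⁻¹ * z⁻¹ * ((b : G) * z * (b : G)⁻¹ * z⁻¹)
        have h1 := hzWc _ (inv_mem a.2) _ b.2
        have h2 : z * (a : G)⁻¹ * z⁻¹ * (z * (b : G)⁻¹ * z⁻¹) = z * (b : G)⁻¹ * z⁻¹ * (z * (a : G)⁻¹ * z⁻¹) := by
          rw [conj_mul, conj_mul, omegaOneCenter_comm p _ (inv_mem b.2) (omegaOneCenter_le p _ (inv_mem a.2))]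
        calc (a : G) * b * z * ((a : G) * b)⁻¹ * z⁻¹
            = (a : G) * ((b : G) * (z * (b : G)⁻¹ * z⁻¹ * (z * (a : G)⁻¹ * z⁻¹))) := by group
          _ = (a : G) * (((b : G) * (z * (a : G)⁻¹ * z⁻¹)) * (z * (b : G)⁻¹ * z⁻¹)) := by rw [← h2]; group
          _ = (a : G) * (((z * (a : G)⁻¹ * z⁻¹) * b) * (z * (b : G)⁻¹ * z⁻¹)) := by rw [h1]
          _ = _ := by group }
  have hχQ : ∀ a : ↥W, χ a ∈ (Qc F) := fun a => conj_mem_qc hE hF a.2 hz.mem
  have hχz : ∀ a : ↥W, z * χ a * z⁻¹ = (χ a)⁻¹ := fun a => by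
    show z * ((a : G) * z * (a : G)⁻¹ * z⁻¹) * z⁻¹ = ((a : G) * z * (a : G)⁻¹ * z⁻¹)⁻¹
    calc z * ((a : G) * z * (a : G)⁻¹ * z⁻¹) * z⁻¹ = z * (a : G) * z * (a : G)⁻¹ * (z⁻¹ * z⁻¹) := by group
      _ = z * (a : G) * z⁻¹ * (a : G)⁻¹ * (z * z) := by rw [hzinv]
      _ = z * (a : G) * z⁻¹ * (a : G)⁻¹ * 1 := by rw [hz2]
      _ = _ := by group
  -- `χ a` centralizes `E` only for `a` in `Z`
  have hsmall : ∀ a : ↥W, χ a ∈ C → (a : G) ∈ (Zc E) := by
    intro a hχ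
    by_cases hzN : z ∈ N
    · have hza : z * (a : G) * z⁻¹ ∈ W := conj_mem_normalizer (hE.normalizer_w hzN) a.2
      set u := (a : G) * (z * a * z⁻¹) with hu
      have huW : u ∈ W := mul_mem a.2 hza
      have huz : z * u * z⁻¹ = u := by
        rw [hu, show z * ((a : G) * (z * a * z⁻¹)) * z⁻¹ = z * a * z⁻¹ * ((z * z) * a * (z * z)⁻¹) by group, hz2,
          one_mul, inv_one, mul_one, omegaOneCenter_comm p _ a.2 (omegaOneCenter_le p _ hza)]
      have hψ : u * f * u⁻¹ * f⁻¹ ∈ Zc F := hz.fixed_mem_z (conj_mem_qc hE hF huW hf) (by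
        have hfzc : z * f * z⁻¹ = f := by rw [← hfz, mul_inv_cancel_right]
        rw [show z * (u * f * u⁻¹ * f⁻¹) * z⁻¹ =
          (z * u * z⁻¹) * (z * f * z⁻¹) * (z * u * z⁻¹)⁻¹ * (z * f * z⁻¹)⁻¹ by group, huz, hfzc])
      set v := f * u * f⁻¹ with hv
      have h1 : f * (u * f * u⁻¹ * f⁻¹) * f⁻¹ = u * f * u⁻¹ * f⁻¹ := by
        rw [Subgroup.mem_centralizer_iff.1 hψ.2 f hf, mul_inv_cancel_right]
      have h2 : v * u⁻¹ = u * v⁻¹ := by
        calc v * u⁻¹ = f * u * f⁻¹ * (z * u * z⁻¹)⁻¹ := by rw [huz]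
          _ = f * (u * f * u⁻¹ * f⁻¹) * f⁻¹ := by rw [hzdef]; group
          _ = u * f * u⁻¹ * f⁻¹ := h1
          _ = _ := by rw [hv]; group
      have hvC : v ∈ C := hcf u (hWE huW)
      have hvu : u * v = v * u := Subgroup.mem_centralizer_iff.1 hvC u (hWE huW)
      have h3 : u * u ∈ C := by
        have : u * u = v * v := by
          calc u * u = u * (v * v⁻¹) * u := by group
            _ = (u * v⁻¹) * (v * u) := by
                rw [← hvu]
                have h4 : v⁻¹ * u = u * v⁻¹ := (Subgroup.mem_centralizer_iff.1 (inv_mem hvC) u (hWE huW)).symm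
                calc u * (v * v⁻¹) * u = u * (v * (v⁻¹ * u)) := by group
                  _ = u * ((v⁻¹ * u) * v) := by rw [h4]; rw [← mul_assoc v, ← hvu]; group
                  _ = _ := by group
            _ = (v * u⁻¹) * (v * u) := by rw [h2]
            _ = (v * u⁻¹) * (u * v) := by rw [hvu]
            _ = v * v := by group
        rw [this]; exact mul_mem hvC hvC
      have hu2 : u * u ∈ (Zc E) := ⟨mul_mem huW huW, h3⟩
      have huZ : u ∈ (Zc E) := mem_of_sq_mem hE3.three (omegaOneCenter_le p _ huW) hu2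
      refine mem_of_sq_mem hE3.three (omegaOneCenter_le p _ a.2) ⟨mul_mem a.2 a.2, ?_⟩
      rw [show (a : G) * a = u * χ a by
        show (a : G) * a = (a : G) * (z * a * z⁻¹) * ((a : G) * z * (a : G)⁻¹ * z⁻¹)
        rw [show (a : G) * (z * a * z⁻¹) * ((a : G) * z * (a : G)⁻¹ * z⁻¹) =
          (a : G) * ((z * a * z⁻¹) * a) * (z * (a : G)⁻¹ * z⁻¹) by group, hzWc _ a.2 _ a.2]
        group]
      exact mul_mem huZ.2 hχ
    · refine ⟨a.2, ?_⟩
      rw [show (a : G) = χ a * (z * a * z⁻¹) by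
        show (a : G) = (a : G) * z * (a : G)⁻¹ * z⁻¹ * (z * a * z⁻¹); group]
      exact mul_mem hχ (hconj z hz.mem hzN _ (hWE a.2))
  have hfχ : ∀ b : ↥W, f * χ b * f⁻¹ ∈ C := fun b => by
    show f * ((b : G) * z * (b : G)⁻¹ * z⁻¹) * f⁻¹ ∈ C
    rw [show f * ((b : G) * z * (b : G)⁻¹ * z⁻¹) * f⁻¹ =
      (f * b * f⁻¹) * ((f * z) * (b : G)⁻¹ * (f * z)⁻¹) by group, hfz, hf3]
    exact mul_mem (hcf _ (hWE b.2)) (hcf' _ (hWE (inv_mem b.2)))
  have hfχ' : ∀ b : ↥W, f⁻¹ * χ b * f ∈ C := fun b => by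
    show f⁻¹ * ((b : G) * z * (b : G)⁻¹ * z⁻¹) * f ∈ C
    rw [show f⁻¹ * ((b : G) * z * (b : G)⁻¹ * z⁻¹) * f =
      (f⁻¹ * b * f⁻¹⁻¹) * ((f⁻¹ * z) * (b : G)⁻¹ * (f⁻¹ * z)⁻¹) by group, show f⁻¹ * z = f by rw [hzdef]; group]
    exact mul_mem (hcf' _ (hWE b.2)) (hcf _ (hWE (inv_mem b.2)))
  have hswap : ∀ a b : ↥W, χ a * (f * χ b * f⁻¹) = f * χ b * f⁻¹ * χ a := by
    intro a b
    set y := f * χ b * f⁻¹ with hy
    have hya : (a : G) * y = y * a := Subgroup.mem_centralizer_iff.1 (hfχ b) a (hWE a.2)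
    have hzy : z * y * z⁻¹ = y⁻¹ := by
      rw [hy, show z * (f * χ b * f⁻¹) * z⁻¹ = (z * f) * χ b * (z * f)⁻¹ by group, ← hfz,
        show f * z * χ b * (f * z)⁻¹ = f * (z * χ b * z⁻¹) * f⁻¹ by group, hχz]
      group
    have hya' : Commute (z * (a : G)⁻¹ * z⁻¹) y := by
      have h1 : Commute (z * (a : G)⁻¹ * z⁻¹) (z * y * z⁻¹) := by
        show z * (a : G)⁻¹ * z⁻¹ * (z * y * z⁻¹) = z * y * z⁻¹ * (z * (a : G)⁻¹ * z⁻¹)
        rw [conj_mul, conj_mul, (Commute.inv_left (show Commute (a : G) y from hya)).eq]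
      rw [hzy] at h1
      exact Commute.inv_right_iff.1 h1
    show (a : G) * z * (a : G)⁻¹ * z⁻¹ * y = y * ((a : G) * z * (a : G)⁻¹ * z⁻¹)
    calc (a : G) * z * (a : G)⁻¹ * z⁻¹ * y = (a : G) * ((z * (a : G)⁻¹ * z⁻¹) * y) := by group
      _ = (a : G) * (y * (z * (a : G)⁻¹ * z⁻¹)) := by rw [hya'.eq]
      _ = ((a : G) * y) * (z * (a : G)⁻¹ * z⁻¹) := by group
      _ = _ := by rw [hya]; group
  let Φ : ↥W × ↥W →* ↥(Qc F) :=
    { toFun := fun ab => ⟨χ ab.1 * (f * χ ab.2 * f⁻¹),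
        mul_mem (hχQ _) (conj_mem_normalizer (hF.normalizes_q hf) (hχQ _))⟩
      map_one' := Subtype.ext (by simp)
      map_mul' := fun x y => Subtype.ext (by
        show χ (x.1 * y.1) * (f * χ (x.2 * y.2) * f⁻¹) =
          χ x.1 * (f * χ x.2 * f⁻¹) * (χ y.1 * (f * χ y.2 * f⁻¹))
        rw [map_mul, map_mul, ← conj_mul, mul_assoc (χ x.1) (χ y.1), ← mul_assoc (χ y.1), hswap]
        group) }
  have hker : Nat.card Φ.ker ≤ Nat.card ↥(Zc E) * Nat.card ↥(Zc E) := by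
    have hsub : ∀ x : ↥Φ.ker, (x.1.1 : G) ∈ (Zc E) ∧ (x.1.2 : G) ∈ (Zc E) := by
      rintro ⟨⟨a, b⟩, hab⟩
      have h1 : χ a * (f * χ b * f⁻¹) = 1 := congrArg Subtype.val hab
      refine ⟨hsmall a ?_, hsmall b ?_⟩
      · rw [mul_eq_one_iff_eq_inv.1 h1]; exact inv_mem (hfχ b)
      · rw [show χ b = f⁻¹ * ((χ a)⁻¹ * (χ a * (f * χ b * f⁻¹))) * f by group, h1, mul_one,
          show f⁻¹ * (χ a)⁻¹ * f = (f⁻¹ * χ a * f)⁻¹ by group]
        exact inv_mem (hfχ' a)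
    rw [← Nat.card_prod]
    refine Nat.card_le_card_of_injective
      (fun x => (⟨x.1.1, (hsub x).1⟩, ⟨x.1.2, (hsub x).2⟩) : ↥Φ.ker → ↥(Zc E) × ↥(Zc E)) fun x y h => ?_
    simp only [Prod.mk.injEq, Subtype.mk.injEq] at h
    exact Subtype.ext (Prod.ext (Subtype.ext h.1) (Subtype.ext h.2))
  have h81 : 81 ≤ Nat.card Φ.range := by
    have h1 := Φ.ker.card_mul_index
    rw [Subgroup.index_ker, Nat.card_prod, show Nat.card ↥W = _ from hE3.cardW] at h1
    have hpos : 0 < Nat.card ↥(Zc E) := Nat.card_pos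
    have h2 := Nat.mul_le_mul_right (Nat.card Φ.range) hker
    nlinarith
  have hinvM : ∀ x ∈ Φ.range, z * (x : G) * z⁻¹ = (x : G)⁻¹ := by
    rintro _ ⟨⟨a, b⟩, rfl⟩
    show z * (χ a * (f * χ b * f⁻¹)) * z⁻¹ = (χ a * (f * χ b * f⁻¹))⁻¹
    conv_lhs => rw [hswap]
    rw [show z * (f * χ b * f⁻¹ * χ a) * z⁻¹ =
      (z * f) * χ b * (z * f)⁻¹ * (z * χ a * z⁻¹) by group, ← hfz,
      show f * z * χ b * (f * z)⁻¹ = f * (z * χ b * z⁻¹) * f⁻¹ by group, hχz, hχz]
    group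
  rcases hz.shape with ⟨hQW, hZ⟩ | ⟨hX, -, hcard, hZ3, -⟩
  · have h1 : Nat.card Φ.range ≤ Nat.card ↥(Qc F) := Subgroup.card_le_card_group _
    have h2 : Nat.card ↥(Qc F) = 9 := by
      rw [hQW, hz.cardW, hZ, Subgroup.card_bot]
    omega
  · refine hX.ne ?_
    let Ψ : ↥Φ.range × ↥(Zc F) → ↥(Qc F) := fun mt =>
      mt.1.1 * ⟨mt.2, omegaOneCenter_le p _ mt.2.2.1⟩
    have hΨ : Function.Injective Ψ := by
      rintro ⟨m₁, t₁⟩ ⟨m₂, t₂⟩ h
      have h' : ((m₁ : ↥(Qc F)) : G) * t₁ = ((m₂ : ↥(Qc F)) : G) * t₂ := congrArg Subtype.val h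
      have he : (((m₂⁻¹ * m₁ : ↥Φ.range) : ↥(Qc F)) : G) = (t₂ : G) * (t₁ : G)⁻¹ := by
        rw [Subgroup.coe_mul, Subgroup.coe_inv, Subgroup.coe_mul, Subgroup.coe_inv, eq_mul_inv_iff_mul_eq, mul_assoc, h']
        group
      have hinv := hinvM _ (m₂⁻¹ * m₁).2
      rw [he] at hinv
      have ht : (t₂ : G) * (t₁ : G)⁻¹ ∈ (Zc F) := mul_mem t₂.2 (inv_mem t₁.2)
      rw [Subgroup.mem_centralizer_iff.1 ht.2 z hz.mem, mul_inv_cancel_right, eq_inv_iff_mul_eq_one] at hinv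
      have h1 : (t₂ : G) * (t₁ : G)⁻¹ ∈ (⊥ : Subgroup G) :=
        mem_of_sq_mem hz.three (omegaOneCenter_le p _ ht.1) (by rw [hinv]; exact one_mem _)
      rw [Subgroup.mem_bot, mul_inv_eq_one] at h1
      have ht12 : t₁ = t₂ := Subtype.ext h1.symm
      subst ht12
      exact Prod.ext (Subtype.ext (Subtype.ext (mul_right_cancel h'))) rfl
    have hsurj : Function.Surjective Ψ := by
      have h1 := Nat.card_le_card_of_injective Ψ hΨ
      rw [Nat.card_prod, hcard, hz.cardW, hZ3] at h1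
      have h2 : Nat.card (↥Φ.range × ↥(Zc F)) = Nat.card ↥(Qc F) := by
        rw [Nat.card_prod, hcard, hz.cardW, hZ3]; omega
      exact (hΨ.bijective_of_nat_card_le h2.ge).2
    intro x hx y hy
    obtain ⟨⟨⟨_, ⟨u, rfl⟩⟩, t⟩, ht⟩ := hsurj ⟨x, hx⟩
    obtain ⟨⟨⟨_, ⟨v, rfl⟩⟩, s⟩, hs⟩ := hsurj ⟨y, hy⟩
    have hxe : x = (Φ u : G) * (t : G) := (congrArg Subtype.val ht).symm
    have hye : y = (Φ v : G) * (s : G) := (congrArg Subtype.val hs).symm
    have huv : (Φ u : G) * Φ v = Φ v * Φ u := by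
      have : u * v = v * u := Prod.ext (Subtype.ext (omegaOneCenter_comm p _ v.1.2 (omegaOneCenter_le p _ u.1.2)))
        (Subtype.ext (omegaOneCenter_comm p _ v.2.2 (omegaOneCenter_le p _ u.2.2)))
      rw [← Subgroup.coe_mul, ← Subgroup.coe_mul, ← map_mul, ← map_mul, this]
    have hts : ∀ (t : ↥(Zc F)), ∀ q ∈ (Qc F), q * (t : G) = t * q := fun t q hq =>
      omegaOneCenter_comm p _ t.2.1 hq
    rw [hxe, hye]
    calc (Φ u : G) * t * ((Φ v : G) * s) = (Φ u : G) * ((t : G) * Φ v) * s := by group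
      _ = (Φ u : G) * Φ v * ((t : G) * s) := by rw [← hts t _ (Φ v).2]; group
      _ = (Φ v : G) * Φ u * ((s : G) * t) := by
          rw [huv, hts s _ (omegaOneCenter_le p _ t.2.1)]
      _ = (Φ v : G) * ((Φ u : G) * s) * t := by group
      _ = (Φ v : G) * ((s : G) * Φ u) * t := by rw [hts s _ (Φ u).2]
      _ = _ := by group

end CfsgLib.BBlock
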