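import Cfsg.Agent.Lib.Baumann.BlockNine

/-!
Two blocks with quaternion quotient normalizing each other.
-/

set_option autoImplicit false
set_option linter.unusedSectionVars false

namespace CfsgLib.BBlock

open Cfsg
open scoped commutatorElement

variable {G : Type*} [Group G] [Finite G] {p : ℕ} [Fact p.Prime] {E F : Subgroup G}

local notation:max "Qc" E:max => pCoreOf p E
local notation:max "Wc" E:max => omegaOneCenter p (pCoreOf p E)
local notation:max "Zc" E:max => omegaOneCenter p (pCoreOf p E) ⊓ Subgroup.centralizer (E : Set G)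

theorem KindThree.pow_four_mem (hE : IsSubBlock p E) {z : G} (hz : KindThree p E z) {e : G} (he : e ∈ E) :
    QuotientGroup.mk' (pCore p G) e ^ 4 = 1 := by
  set π := QuotientGroup.mk' (pCore p G) with hπdef
  have hπ : ∀ g : G, g ∈ Qc E → π g = 1 := fun g hg => (QuotientGroup.eq_one_iff g).2 (hE.q_le_core hg)
  have hz2 : π z * π z = 1 := by rw [← map_mul, hz.sq_one, map_one]
  rcases hz.sq e he with h | h | h
  · rw [hπ e h, one_pow]
  · have h1 := hπ _ h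
    rw [map_mul, mul_eq_one_iff_inv_eq, inv_eq_of_mul_eq_one_left hz2] at h1
    rw [← h1, show (4 : ℕ) = 2 * 2 by norm_num, pow_mul, pow_two (π z), hz2, one_pow]
  · have h1 := hπ _ h
    rw [map_mul, mul_eq_one_iff_inv_eq, inv_eq_of_mul_eq_one_left hz2, map_mul, ← pow_two] at h1
    rw [show (4 : ℕ) = 2 * 2 by norm_num, pow_mul, ← h1, pow_two, hz2]

theorem KindThree.map_le_core (hE : IsSubBlock p E) {z : G} (hz : KindThree p E z) :
    E.map (QuotientGroup.mk' (pCore p G)) ≤ pCore 2 (G ⧸ pCore p G) :=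
  CfsgLib.isSubnormal_isPGroup_le_pCore (hE.2.map (QuotientGroup.mk'_surjective _)) fun x => ⟨2, by
    obtain ⟨_, e, he, rfl⟩ := x
    exact Subtype.ext (hz.pow_four_mem hE he)⟩

/-- The two blocks have the same `O_p`. -/
theorem qc_le (hE : IsSubBlock p E) (hF : IsSubBlock p F) {z : G} (hz : KindThree p E z) (hzF : z ∈ F) :
    (Qc E) ≤ Qc F := by
  have hkey : ∀ q ∈ Qc E, z * q * z⁻¹ * q⁻¹ ∈ Qc F := fun q hq => by
    have hqR := hE.q_le_core hq
    refine hF.mem_q ?_ (mul_mem ((inferInstance : (pCore p G).Normal).conj_mem _ hqR z) (inv_mem hqR))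
    rw [show z * q * z⁻¹ * q⁻¹ = z * (q * z⁻¹ * q⁻¹) by group]
    exact mul_mem hzF (conj_mem_normalizer (hF.core_le_normalizer hqR) (inv_mem hzF))
  rcases hz.shape with ⟨hQW, hZ⟩ | ⟨hX, hinv, -⟩
  · intro q hq
    refine mem_of_sq_mem hz.three hq ?_
    have hqW : q ∈ Wc E := by rw [← hQW]; exact hq
    have h1 := hz.invW q hqW
    rw [hZ, Subgroup.mem_bot] at h1
    have h2 := inv_mem (hkey q hq)
    rwa [mul_eq_one_iff_eq_inv.1 h1, show (q⁻¹ * q⁻¹)⁻¹ = q * q by rw [mul_inv_rev, inv_inv]] at h2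
  · set K := (Qc E) ⊓ (Qc F) with hK
    have hKN : K ≤ Subgroup.normalizer ((Zc E : Subgroup G) : Set G) := fun k hk =>
      hE.normalizes_z (Subgroup.map_subtype_le _ hk.1)
    set M := K ⊔ (Zc E) with hM
    have hkey' : ∀ q ∈ Qc E, z * q * z⁻¹ * q⁻¹ ∈ M := fun q hq => Subgroup.mem_sup_left
      ⟨show z * q * z⁻¹ * q⁻¹ ∈ Qc E from mul_mem (conj_mem_normalizer (hE.normalizes_q hz.mem) hq) (inv_mem hq),
        hkey q hq⟩
    have hWM : ∀ w ∈ Wc E, w ∈ M := fun w hw => by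
      refine mem_of_sq_mem hz.three (omegaOneCenter_le p _ hw) ?_
      have hc : w * (z * w * z⁻¹) = z * w * z⁻¹ * w :=
        omegaOneCenter_comm p _ (conj_mem_normalizer (hE.nat.normalizes hz.mem) hw) (omegaOneCenter_le p _ hw)
      rw [show w * w = (z * w * z⁻¹ * w⁻¹)⁻¹ * (z * w * z⁻¹ * w) by group]
      exact mul_mem (inv_mem (hkey' w (omegaOneCenter_le p _ hw))) (Subgroup.mem_sup_right (hz.invW w hw))
    have hQM : (Qc E) ≤ M := fun q hq => by
      refine mem_of_sq_mem hz.three hq ?_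
      rw [show q * q = (z * q * z⁻¹ * q⁻¹)⁻¹ * (z * q * z⁻¹ * q) by group]
      exact mul_mem (inv_mem (hkey' q hq)) (hWM _ (hinv q hq))
    have hZK : (Zc E) ≤ K := by
      rw [← hX.der, Subgroup.commutator_le]
      intro a ha b hb
      have ha' := hQM ha
      have hb' := hQM hb
      rw [← SetLike.mem_coe, hM, Subgroup.coe_mul_of_left_le_normalizer_right K _ hKN] at ha' hb'
      obtain ⟨k, hk, t, ht, rfl⟩ := ha'
      obtain ⟨k', hk', t', ht', rfl⟩ := hb'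
      have hc : ∀ x ∈ E, ∀ s ∈ Zc E, x * s = s * x := fun x hx s hs =>
        Subgroup.mem_centralizer_iff.1 hs.2 x hx
      have hkE : k ∈ E := Subgroup.map_subtype_le _ hk.1
      have hk'E : k' ∈ E := Subgroup.map_subtype_le _ hk'.1
      have ht'E : t' ∈ E := wc_le E ht'.1
      have h1 : ⁅k * t, k' * t'⁆ = ⁅k, k'⁆ := by
        calc ⁅k * t, k' * t'⁆ = k * (t * (k' * t')) * t⁻¹ * k⁻¹ * (k' * t')⁻¹ := by
              rw [commutatorElement_def]; group
          _ = k * ((k' * t') * t) * t⁻¹ * k⁻¹ * (k' * t')⁻¹ := by rw [hc _ (mul_mem hk'E ht'E) t ht]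
          _ = k * k' * (t' * k⁻¹) * (t'⁻¹ * k'⁻¹) := by group
          _ = k * k' * (k⁻¹ * t') * (t'⁻¹ * k'⁻¹) := by rw [hc _ (inv_mem hkE) t' ht']
          _ = _ := by rw [commutatorElement_def]; group
      rw [h1, commutatorElement_def]
      exact mul_mem (mul_mem (mul_mem hk hk') (inv_mem hk)) (inv_mem hk')
    exact hQM.trans ((sup_le le_rfl hZK).trans inf_le_right)

/-- `f` acts as an element of `E` on a natural section. -/
theorem agree_section {z : G} (hz : KindThree p E z) {U U₀ : Subgroup G}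
    [(U₀.subgroupOf U).Normal] (hU : Subgroup.normalizer (E : Set G) ≤ Subgroup.normalizer (U : Set G))
    (hU₀ : Subgroup.normalizer (E : Set G) ≤ Subgroup.normalizer (U₀ : Set G)) (hle : U₀ ≤ U)
    (h9 : Nat.card U = 9 * Nat.card U₀) (htriv : ∀ q ∈ Qc E, ∀ u ∈ U, q * u * q⁻¹ * u⁻¹ ∈ U₀)
    (hfaith : ∀ e ∈ E, (∀ u ∈ U, e * u * e⁻¹ * u⁻¹ ∈ U₀) → e ∈ Qc E)
    (hinv : ∀ u ∈ U, z * u * z⁻¹ * u ∈ U₀) {f : G} (hf : f ∈ Subgroup.normalizer (E : Set G))
    (hff : z * (f * f) ∈ Qc E) :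
    ∃ e, ∃ he : e ∈ E, sectAut hU hU₀ ⟨e, Subgroup.le_normalizer he⟩ = sectAut hU hU₀ ⟨f, hf⟩ := by
  set α := sectAut hU hU₀ with hα
  let αE := α.comp (Subgroup.inclusion (Subgroup.le_normalizer : E ≤ Subgroup.normalizer (E : Set G)))
  set ι := α ⟨z, Subgroup.le_normalizer hz.mem⟩ with hι
  have hιv : ∀ v, ι v = v⁻¹ := (sectAut_inv_iff _).2 hinv
  have hι2 : ι * ι = 1 := MulEquiv.ext fun v => by rw [MulAut.mul_apply, hιv, hιv, inv_inv, MulAut.one_apply]
  have hone : ∀ g : ↥(Subgroup.normalizer (E : Set G)), (g : G) ∈ Qc E → α g = 1 := fun g hg =>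
    (sectAut_eq_one_iff g).2 (htriv g hg)
  have hι' : ∀ g : ↥(Subgroup.normalizer (E : Set G)), z * (g : G) ∈ Qc E → α g = ι := fun g hg => by
    have h1 := hone (⟨z, Subgroup.le_normalizer hz.mem⟩ * g) hg
    rw [map_mul, ← hι] at h1
    rw [eq_inv_of_mul_eq_one_right h1, inv_eq_of_mul_eq_one_left hι2]
  have hker : αE.ker ≤ (Qc E).subgroupOf E := fun e he =>
    hfaith e e.2 ((sectAut_eq_one_iff (hU := hU) (hU₀ := hU₀)
      (⟨e, Subgroup.le_normalizer e.2⟩ : ↥(Subgroup.normalizer (E : Set G)))).1 he)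
  have hS : 8 ≤ Nat.card αE.range := by
    have h1 := αE.ker.card_mul_index
    rw [Subgroup.index_ker, hz.card] at h1
    have h2 := Subgroup.card_le_of_le hker
    have hQE : (Qc E) ≤ E := Subgroup.map_subtype_le _
    rw [Nat.card_congr (Subgroup.subgroupOfEquivOfLe hQE).toEquiv] at h2
    have h3 := Nat.mul_le_mul_right (Nat.card αE.range) h2
    have h4 : 0 < Nat.card ↥(Qc E) := Nat.card_pos
    nlinarith
  obtain ⟨e, he⟩ := agree_nine (card_quotient_subgroupOf hle h9) αE.range hS hιv (by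
    rintro _ ⟨e, rfl⟩
    rcases hz.sq e e.2 with h | h | h
    · exact Or.inl (hone _ h)
    · exact Or.inr (Or.inl (hι' _ h))
    · refine Or.inr (Or.inr ?_)
      rw [← map_mul, MonoidHom.comp_apply]
      exact hι' _ h) (g := α ⟨f, hf⟩) (by rw [← map_mul]; exact hι' _ hff)
  exact ⟨e, e.2, he⟩

theorem exists_moving (hE : IsSubBlock p E) {T : Sylow p G} (hT : IsBaumannBlock p (T : Subgroup G) E) :
    ∃ b ∈ baumannSubgroupOf p (T : Subgroup G), b ∉ Subgroup.centralizer ((Wc E : Subgroup G) : Set G) := by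
  by_contra hcon
  simp only [not_exists, not_and, not_not] at hcon
  have hEC : E ≤ Subgroup.centralizer ((Wc E : Subgroup G) : Set G) := by
    refine hT.2.1.ge.trans ?_
    rw [Subgroup.commutator_le]
    intro e he b hb
    rw [commutatorElement_def]
    refine mul_mem ?_ (inv_mem (hcon b hb))
    exact conj_mem_normalizer (normalizer_le_normalizer_centralizer _ (hE.nat.normalizes he)) (hcon b hb)
  obtain ⟨e, he, w, hw, hne⟩ := hE.nat.moves
  refine hne ?_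
  rw [← Subgroup.mem_centralizer_iff.1 (hEC he) w hw, mul_inv_cancel_right, mul_inv_cancel]
  exact one_mem _

theorem eq_of_mutual_three (hG : Subgroup.centralizer (pCore p G : Set G) ≤ pCore p G) (hE : IsSubBlock p E)
    (hF : IsSubBlock p F) {z : G} (hz : KindThree p E z) (hzF : KindThree p F z)
    (hFE : F ≤ Subgroup.normalizer (E : Set G)) : E = F := by
  have hQeq : (Qc F) = Qc E := le_antisymm (qc_le hF hE hzF hz.mem) (qc_le hE hF hz hzF.mem)
  refine (Subgroup.eq_of_le_of_card_ge ?_ (by rw [hz.card, hzF.card, hQeq])).symm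
  refine le_of_coprime hF.res fun f hf hfc =>
    mem_of_mem_sup_coprime (CfsgLib.isPGroup_pCore p) hE.core_le_normalizer ?_ hfc
  have hQR : ∀ q ∈ Qc E, q ∈ pCore p G := fun q hq => hE.q_le_core hq
  rcases hzF.sq f hf with h | h | hff
  · exact Subgroup.mem_sup_right (hF.q_le_core h)
  · rw [show f = z⁻¹ * (z * f) by group]
    exact mul_mem (Subgroup.mem_sup_left (inv_mem hz.mem)) (Subgroup.mem_sup_right (hF.q_le_core h))
  rw [hQeq] at hff
  set N := Subgroup.normalizer (E : Set G) with hN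
  set π := QuotientGroup.mk' (pCore p G) with hπdef
  have hπ : ∀ g : G, π g = 1 ↔ g ∈ pCore p G := fun g => QuotientGroup.eq_one_iff g
  -- the action on `W / Z`
  have : ((Zc E).subgroupOf (Wc E)).Normal := ⟨fun x hx y => by
    rwa [show y * x = x * y from Subtype.ext (omegaOneCenter_comm p _ x.2 (omegaOneCenter_le p _ y.2)),
      mul_inv_cancel_right]⟩
  set α := sectAut (hE.normalizer_w (p := p)) hE.normalizer_z with hα
  have hWtriv : ∀ q ∈ Qc E, ∀ w ∈ Wc E, q * w * q⁻¹ * w⁻¹ ∈ Zc E := fun q hq w hw => by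
    rw [hE.q_normalizes_w hq hw, mul_inv_cancel]; exact one_mem _
  obtain ⟨e, he, hαef⟩ := agree_section hz hE.normalizer_w hE.normalizer_z hE.nat.le hz.cardW hWtriv
    hE.nat.faithful hz.invW (hFE hf) hff
  set x : ↥N := ⟨e, Subgroup.le_normalizer he⟩⁻¹ * ⟨f, hFE hf⟩ with hx
  have hαx : α x = 1 := by rw [hx, map_mul, map_inv, hαef, inv_mul_cancel]
  have hcent : ∀ g : ↥N, α g = 1 → ∀ a ∈ E, (g : G) * a * (g : G)⁻¹ * a⁻¹ ∈ Qc E := fun g hg a ha => by
    have hmem : (g : G) * a * (g : G)⁻¹ * a⁻¹ ∈ E := mul_mem (conj_mem_normalizer g.2 ha) (inv_mem ha)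
    refine hE.nat.faithful _ hmem ((sectAut_eq_one_iff (hU := hE.normalizer_w) (hU₀ := hE.normalizer_z) (⟨_, Subgroup.le_normalizer hmem⟩ : ↥N)).1 ?_)
    rw [show (⟨_, Subgroup.le_normalizer hmem⟩ : ↥N) = g * ⟨a, Subgroup.le_normalizer ha⟩ * g⁻¹ *
      (⟨a, Subgroup.le_normalizer ha⟩ : ↥N)⁻¹ from rfl]
    show α _ = 1
    rw [map_mul, map_mul, map_mul, hg, map_inv, map_inv, hg, inv_one, one_mul, mul_one, mul_inv_cancel]
  let K : Subgroup G :=
    { carrier := {g | g ∈ Subgroup.normalizer ((Qc E : Subgroup G) : Set G) ∧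
        ∀ r ∈ pCore p G, g * r * g⁻¹ * r⁻¹ ∈ Qc E}
      one_mem' := ⟨one_mem _, fun r _ => by simp⟩
      mul_mem' := fun {g g'} hg hg' => ⟨mul_mem hg.1 hg'.1, fun r hr => by
        rw [show g * g' * r * (g * g')⁻¹ * r⁻¹ =
          (g * (g' * r * g'⁻¹ * r⁻¹) * g⁻¹) * (g * r * g⁻¹ * r⁻¹) by group]
        exact mul_mem (conj_mem_normalizer hg.1 (hg'.2 r hr)) (hg.2 r hr)⟩
      inv_mem' := fun {g} hg => ⟨inv_mem hg.1, fun r hr => by
        rw [show g⁻¹ * r * g⁻¹⁻¹ * r⁻¹ = g⁻¹ * (g * r * g⁻¹ * r⁻¹)⁻¹ * g⁻¹⁻¹ by group]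
        exact conj_mem_normalizer (inv_mem hg.1) (inv_mem (hg.2 r hr))⟩ }
  have hxK : (x : G) ∈ K := by
    refine mul_mem (inv_mem ?_) ?_
    · exact ⟨hE.normalizes_q he, fun r hr => by
        rw [show e * r * e⁻¹ * r⁻¹ = (r * e * r⁻¹ * e⁻¹)⁻¹ by group]
        exact inv_mem (hE.conj_mem hr he)⟩
    · exact ⟨normalizer_le_normalizer_pCoreOf E (hFE hf), fun r hr => by
        rw [show f * r * f⁻¹ * r⁻¹ = (r * f * r⁻¹ * f⁻¹)⁻¹ by group, ← hQeq]
        exact inv_mem (hF.conj_mem hr hf)⟩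
  have kill : ∀ g : ↥N, (orderOf (g : G)).Coprime p → α g = 1 → TrivSect p E (g : G) → (g : G) ∈ K →
      (g : G) = 1 := by
    intro g hg hαg ht hK
    have hfix := fix_q hE hg g.2 (hcent g hαg) ht
    exact eq_one_of_centralizes hG hg fun r hr => mul_inv_eq_one.1
      (eq_one_of_core_translation (r := r) hg (hfix _ (hK.2 r hr)) (hQR _ (hK.2 r hr)) (by group))
  have hW1 : ∀ g : ↥N, α g = 1 → ∀ w ∈ Wc E, (g : G) * w * (g : G)⁻¹ * w⁻¹ ∈ Zc E := fun g hg =>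
    (sectAut_eq_one_iff g).1 hg
  obtain ⟨k, hk⟩ := exists_coprime_power (p := p) (x : G)
  have hdone : (∀ g : ↥N, g ∈ Subgroup.zpowers x → TrivSect p E (g : G)) → f ∈ E ⊔ pCore p G := by
    intro ht
    have hy : (x : G) ^ p ^ k = 1 := by
      rw [← SubmonoidClass.coe_pow]
      refine kill (x ^ p ^ k) (by rw [SubmonoidClass.coe_pow]; exact hk) (by rw [map_pow, hαx, one_pow])
        (ht _ (pow_mem (Subgroup.mem_zpowers x) _)) ?_
      rw [SubmonoidClass.coe_pow]; exact pow_mem hxK _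
    have hcπ : Commute (π e) (π f) := by
      have h1 : Commute (π e) (π (x : G)) := by
        have := (hπ _).2 (hQR _ (hcent x hαx e he))
        rw [map_mul, map_mul, map_mul, map_inv, map_inv, mul_inv_eq_one, mul_inv_eq_iff_eq_mul] at this
        exact this.symm
      rw [show f = e * (x : G) by rw [hx, Subgroup.coe_mul, Subgroup.coe_inv]; group, map_mul]
      exact (Commute.refl _).mul_right h1
    have hx4 : π (x : G) ^ 4 = 1 := by
      rw [hx, Subgroup.coe_mul, Subgroup.coe_inv, map_mul, map_inv, hcπ.inv_left.mul_pow, inv_pow,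
        hz.pow_four_mem hE he, hzF.pow_four_mem hF hf, inv_one, one_mul]
    have hxR : (x : G) ∈ pCore p G := (hπ _).1 (orderOf_eq_one_iff.1 (Nat.eq_one_of_dvd_coprimes
      (show (p ^ k).Coprime 4 by rw [hz.three]; exact Nat.Coprime.pow_left _ (by norm_num))
      (orderOf_dvd_of_pow_eq_one (by rw [← map_pow, hy, map_one])) (orderOf_dvd_of_pow_eq_one hx4)))
    rw [show f = e * (x : G) by rw [hx, Subgroup.coe_mul, Subgroup.coe_inv]; group]
    exact mul_mem (Subgroup.mem_sup_left he) (Subgroup.mem_sup_right hxR)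
  have hαpow : ∀ g : ↥N, g ∈ Subgroup.zpowers x → α g = 1 := fun g hg => by
    have : x ∈ α.ker := hαx
    exact (Subgroup.zpowers_le.2 this) hg
  rcases hz.shape with ⟨hQW, -⟩ | ⟨hX, hinvQ, hcQ, -, T, hT, hquad⟩
  · refine hdone fun g hg => ⟨hW1 g (hαpow g hg), fun hX => absurd (fun a ha b hb => ?_) hX.ne⟩
    rw [hQW] at hb
    exact omegaOneCenter_comm p _ hb ha
  -- the action on `Q / W`
  have : ((Wc E).subgroupOf (Qc E)).Normal := ⟨fun a ha b => by
    rwa [show b * a = a * b from Subtype.ext (omegaOneCenter_comm p _ ha b.2), mul_inv_cancel_right]⟩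
  set β := sectAut (normalizer_le_normalizer_pCoreOf (p := p) E) hE.normalizer_w with hβ
  have hQtriv : ∀ q ∈ Qc E, ∀ u ∈ Qc E, q * u * q⁻¹ * u⁻¹ ∈ Wc E := fun q hq u hu =>
    (hE.q_comm hX hq hu).1
  obtain ⟨e', he', hβef⟩ := agree_section hz (normalizer_le_normalizer_pCoreOf E) hE.normalizer_w
    (omegaOneCenter_le p _) hcQ hQtriv hX.nat.faithful hinvQ (hFE hf) hff
  set d : ↥N := ⟨e, Subgroup.le_normalizer he⟩⁻¹ * ⟨e', Subgroup.le_normalizer he'⟩ with hd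
  have hdE : (d : G) ∈ E := mul_mem (inv_mem he) he'
  have hβd : β d = β x := by rw [hd, hx, map_mul, map_mul, hβef]
  have hβq : ∀ g : ↥N, (g : G) ∈ Qc E → β g = 1 := fun g hg => (sectAut_eq_one_iff g).2 (hQtriv g hg)
  have hdc : ∀ a ∈ E, ⁅(d : G), a⁆ ∈ Qc E := fun a ha => by
    have hmem : ⁅(d : G), a⁆ ∈ E := mul_mem (mul_mem (mul_mem hdE ha) (inv_mem hdE)) (inv_mem ha)
    refine hX.nat.faithful _ hmem ((sectAut_eq_one_iff (hU := normalizer_le_normalizer_pCoreOf E) (hU₀ := hE.normalizer_w) (⟨_, Subgroup.le_normalizer hmem⟩ : ↥N)).1 ?_)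
    show β _ = 1
    rw [show (⟨_, Subgroup.le_normalizer hmem⟩ : ↥N) = ⁅d, (⟨a, Subgroup.le_normalizer ha⟩ : ↥N)⁆ from rfl,
      map_commutatorElement, hβd, ← map_commutatorElement]
    refine hβq _ ?_
    show (x : G) * a * (x : G)⁻¹ * a⁻¹ ∈ Qc E
    exact hcent x hαx a ha
  rcases hz.centre d hdE hdc with hdQ | hzd
  · refine hdone fun g hg => ⟨hW1 g (hαpow g hg), fun _ => (sectAut_eq_one_iff (hU := normalizer_le_normalizer_pCoreOf E) (hU₀ := hE.normalizer_w) g).1 ?_⟩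
    have : x ∈ β.ker := by rw [MonoidHom.mem_ker, ← hβd]; exact hβq d hdQ
    exact (Subgroup.zpowers_le.2 this) hg
  exfalso
  set zN : ↥N := ⟨z, Subgroup.le_normalizer hz.mem⟩ with hzN
  set ι := β zN with hι
  have hιv : ∀ v, ι v = v⁻¹ := (sectAut_inv_iff _).2 hinvQ
  have hι2 : ι * ι = 1 := MulEquiv.ext fun v => by rw [MulAut.mul_apply, hιv, hιv, inv_inv, MulAut.one_apply]
  have hβx : β x = ι := by
    rw [← hβd]
    have h1 := hβq (zN * d) hzd
    rw [map_mul, ← hι] at h1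
    rw [eq_inv_of_mul_eq_one_right h1, inv_eq_of_mul_eq_one_left hι2]
  set y := x ^ p ^ k with hy
  have hαy : α y = 1 := by rw [hy, map_pow, hαx, one_pow]
  have hβy : β y = ι := by
    obtain ⟨m, hm⟩ : Odd (p ^ k) := by rw [hz.three]; exact Odd.pow (by decide)
    rw [hy, map_pow, hβx, hm, pow_succ, pow_mul, pow_two, hι2, one_pow, one_mul]
  have hyK : (y : G) ∈ K := by rw [hy, SubmonoidClass.coe_pow]; exact pow_mem hxK _
  have hy2 : (y : G) * y = 1 := by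
    rw [← Subgroup.coe_mul]
    refine kill (y * y) ?_ (by rw [map_mul, hαy, one_mul]) ⟨hW1 _ (by rw [map_mul, hαy, one_mul]), fun _ =>
      (sectAut_eq_one_iff _).1 (by rw [map_mul, hβy, hι2])⟩ (by rw [Subgroup.coe_mul]; exact mul_mem hyK hyK)
    rw [Subgroup.coe_mul, ← pow_two, hy, SubmonoidClass.coe_pow]
    exact Nat.Coprime.coprime_dvd_left (orderOf_pow_dvd 2) hk
  obtain ⟨b, hbB, hbW⟩ := exists_moving hE hT
  have hbN : b ∈ N := le_normalizer_of_commutator_eq hT.2.1 hbB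
  set bN : ↥N := ⟨b, hbN⟩ with hbNdef
  set t := y⁻¹ * (bN * y * bN⁻¹) with ht
  have htR : (t : G) ∈ pCore p G := by
    have hαt : α t = 1 := by simp [ht, hαy]
    have hβt : β t = 1 := by
      rw [ht, map_mul, map_inv, map_mul, map_mul, map_inv, hβy, inv_mul_eq_one]
      ext v
      rw [MulAut.mul_apply, MulAut.mul_apply, hιv, hιv, map_inv, MulAut.apply_inv_self]
    obtain ⟨k', hk'⟩ := exists_coprime_power (p := p) (t : G)
    have htK : (t : G) ∈ K := by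
      refine mul_mem (inv_mem hyK) ⟨mul_mem (mul_mem (normalizer_le_normalizer_pCoreOf E hbN) hyK.1)
        (inv_mem (normalizer_le_normalizer_pCoreOf E hbN)), fun r hr => ?_⟩
      have h1 := conj_mem_normalizer (normalizer_le_normalizer_pCoreOf E hbN)
        (hyK.2 (b⁻¹ * r * b) (by simpa using (inferInstance : (pCore p G).Normal).conj_mem _ hr b⁻¹))
      show b * (y : G) * b⁻¹ * r * (b * (y : G) * b⁻¹)⁻¹ * r⁻¹ ∈ Qc E
      rw [show b * (y : G) * b⁻¹ * r * (b * (y : G) * b⁻¹)⁻¹ * r⁻¹ =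
        b * ((y : G) * (b⁻¹ * r * b) * (y : G)⁻¹ * (b⁻¹ * r * b)⁻¹) * b⁻¹ by group]
      exact h1
    have h3 : (t : G) ^ p ^ k' = 1 := by
      rw [← SubmonoidClass.coe_pow]
      exact kill (t ^ p ^ k') (by rw [SubmonoidClass.coe_pow]; exact hk') (by rw [map_pow, hαt, one_pow])
        ⟨hW1 _ (by rw [map_pow, hαt, one_pow]), fun _ =>
          (sectAut_eq_one_iff _).1 (by rw [map_pow, hβt, one_pow])⟩
        (by rw [SubmonoidClass.coe_pow]; exact pow_mem htK _)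
    have hxc : π (x : G) ∈ pCore 2 (G ⧸ pCore p G) := by
      rw [hx, Subgroup.coe_mul, Subgroup.coe_inv, map_mul, map_inv]
      exact mul_mem (inv_mem (hz.map_le_core hE ⟨e, he, rfl⟩)) (hzF.map_le_core hF ⟨f, hf, rfl⟩)
    have hyc : π (y : G) ∈ pCore 2 (G ⧸ pCore p G) := by
      rw [hy, SubmonoidClass.coe_pow, map_pow]; exact pow_mem hxc _
    have htc : π (t : G) ∈ pCore 2 (G ⧸ pCore p G) := by
      show π ((y : G)⁻¹ * (b * y * b⁻¹)) ∈ _
      rw [map_mul, map_mul, map_mul, map_inv, map_inv]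
      exact mul_mem (inv_mem hyc) ((inferInstance : (pCore 2 (G ⧸ pCore p G)).Normal).conj_mem _ hyc (π b))
    obtain ⟨i, hi⟩ := CfsgLib.isPGroup_pCore 2 ⟨_, htc⟩
    exact (hπ _).1 (orderOf_eq_one_iff.1 (Nat.eq_one_of_dvd_coprimes
      (show (p ^ k').Coprime (2 ^ i) by rw [hz.three]; exact Nat.Coprime.pow _ _ (by norm_num))
      (orderOf_dvd_of_pow_eq_one (by rw [← map_pow, h3, map_one]))
      (orderOf_dvd_of_pow_eq_one (congrArg Subtype.val hi))))
  set Q := Qc E with hQ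
  set W := Wc E with hW
  set Z := Zc E with hZdef
  have hZc : ∀ s ∈ Z, ∀ q ∈ Q, q * s = s * q := fun s hs q hq => omegaOneCenter_comm p _ hs.1 hq
  have hyQ : ∀ q ∈ Q, (y : G) * q * (y : G)⁻¹ ∈ Q := fun q hq =>
    conj_mem_normalizer (normalizer_le_normalizer_pCoreOf E y.2) hq
  let A : Subgroup G :=
    { carrier := {q | q ∈ Q ∧ (y : G) * q * (y : G)⁻¹ * q ∈ Z}
      one_mem' := ⟨one_mem _, by simp⟩
      mul_mem' := fun {a c} ha hc => ⟨mul_mem ha.1 hc.1, by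
        have h1 := hE.q_comm hX (hyQ c hc.1) ha.1
        rw [show (y : G) * (a * c) * (y : G)⁻¹ * (a * c) = (y : G) * a * (y : G)⁻¹ *
          ⁅(y : G) * c * (y : G)⁻¹, a⁆ * (a * ((y : G) * c * (y : G)⁻¹) * c) by
            rw [commutatorElement_def]; group, hZc _ h1 _ (hyQ a ha.1),
          show ⁅(y : G) * c * (y : G)⁻¹, a⁆ * ((y : G) * a * (y : G)⁻¹) * (a * ((y : G) * c * (y : G)⁻¹) * c) =
            ⁅(y : G) * c * (y : G)⁻¹, a⁆ * (((y : G) * a * (y : G)⁻¹ * a) * ((y : G) * c * (y : G)⁻¹ * c)) by group]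
        exact mul_mem h1 (mul_mem ha.2 hc.2)⟩
      inv_mem' := fun {a} ha => ⟨inv_mem ha.1, by
        have h1 := hE.q_comm hX ha.1 (hyQ a ha.1)
        rw [show (y : G) * a⁻¹ * (y : G)⁻¹ * a⁻¹ =
          (⁅a, (y : G) * a * (y : G)⁻¹⁆ * ((y : G) * a * (y : G)⁻¹ * a))⁻¹ by rw [commutatorElement_def]; group]
        exact inv_mem (mul_mem h1 ha.2)⟩ }
  have hAW : ∀ q ∈ A, q ∈ W → q ∈ Z := fun q hq hqW => by
    refine mem_of_sq_mem hz.three hq.1 ?_
    rw [show q * q = ((y : G) * q * (y : G)⁻¹ * q⁻¹)⁻¹ * ((y : G) * q * (y : G)⁻¹ * q) by group]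
    exact mul_mem (inv_mem (hW1 y hαy q hqW)) hq.2
  have hQAW : Q ≤ A ⊔ W := fun q hq => by
    refine mem_of_sq_mem hz.three hq ?_
    rw [show q * q = (q * ((y : G) * q * (y : G)⁻¹)⁻¹) * ((y : G) * q * (y : G)⁻¹ * q) by group]
    refine mul_mem (Subgroup.mem_sup_left ⟨mul_mem hq (inv_mem (hyQ q hq)), ?_⟩) (Subgroup.mem_sup_right ?_)
    · rw [show (y : G) * (q * ((y : G) * q * (y : G)⁻¹)⁻¹) * (y : G)⁻¹ * (q * ((y : G) * q * (y : G)⁻¹)⁻¹) =
        (y : G) * q * (y : G)⁻¹ * (((y : G) * y) * q * ((y : G) * y)⁻¹)⁻¹ * (q * ((y : G) * q * (y : G)⁻¹)⁻¹) by group,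
        hy2]
      rw [show (y : G) * q * (y : G)⁻¹ * (1 * q * 1⁻¹)⁻¹ * (q * ((y : G) * q * (y : G)⁻¹)⁻¹) = 1 by group]
      exact one_mem _
    · exact (sectAut_inv_iff y).1 (fun v => by rw [← hβ, hβy]; exact hιv v) q hq
  have hcore : ∀ q ∈ Q, ∀ r ∈ pCore p G, r * q * r⁻¹ * q⁻¹ ∈ Z := by
    let Trv : Subgroup G :=
      { carrier := {q | q ∈ Q ∧ ∀ r ∈ pCore p G, r * q * r⁻¹ * q⁻¹ ∈ Z}
        one_mem' := ⟨one_mem _, fun r _ => by simp⟩
        mul_mem' := fun {a c} ha hc => ⟨mul_mem ha.1 hc.1, fun r hr => by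
          rw [show r * (a * c) * r⁻¹ * (a * c)⁻¹ =
            (r * a * r⁻¹ * a⁻¹) * (a * (r * c * r⁻¹ * c⁻¹) * a⁻¹) by group,
            hE.q_normalizes_w ha.1 (hc.2 r hr).1]
          exact mul_mem (ha.2 r hr) (hc.2 r hr)⟩
        inv_mem' := fun {a} ha => ⟨inv_mem ha.1, fun r hr => by
          rw [show r * a⁻¹ * r⁻¹ * a⁻¹⁻¹ = a⁻¹ * (r * a * r⁻¹ * a⁻¹)⁻¹ * a⁻¹⁻¹ by group,
            hE.q_normalizes_w (inv_mem ha.1) (inv_mem (ha.2 r hr).1)]
          exact inv_mem (ha.2 r hr)⟩ }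
    have hle : A ⊔ W ≤ Trv := by
      refine sup_le (fun a ha => ⟨ha.1, fun r hr => ?_⟩)
        (fun w hw => ⟨omegaOneCenter_le p _ hw, fun r hr => hE.core_section hr hw⟩)
      have hrN : r ∈ N := hE.core_le_normalizer hr
      have hra : r * a * r⁻¹ ∈ A := by
        refine ⟨conj_mem_normalizer (normalizer_le_normalizer_pCoreOf E hrN) ha.1, ?_⟩
        set q0 := (y : G) * r * (y : G)⁻¹ * r⁻¹ with hq0
        have hq0Q : q0 ∈ Q := hyK.2 r hr
        set v := r * ((y : G) * a * (y : G)⁻¹) * r⁻¹ with hv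
        have hvQ : v ∈ Q := conj_mem_normalizer (normalizer_le_normalizer_pCoreOf E hrN) (hyQ a ha.1)
        rw [show (y : G) * (r * a * r⁻¹) * (y : G)⁻¹ * (r * a * r⁻¹) =
          ⁅q0, v⁆ * (r * ((y : G) * a * (y : G)⁻¹ * a) * r⁻¹) by
            rw [hv, hq0, commutatorElement_def]; group]
        exact mul_mem (hE.q_comm hX hq0Q hvQ) (conj_mem_normalizer (hE.normalizer_z hrN) ha.2)
      exact hAW _ (mul_mem hra (inv_mem ha)) (hE.core_sectionQ hX hr ha.1)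
    exact fun q hq r hr => (hle (hQAW hq)).2 r hr
  have hbQ : b ∈ Subgroup.normalizer (Q : Set G) := normalizer_le_normalizer_pCoreOf E hbN
  have hbA : ∀ a ∈ A, b * a * b⁻¹ ∈ A := fun a ha => by
    refine ⟨conj_mem_normalizer hbQ ha.1, ?_⟩
    set q := b * a * b⁻¹ with hq
    have hz0 := hcore q (conj_mem_normalizer hbQ ha.1) _ (inv_mem htR)
    have hyt : (y : G) = b * y * b⁻¹ * (t : G)⁻¹ := by
      show (y : G) = b * (y : G) * b⁻¹ * ((y : G)⁻¹ * (b * (y : G) * b⁻¹))⁻¹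
      group
    have hy'N : b * (y : G) * b⁻¹ ∈ N := mul_mem (mul_mem hbN y.2) (inv_mem hbN)
    rw [show (y : G) * q * (y : G)⁻¹ * q = (b * (y : G) * b⁻¹) * ((t : G)⁻¹ * q * (t : G)⁻¹⁻¹ * q⁻¹) *
      (b * (y : G) * b⁻¹)⁻¹ * (b * ((y : G) * a * (y : G)⁻¹ * a) * b⁻¹) by
        conv_lhs => rw [hyt]
        rw [hq]; group]
    exact mul_mem (conj_mem_normalizer (hE.normalizer_z hy'N) hz0) (conj_mem_normalizer (hE.normalizer_z hbN) ha.2)
  obtain ⟨kb, hkb⟩ := T.isPGroup' ⟨b, hbB.1⟩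
  have hbk : bN ^ 3 ^ kb = 1 := Subtype.ext (by
    rw [SubmonoidClass.coe_pow, ← hz.three]; exact congrArg Subtype.val hkb)
  -- `[q, b, b]`
  have hDW : ∀ w ∈ W, b * (b * w * b⁻¹ * w⁻¹) * b⁻¹ * (b * w * b⁻¹ * w⁻¹)⁻¹ ∈ Z := fun w hw => by
    have h := quadratic_nine (card_quotient_subgroupOf hE.nat.le hz.cardW)
      (β := α bN) (k := kb) (by rw [← map_pow, hbk, map_one]) ((⟨w, hw⟩ : ↥W) : ↥W ⧸ Z.subgroupOf W)
    rw [hα, sectAut_mk, ← QuotientGroup.mk_inv, ← QuotientGroup.mk_mul, sectAut_mk, ← QuotientGroup.mk_inv,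
      ← QuotientGroup.mk_mul] at h
    exact Subgroup.mem_subgroupOf.1 ((QuotientGroup.eq_one_iff _).1 h)
  have hDA : ∀ a ∈ A, b * (b * a * b⁻¹ * a⁻¹) * b⁻¹ * (b * a * b⁻¹ * a⁻¹)⁻¹ ∈ Z := fun a ha => by
    have h := quadratic_nine (card_quotient_subgroupOf (omegaOneCenter_le p _) hcQ)
      (β := β bN) (k := kb) (by rw [← map_pow, hbk, map_one]) ((⟨a, ha.1⟩ : ↥Q) : ↥Q ⧸ W.subgroupOf Q)
    rw [hβ, sectAut_mk, ← QuotientGroup.mk_inv, ← QuotientGroup.mk_mul, sectAut_mk, ← QuotientGroup.mk_inv,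
      ← QuotientGroup.mk_mul] at h
    have h1 := mul_mem (hbA a ha) (inv_mem ha)
    exact hAW _ (mul_mem (hbA _ h1) (inv_mem h1)) (Subgroup.mem_subgroupOf.1 ((QuotientGroup.eq_one_iff _).1 h))
  let M : Subgroup G :=
    { carrier := {q | q ∈ Q ∧ b * q * b⁻¹ * q⁻¹ ∈ Z}
      one_mem' := ⟨one_mem _, by simp⟩
      mul_mem' := fun {a c} ha hc => ⟨mul_mem ha.1 hc.1, by
        rw [show b * (a * c) * b⁻¹ * (a * c)⁻¹ =
          (b * a * b⁻¹ * a⁻¹) * (a * (b * c * b⁻¹ * c⁻¹) * a⁻¹) by group, hE.q_normalizes_w ha.1 hc.2.1]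
        exact mul_mem ha.2 hc.2⟩
      inv_mem' := fun {a} ha => ⟨inv_mem ha.1, by
        rw [show b * a⁻¹ * b⁻¹ * a⁻¹⁻¹ = a⁻¹ * (b * a * b⁻¹ * a⁻¹)⁻¹ * a⁻¹⁻¹ by group,
          hE.q_normalizes_w (inv_mem ha.1) (inv_mem ha.2.1)]
        exact inv_mem ha.2⟩ }
  have hbM : b ∈ Subgroup.normalizer (M : Set G) := mem_normalizer_of_map_le fun q hq =>
    ⟨conj_mem_normalizer hbQ hq.1, by
      rw [show b * (b * q * b⁻¹) * b⁻¹ * (b * q * b⁻¹)⁻¹ = b * (b * q * b⁻¹ * q⁻¹) * b⁻¹ by group]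
      exact conj_mem_normalizer (hE.normalizer_z hbN) hq.2⟩
  refine hquad b hbB hbW ((Subgroup.commutator_mono (zpowers_commutator_le hbQ hbM fun q hq => ?_) le_rfl).trans
    (zpowers_commutator_le hbM (hE.normalizer_z hbN) fun q hq => hq.2))
  let M' : Subgroup G :=
    { carrier := {q | q ∈ Q ∧ b * q * b⁻¹ * q⁻¹ ∈ M}
      one_mem' := ⟨one_mem _, by simp⟩
      mul_mem' := fun {a c} ha hc => ⟨mul_mem ha.1 hc.1, by
        have hcm : ⁅a, b * c * b⁻¹ * c⁻¹⁆ ∈ Z := hE.q_comm hX ha.1 hc.2.1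
        have hZM : ∀ s ∈ Z, s ∈ M := fun s hs => ⟨omegaOneCenter_le p _ hs.1,
          mul_mem (conj_mem_normalizer (hE.normalizer_z hbN) hs) (inv_mem hs)⟩
        rw [show b * (a * c) * b⁻¹ * (a * c)⁻¹ =
          (b * a * b⁻¹ * a⁻¹) * (⁅a, b * c * b⁻¹ * c⁻¹⁆ * (b * c * b⁻¹ * c⁻¹)) by
            rw [commutatorElement_def]; group]
        exact mul_mem ha.2 (mul_mem (hZM _ hcm) hc.2)⟩
      inv_mem' := fun {a} ha => ⟨inv_mem ha.1, by
        have hcm : ⁅a⁻¹, (b * a * b⁻¹ * a⁻¹)⁻¹⁆ ∈ Z := hE.q_comm hX (inv_mem ha.1) (inv_mem ha.2.1)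
        have hZM : ∀ s ∈ Z, s ∈ M := fun s hs => ⟨omegaOneCenter_le p _ hs.1,
          mul_mem (conj_mem_normalizer (hE.normalizer_z hbN) hs) (inv_mem hs)⟩
        rw [show b * a⁻¹ * b⁻¹ * a⁻¹⁻¹ =
          ⁅a⁻¹, (b * a * b⁻¹ * a⁻¹)⁻¹⁆ * (b * a * b⁻¹ * a⁻¹)⁻¹ by rw [commutatorElement_def]; group]
        exact mul_mem (hZM _ hcm) (inv_mem ha.2)⟩ }
  have hle : A ⊔ W ≤ M' := sup_le
    (fun a ha => ⟨ha.1, mul_mem (conj_mem_normalizer hbQ ha.1) (inv_mem ha.1), hDA a ha⟩)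
    (fun w hw => ⟨omegaOneCenter_le p _ hw,
      mul_mem (conj_mem_normalizer hbQ (omegaOneCenter_le p _ hw)) (inv_mem (omegaOneCenter_le p _ hw)), hDW w hw⟩)
  exact (hle (hQAW hq)).2

theorem mutual_three (hG : Subgroup.centralizer (pCore p G : Set G) ≤ pCore p G) (hE : IsSubBlock p E)
    (hF : IsSubBlock p F) {zE zF : G} (hE3 : KindThree p E zE) (hF3 : KindThree p F zF)
    (hFE : F ≤ Subgroup.normalizer (E : Set G)) (hEF : E ≤ Subgroup.normalizer (F : Set G)) :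
    E = F ∨ ∀ e ∈ E, ∀ f ∈ F, ⁅e, f⁆ ∈ pCore p G := by
  by_contra hcon
  simp only [not_or, not_forall] at hcon
  obtain ⟨hne, e, he, f, hf, hc⟩ := hcon
  set c := ⁅e, f⁆ with hcdef
  have hcE : c ∈ E := by
    rw [hcdef, show ⁅e, f⁆ = e * (f * e⁻¹ * f⁻¹) by rw [commutatorElement_def]; group]
    exact mul_mem he (conj_mem_normalizer (hFE hf) (inv_mem he))
  have hcF : c ∈ F := by
    rw [hcdef, commutatorElement_def]
    exact mul_mem (conj_mem_normalizer (hEF he) hf) (inv_mem hf)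
  have hzFR : zE ∈ F ⊔ pCore p G := by
    rcases hE3.sq c hcE with h | h | h
    · exact absurd (hE.q_le_core h) hc
    · rw [show zE = (zE * c) * c⁻¹ by group]
      exact mul_mem (Subgroup.mem_sup_right (hE.q_le_core h)) (Subgroup.mem_sup_left (inv_mem hcF))
    · rw [show zE = (zE * (c * c)) * (c * c)⁻¹ by group]
      exact mul_mem (Subgroup.mem_sup_right (hE.q_le_core h)) (Subgroup.mem_sup_left (inv_mem (mul_mem hcF hcF)))
  have hzF : zE ∈ F :=
    mem_of_mem_sup_coprime (CfsgLib.isPGroup_pCore p) hF.core_le_normalizer hzFR hE3.orderOf_coprime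
  have hzz : zF * zE ∈ Qc F := by
    rcases hF3.sq zE hzF with h | h | h
    · exact absurd (hE.mem_q hE3.mem (hF.q_le_core h)) hE3.not_mem
    · exact h
    · rw [hE3.sq_one, mul_one] at h; exact absurd h hF3.not_mem
  exact hne (eq_of_mutual_three hG hE hF hE3 (hF3.replace hF hzF hzz hE3.sq_one) hFE)

end CfsgLib.BBlock
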