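import Cfsg.Agent.Lib.Baumann.BlockBasic
import Mathlib.LinearAlgebra.Matrix.SpecialLinearGroup
import Mathlib.GroupTheory.SpecificGroups.Alternating

/-!
The natural module and the even-weight module of a Baumann block: irreducibility and faithfulness.
-/

set_option autoImplicit false
set_option linter.unusedSectionVars false

namespace CfsgLib.BBlock

open Cfsg
open scoped commutatorElement

section SL
variable {F : Type*} [Field F]

/-- Upper unitriangular matrices. -/
def upp (c : F) : Matrix.SpecialLinearGroup (Fin 2) F := ⟨!![1, c; 0, 1], by simp [Matrix.det_fin_two]⟩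

/-- Lower unitriangular matrices. -/
def low (c : F) : Matrix.SpecialLinearGroup (Fin 2) F := ⟨!![1, 0; c, 1], by simp [Matrix.det_fin_two]⟩

theorem mem_commutator_sl (x y : Matrix.SpecialLinearGroup (Fin 2) F) :
    ⁅x, y⁆ ∈ commutator (Matrix.SpecialLinearGroup (Fin 2) F) :=
  Subgroup.commutator_mem_commutator (Subgroup.mem_top x) (Subgroup.mem_top y)

/-- A diagonal matrix of determinant one. -/
def dia (t : F) (ht : t ≠ 0) : Matrix.SpecialLinearGroup (Fin 2) F :=
  ⟨!![t, 0; 0, t⁻¹], by simp [Matrix.det_fin_two, ht]⟩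

theorem comm_dia_upp (t : F) (ht : t ≠ 0) (a : F) : ⁅dia t ht, upp a⁆ = upp ((t ^ 2 - 1) * a) := by
  rw [commutatorElement_def]
  apply Subtype.ext
  simp only [Matrix.SpecialLinearGroup.coe_mul, Matrix.SpecialLinearGroup.coe_inv]
  ext i j
  fin_cases i <;> fin_cases j <;>
    simp [dia, upp, Matrix.adjugate_fin_two, Matrix.mul_apply, Fin.sum_univ_two, ht] <;>
    ring

theorem comm_dia_low (t : F) (ht : t ≠ 0) (a : F) : ⁅dia t ht, low a⁆ = low ((t⁻¹ ^ 2 - 1) * a) := by
  rw [commutatorElement_def]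
  apply Subtype.ext
  simp only [Matrix.SpecialLinearGroup.coe_mul, Matrix.SpecialLinearGroup.coe_inv]
  ext i j
  fin_cases i <;> fin_cases j <;>
    simp [dia, low, Matrix.adjugate_fin_two, Matrix.mul_apply, Fin.sum_univ_two, ht] <;>
    ring

theorem upp_mem {t : F} (ht : t ≠ 0) (ht2 : t ^ 2 ≠ 1) (c : F) :
    upp c ∈ commutator (Matrix.SpecialLinearGroup (Fin 2) F) := by
  have h : upp c = ⁅dia t ht, upp ((t ^ 2 - 1)⁻¹ * c)⁆ := by
    rw [comm_dia_upp, ← mul_assoc, mul_inv_cancel₀ (sub_ne_zero.2 ht2), one_mul]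
  rw [h]; exact mem_commutator_sl _ _

theorem low_mem {t : F} (ht : t ≠ 0) (ht2 : t ^ 2 ≠ 1) (c : F) :
    low c ∈ commutator (Matrix.SpecialLinearGroup (Fin 2) F) := by
  have h2 : t⁻¹ ^ 2 ≠ 1 := by rwa [inv_pow, ne_eq, inv_eq_one]
  have h : low c = ⁅dia t ht, low ((t⁻¹ ^ 2 - 1)⁻¹ * c)⁆ := by
    rw [comm_dia_low, ← mul_assoc, mul_inv_cancel₀ (sub_ne_zero.2 h2), one_mul]
  rw [h]; exact mem_commutator_sl _ _

theorem comm_upp_low_mulVec (v : Fin 2 → F) :
    ((⁅upp (1 : F), low 1⁆ : Matrix.SpecialLinearGroup (Fin 2) F) : Matrix (Fin 2) (Fin 2) F).mulVec v =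
      ![3 * v 0 - v 1, v 0] := by
  rw [commutatorElement_def]
  simp only [Matrix.SpecialLinearGroup.coe_mul, Matrix.SpecialLinearGroup.coe_inv]
  ext i
  fin_cases i <;>
    simp [upp, low, Matrix.adjugate_fin_two, Matrix.mul_apply, Matrix.mulVec,
      dotProduct, Fin.sum_univ_two] <;> ring

/-- `SL₂(F)'` moves some vector, and is irreducible on `F²` as an additive group. -/
theorem sl2_irred (U : AddSubgroup (Fin 2 → F))
    (hinv : ∀ M ∈ commutator (Matrix.SpecialLinearGroup (Fin 2) F), ∀ v ∈ U,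
      (M : Matrix (Fin 2) (Fin 2) F).mulVec v ∈ U) :
    (∀ v ∈ U, v = 0) ∨ ∀ v, v ∈ U := by
  classical
  rcases Classical.em (∀ v ∈ U, v = 0) with h | h
  · exact Or.inl h
  push_neg at h
  obtain ⟨v, hv, hv0⟩ := h
  refine Or.inr ?_
  by_cases ht : ∃ t : F, t ≠ 0 ∧ t ^ 2 ≠ 1
  · obtain ⟨t, ht0, ht2⟩ := ht
    have hU : ∀ w ∈ U, ∀ c : F, ![c * w 1, 0] ∈ U ∧ ![0, c * w 0] ∈ U := by
      intro w hw c
      constructor
      · have := U.sub_mem (hinv _ (upp_mem ht0 ht2 c) w hw) hw
        convert this using 1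
        ext i; fin_cases i <;> simp [upp, Matrix.mulVec, dotProduct, Fin.sum_univ_two]
      · have := U.sub_mem (hinv _ (low_mem ht0 ht2 c) w hw) hw
        convert this using 1
        ext i; fin_cases i <;> simp [low, Matrix.mulVec, dotProduct, Fin.sum_univ_two]
    have hboth : (∀ c : F, ![c, 0] ∈ U) ∧ ∀ c : F, ![0, c] ∈ U := by
      rcases eq_or_ne (v 1) 0 with h1 | h1
      · have h0 : v 0 ≠ 0 := fun h0 => hv0 (by ext i; fin_cases i <;> simp [h0, h1])
        have hy : ∀ c : F, ![0, c] ∈ U := fun c => by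
          simpa [mul_assoc, inv_mul_cancel₀ h0] using (hU v hv (c * (v 0)⁻¹)).2
        refine ⟨fun c => ?_, hy⟩
        simpa using (hU _ (hy 1) c).1
      · have hx : ∀ c : F, ![c, 0] ∈ U := fun c => by
          simpa [mul_assoc, inv_mul_cancel₀ h1] using (hU v hv (c * (v 1)⁻¹)).1
        refine ⟨hx, fun c => ?_⟩
        simpa using (hU _ (hx 1) c).2
    intro w
    have := U.add_mem (hboth.1 (w 0)) (hboth.2 (w 1))
    convert this using 1
    ext i; fin_cases i <;> simp
  · push_neg at ht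
    have hval : ∀ x : F, x = 0 ∨ x = 1 ∨ x = -1 := by
      intro x
      rcases eq_or_ne x 0 with h | h
      · exact Or.inl h
      · exact Or.inr (sq_eq_one_iff.1 (ht x h))
    have hsmul : ∀ a : F, ∀ w ∈ U, a • w ∈ U := by
      intro a w hw
      rcases hval a with rfl | rfl | rfl
      · simpa using U.zero_mem
      · simpa using hw
      · simpa using U.neg_mem hw
    have hkv : ![3 * v 0 - v 1, v 0] ∈ U := by
      rw [← comm_upp_low_mulVec]; exact hinv _ (mem_commutator_sl _ _) v hv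
    have hD : v 0 * v 0 - v 1 * (3 * v 0 - v 1) ≠ 0 := by
      intro hD
      have h5 : (2 : F) = 0 ∨ (3 : F) = 0 := by
        rcases hval 2 with h | h | h
        · exact Or.inl h
        · exact absurd (by linear_combination h : (1 : F) = 0) one_ne_zero
        · exact Or.inr (by linear_combination h)
      rcases hval (v 0) with a | a | a <;> rcases hval (v 1) with b | b | b <;> rw [a, b] at hD
      all_goals first
        | (refine hv0 (funext fun i => ?_); fin_cases i <;> simp [a, b] <;> done)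
        | (refine one_ne_zero (α := F) ?_; linear_combination hD; done)
        | (refine one_ne_zero (α := F) ?_; linear_combination (-1 : F) * hD; done)
        | (refine one_ne_zero (α := F) ?_
           rcases h5 with h5 | h5
           · linear_combination hD - 2 * h5
           · linear_combination -hD + 2 * h5)
    intro w
    set D := v 0 * v 0 - v 1 * (3 * v 0 - v 1) with hDd
    have key := U.add_mem (hsmul ((w 0 * v 0 - w 1 * (3 * v 0 - v 1)) / D) v hv)
      (hsmul ((v 0 * w 1 - v 1 * w 0) / D) _ hkv)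
    convert key using 1
    ext i
    fin_cases i
    · simp only [Fin.zero_eta, Pi.add_apply, Pi.smul_apply, smul_eq_mul, Matrix.cons_val_zero]
      rw [div_mul_eq_mul_div, div_mul_eq_mul_div, ← add_div, eq_div_iff hD, hDd]; ring
    · simp only [Fin.mk_one, Pi.add_apply, Pi.smul_apply, smul_eq_mul, Matrix.cons_val_one, Matrix.cons_val_zero]
      rw [div_mul_eq_mul_div, div_mul_eq_mul_div, ← add_div, eq_div_iff hD, hDd]; ring

theorem sl2_moves : ∃ M ∈ commutator (Matrix.SpecialLinearGroup (Fin 2) F),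
    (M : Matrix (Fin 2) (Fin 2) F).mulVec ![0, 1] ≠ ![0, 1] := by
  refine ⟨_, mem_commutator_sl (upp (1 : F)) (low 1), fun h => ?_⟩
  rw [comm_upp_low_mulVec] at h
  have := congrFun h 1
  simp at this

theorem sl2_faithful {M : Matrix.SpecialLinearGroup (Fin 2) F}
    (h : ∀ v, (M : Matrix (Fin 2) (Fin 2) F).mulVec v = v) : M = 1 := by
  apply Subtype.ext
  apply Matrix.ext_of_mulVec_single
  intro i
  rw [h]
  ext j
  simp [Matrix.mulVec, dotProduct, Matrix.one_apply, Pi.single_apply, eq_comm]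

end SL

section Alt

theorem zmod2_cases (x : ZMod 2) : x = 0 ∨ x = 1 := by revert x; decide

theorem exists_third {n : ℕ} (hn : 3 ≤ n) (i j : Fin n) : ∃ k, k ≠ i ∧ k ≠ j := by
  by_contra hc
  push_neg at hc
  have : Finset.univ ⊆ ({i, j} : Finset (Fin n)) := fun k _ => by
    rcases eq_or_ne k i with h | h
    · simp [h]
    · simp [hc k h]
  have := (Finset.card_le_card this).trans Finset.card_le_two
  simp at this
  omega

theorem swap_mul_swap_mem {n : ℕ} {a b c d : Fin n} (hab : a ≠ b) (hcd : c ≠ d) :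
    Equiv.swap a b * Equiv.swap c d ∈ alternatingGroup (Fin n) := by
  rw [Equiv.Perm.mem_alternatingGroup, map_mul, Equiv.Perm.sign_swap hab, Equiv.Perm.sign_swap hcd]
  decide

/-- `A_n` is irreducible on the even-weight module for odd `n`. -/
theorem alt_irred {n : ℕ} (hn : Odd n) (U : AddSubgroup (Fin n → ZMod 2))
    (hU : ∀ v ∈ U, ∑ i, v i = 0)
    (hinv : ∀ σ ∈ alternatingGroup (Fin n), ∀ v ∈ U, (fun i => v (σ⁻¹ i)) ∈ U) :
    (∀ v ∈ U, v = 0) ∨ ∀ v : Fin n → ZMod 2, ∑ i, v i = 0 → v ∈ U := by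
  classical
  rcases Classical.em (∀ v ∈ U, v = 0) with h | h
  · exact Or.inl h
  push_neg at h
  obtain ⟨v, hv, hv0⟩ := h
  refine Or.inr ?_
  obtain ⟨i, hi⟩ : ∃ i, v i = 1 := by
    by_contra hc
    push_neg at hc
    exact hv0 (funext fun i => (zmod2_cases (v i)).resolve_right (hc i))
  obtain ⟨j, hj⟩ : ∃ j, v j = 0 := by
    by_contra hc
    push_neg at hc
    have h1 : ∀ i, v i = 1 := fun i => (zmod2_cases (v i)).resolve_left (hc i)
    have := hU v hv
    simp only [h1, Finset.sum_const, Finset.card_univ, Fintype.card_fin, nsmul_eq_mul, mul_one] at this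
    rw [ZMod.natCast_eq_zero_iff_even] at this
    exact Nat.not_even_iff_odd.2 hn this
  have hij : i ≠ j := fun e => by rw [e, hj] at hi; exact zero_ne_one hi
  have hn3 : 3 ≤ n := by
    obtain ⟨r, hr⟩ := hn
    rcases Nat.eq_zero_or_pos r with rfl | hr'
    · exact absurd (Fin.ext (by have := i.isLt; have := j.isLt; omega)) hij
    · omega
  obtain ⟨k, hki, hkj⟩ := exists_third hn3 i j
  let e : Fin n → Fin n → ZMod 2 := fun a => Pi.single a 1
  obtain ⟨a, b, hab, habU⟩ : ∃ a b, a ≠ b ∧ e a + e b ∈ U := by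
    set τ := Equiv.swap i j * Equiv.swap j k with hτ
    have hw := U.add_mem hv (hinv τ⁻¹ (inv_mem (swap_mul_swap_mem hij hkj.symm)) v hv)
    rw [inv_inv] at hw
    have hτi : τ i = j := by
      simp [hτ, Equiv.Perm.mul_apply, Equiv.swap_apply_of_ne_of_ne hij hki.symm]
    have hτj : τ j = k := by
      simp [hτ, Equiv.Perm.mul_apply, Equiv.swap_apply_of_ne_of_ne hki hkj]
    have hτk : τ k = i := by
      simp [hτ, Equiv.Perm.mul_apply]
    have hτo : ∀ x, x ≠ i → x ≠ j → x ≠ k → τ x = x := fun x h1 h2 h3 => by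
      simp [hτ, Equiv.Perm.mul_apply, Equiv.swap_apply_of_ne_of_ne h2 h3, Equiv.swap_apply_of_ne_of_ne h1 h2]
    rcases zmod2_cases (v k) with hk | hk
    · refine ⟨i, k, hki.symm, ?_⟩
      convert hw using 1
      funext x
      simp only [Pi.add_apply]
      rcases eq_or_ne x i with rfl | h1
      · simp [e, hτi, hi, hj, hki.symm]
      rcases eq_or_ne x j with rfl | h2
      · simp [e, hτj, hj, hk, h1, hkj.symm]
      rcases eq_or_ne x k with rfl | h3
      · simp [e, hτk, hi, hk, h1]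
      · simp [e, hτo x h1 h2 h3, h1, h3, CharTwo.add_self_eq_zero]
    · refine ⟨i, j, hij, ?_⟩
      convert hw using 1
      funext x
      simp only [Pi.add_apply]
      rcases eq_or_ne x i with rfl | h1
      · simp [e, hτi, hi, hj, hij]
      rcases eq_or_ne x j with rfl | h2
      · simp [e, hτj, hj, hk, h1]
      rcases eq_or_ne x k with rfl | h3
      · simp [e, hτk, hi, hk, h1, h2, CharTwo.add_self_eq_zero]
      · simp [e, hτo x h1 h2 h3, h1, h2, CharTwo.add_self_eq_zero]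
  have hall : ∀ c, e c + e a ∈ U := by
    intro c
    rcases eq_or_ne c a with rfl | hca
    · have : e c + e c = 0 := funext fun x => CharTwo.add_self_eq_zero _
      rw [this]; exact U.zero_mem
    rcases eq_or_ne c b with rfl | hcb
    · rwa [add_comm]
    set σ := Equiv.swap b c * Equiv.swap a b with hσ
    have hw := hinv σ (swap_mul_swap_mem hcb.symm hab) _ habU
    have h1 : σ a = c := by simp [hσ, Equiv.Perm.mul_apply]
    have h2 : σ b = a := by
      simp [hσ, Equiv.Perm.mul_apply, Equiv.swap_apply_of_ne_of_ne hab hca.symm]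
    have key : ∀ y, (fun x => e y (σ⁻¹ x)) = e (σ y) := fun y => funext fun x => by
      simp [e, Pi.single_apply, Equiv.symm_apply_eq]
    convert hw using 1
    funext x
    have k1 := congrFun (key a) x
    have k2 := congrFun (key b) x
    rw [h1] at k1
    rw [h2] at k2
    simp only [Pi.add_apply]
    rw [k1, k2]
  intro w hw
  have hsum : w = ∑ x, w x • (e x + e a) := by
    funext y
    simp only [Finset.sum_apply, Pi.smul_apply, Pi.add_apply, smul_eq_mul, mul_add, Finset.sum_add_distrib,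
      ← Finset.sum_mul, hw, zero_mul, add_zero, e, Pi.single_apply, mul_ite, mul_one, mul_zero,
      Finset.sum_ite_eq, Finset.mem_univ, if_true]
    by_cases hy : y = a <;> simp [hy, hw]
  rw [hsum]
  refine U.sum_mem fun x _ => ?_
  rcases zmod2_cases (w x) with h | h
  · rw [h, zero_smul]; exact U.zero_mem
  · rw [h, one_smul]; exact hall x

theorem alt_faithful {n : ℕ} (hn : 3 ≤ n) {σ : Equiv.Perm (Fin n)}
    (h : ∀ v : Fin n → ZMod 2, ∑ i, v i = 0 → (fun i => v (σ⁻¹ i)) = v) : σ = 1 := by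
  classical
  refine Equiv.ext fun i => ?_
  by_contra hne
  obtain ⟨k, hki, hkj⟩ := exists_third hn i (σ i)
  have hv : ∑ x, ((Pi.single i 1 : Fin n → ZMod 2) x + (Pi.single k 1 : Fin n → ZMod 2) x) = 0 := by
    simp [Finset.sum_add_distrib, CharTwo.add_self_eq_zero]
  have := congrFun (h (fun x => (Pi.single i 1 : Fin n → ZMod 2) x + (Pi.single k 1 : Fin n → ZMod 2) x) hv) (σ i)
  simp only [Equiv.Perm.inv_def, Equiv.symm_apply_apply, Pi.single_eq_same] at this
  have hne' : σ i ≠ i := hne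
  rw [Pi.single_eq_of_ne hki.symm, Pi.single_eq_of_ne hne', Pi.single_eq_of_ne hkj.symm] at this
  simp at this

end Alt

variable {G : Type*} [Group G]

/-- What is used of the natural module `W / Z` of a block `E` with `O_p(E) = K`. -/
structure NatSection (E K W Z : Subgroup G) : Prop where
  normalizes : E ≤ Subgroup.normalizer (W : Set G)
  le : Z ≤ W
  irred : ∀ U : Subgroup G, Z ≤ U → U ≤ W → (∀ e ∈ E, ∀ u ∈ U, e * u * e⁻¹ ∈ U) → U = Z ∨ U = W
  moves : ∃ e ∈ E, ∃ w ∈ W, e * w * e⁻¹ * w⁻¹ ∉ Z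
  faithful : ∀ e ∈ E, (∀ w ∈ W, e * w * e⁻¹ * w⁻¹ ∈ Z) → e ∈ K

theorem natSection_of_image {M : Type*} [AddCommGroup M] {R : Type*} [Group R] (act : R → M → M)
    (S : Set R) (V : Set M) {E K W Z : Subgroup G} [Finite G]
    (hEW : E ≤ Subgroup.normalizer (W : Set G)) (hZW : Z ≤ W)
    (ρ : ↥E →* R) (ψ : ↥W →* Multiplicative M)
    (hρ : (ρ.range : Set R) = S) (hV : ∀ v ∈ V, ∃ u : ↥W, Multiplicative.toAdd (ψ u) = v)
    (hψV : ∀ u : ↥W, Multiplicative.toAdd (ψ u) ∈ V)
    (hker : ∀ u : ↥W, ψ u = 1 ↔ (u : G) ∈ Z)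
    (heq : ∀ (e : ↥E) (u : ↥W), ∃ w : ↥W, (w : G) = (e : G) * (u : G) * (e : G)⁻¹ ∧
      Multiplicative.toAdd (ψ w) = act (ρ e) (Multiplicative.toAdd (ψ u)))
    (hirr : ∀ U : AddSubgroup M, (∀ v ∈ U, v ∈ V) → (∀ r ∈ S, ∀ v ∈ U, act r v ∈ U) →
      (∀ v ∈ U, v = 0) ∨ ∀ v ∈ V, v ∈ U)
    (hmov : ∃ r ∈ S, ∃ v ∈ V, act r v ≠ v) (hfaith : ∀ r ∈ S, (∀ v ∈ V, act r v = v) → r = 1)
    (hK : ∀ k ∈ K, k ∈ E ∧ ∀ w ∈ W, k * w * k⁻¹ * w⁻¹ ∈ Z)
    (hcard : Nat.card ↥E = Nat.card ↥K * Nat.card ↥ρ.range) :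
    NatSection E K W Z where
  normalizes := hEW
  le := hZW
  irred := by
    intro U hZU hUW hU
    let A : AddSubgroup M :=
      { carrier := {v | ∃ u : ↥W, (u : G) ∈ U ∧ Multiplicative.toAdd (ψ u) = v}
        zero_mem' := ⟨1, one_mem U, by simp⟩
        add_mem' := fun {a b} ha hb => by
          obtain ⟨u, hu, rfl⟩ := ha; obtain ⟨u', hu', rfl⟩ := hb
          exact ⟨u * u', mul_mem hu hu', by simp⟩
        neg_mem' := fun {a} ha => by
          obtain ⟨u, hu, rfl⟩ := ha
          exact ⟨u⁻¹, inv_mem hu, by simp⟩ }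
    rcases hirr A (fun v hv => by obtain ⟨u, -, rfl⟩ := hv; exact hψV u) (fun r hr v hv => by
        obtain ⟨u, hu, rfl⟩ := hv
        obtain ⟨e, rfl⟩ : r ∈ ρ.range := by rw [← hρ] at hr; exact hr
        obtain ⟨w, hw, hw'⟩ := heq e u
        exact ⟨w, hw ▸ hU e e.2 u hu, hw'⟩) with h | h
    · refine Or.inl (le_antisymm (fun u hu => (hker ⟨u, hUW hu⟩).1 ?_) hZU)
      exact Multiplicative.toAdd.injective (h _ ⟨⟨u, hUW hu⟩, hu, rfl⟩)
    · refine Or.inr (le_antisymm hUW fun w hw => ?_)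
      obtain ⟨u, hu, huw⟩ := h _ (hψV ⟨w, hw⟩)
      have h1 : ψ (⟨w, hw⟩ * u⁻¹) = 1 := by
        rw [map_mul, map_inv, mul_inv_eq_one]; exact Multiplicative.toAdd.injective huw.symm
      have h2 : w * (u : G)⁻¹ ∈ U := hZU ((hker _).1 h1)
      simpa using mul_mem h2 hu
  moves := by
    obtain ⟨r, hr, v, hv, hne⟩ := hmov
    obtain ⟨e, rfl⟩ : r ∈ ρ.range := by rw [← hρ] at hr; exact hr
    obtain ⟨u, rfl⟩ := hV v hv
    obtain ⟨w, hw, hw'⟩ := heq e u
    refine ⟨e, e.2, u, u.2, fun hz => hne ?_⟩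
    have h1 : ψ (w * u⁻¹) = 1 := (hker _).2 (by simpa [hw] using hz)
    rw [map_mul, map_inv, mul_inv_eq_one] at h1
    rw [← hw', h1]
  faithful := by
    have key : ∀ e : ↥E, (∀ w ∈ W, (e : G) * w * (e : G)⁻¹ * w⁻¹ ∈ Z) → ρ e = 1 := by
      intro e he
      refine hfaith _ (by rw [← hρ]; exact ⟨e, rfl⟩) fun v hv => ?_
      obtain ⟨u, rfl⟩ := hV v hv
      obtain ⟨w, hw, hw'⟩ := heq e u
      have h1 : ψ (w * u⁻¹) = 1 := (hker _).2 (by simpa [hw] using he u u.2)
      rw [map_mul, map_inv, mul_inv_eq_one] at h1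
      rw [← hw', h1]
    have hKle : K.subgroupOf E ≤ ρ.ker := fun k hk => key k (hK _ hk).2
    have hKeq : K.subgroupOf E = ρ.ker := by
      have : Finite ρ.range := Finite.of_surjective ρ.rangeRestrict ρ.rangeRestrict_surjective
      refine Subgroup.eq_of_le_of_card_ge hKle ?_
      have h1 := ρ.ker.card_eq_card_quotient_mul_card_subgroup
      rw [Nat.card_congr (QuotientGroup.quotientKerEquivRange ρ).toEquiv, hcard, mul_comm] at h1
      rw [Nat.card_congr (Subgroup.subgroupOfEquivOfLe fun k hk => (hK k hk).1).toEquiv]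
      exact (Nat.eq_of_mul_eq_mul_left Nat.card_pos h1).ge
    intro e he h
    have : (⟨e, he⟩ : ↥E) ∈ K.subgroupOf E := by rw [hKeq]; exact key ⟨e, he⟩ h
    exact this

end CfsgLib.BBlock
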