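import Cfsg.Agent.Lib.Baumann.BlockMove

/-!
Sections of order nine, and what is needed for two blocks with quaternion quotient normalizing each other.
-/

set_option autoImplicit false
set_option linter.unusedSectionVars false

namespace CfsgLib.BBlock

open Cfsg
open scoped commutatorElement

section Nine

variable {V : Type*} [Group V] [Finite V]

theorem eq_one_of_inv_nine (h9 : Nat.card V = 9) {v : V} (h : v⁻¹ = v) : v = 1 := by
  refine orderOf_eq_one_iff.mp (Nat.eq_one_of_dvd_coprimes (show Nat.Coprime 2 9 by norm_num)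
    (orderOf_dvd_of_pow_eq_one ?_) (h9 ▸ orderOf_dvd_natCard v))
  rw [pow_two]; nth_rewrite 1 [← h]; exact inv_mul_cancel v

/-- In `Aut` of a group of order nine a quaternion group contains all square roots of its involution. -/
theorem agree_nine (h9 : Nat.card V = 9) (S : Subgroup (MulAut V)) (hS : 8 ≤ Nat.card S) {ι g : MulAut V}
    (hι : ∀ v, ι v = v⁻¹) (hsq : ∀ s ∈ S, s = 1 ∨ s = ι ∨ s * s = ι) (hg : g * g = ι) : g ∈ S := by
  classical
  have : Nontrivial V := Finite.one_lt_card_iff_nontrivial.1 (by omega)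
  obtain ⟨v, hv⟩ := exists_ne (1 : V)
  have hιv : ι v ≠ v := fun h => hv (eq_one_of_inv_nine h9 ((hι v).symm.trans h))
  have hfix : ∀ s ∈ S, s v = v → s = 1 := by
    intro s hs hsv
    rcases hsq s hs with h | h | h
    · exact h
    · exact absurd (h ▸ hsv) hιv
    · refine absurd ?_ hιv
      rw [← h, MulAut.mul_apply, hsv, hsv]
  let ψ : S → {u : V // u ≠ 1} := fun s => ⟨(s : MulAut V) v, fun h => hv ((EmbeddingLike.map_eq_one_iff).1 h)⟩
  have hψ : Function.Injective ψ := by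
    intro s t hst
    have h1 : (s : MulAut V) v = (t : MulAut V) v := congrArg Subtype.val hst
    have h2 := hfix _ (mul_mem (inv_mem t.2) s.2) (by rw [MulAut.mul_apply, h1]; simp)
    exact Subtype.ext (inv_mul_eq_one.1 h2).symm
  have hcard : Nat.card {u : V // u ≠ 1} = 8 := by
    have := Fintype.ofFinite V
    rw [Nat.card_eq_fintype_card, Fintype.card_subtype_compl, Fintype.card_subtype_eq, ← Nat.card_eq_fintype_card, h9]
  obtain ⟨⟨s, hs⟩, hsv⟩ := (hψ.bijective_of_nat_card_le (by omega)).2 ⟨g v, fun h => hv ((EmbeddingLike.map_eq_one_iff).1 h)⟩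
  have hsv' : s v = g v := congrArg Subtype.val hsv
  have hs2 : s * s = ι := by
    rcases hsq s hs with h | h | h
    · refine absurd ?_ hιv
      rw [h, MulAut.one_apply] at hsv'
      rw [← hg, MulAut.mul_apply, ← hsv', ← hsv']
    · refine absurd ?_ hιv
      rw [h, hι] at hsv'
      rw [← hg, MulAut.mul_apply, ← hsv', map_inv, ← hsv', inv_inv]
    · exact h
  suffices g = s by rw [this]; exact hs
  let K : Subgroup V :=
    { carrier := {u | g u = s u}
      one_mem' := show g 1 = s 1 by rw [map_one, map_one]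
      mul_mem' := fun {a b} (ha : g a = s a) (hb : g b = s b) => show g (a * b) = s (a * b) by
        rw [map_mul, map_mul, ha, hb]
      inv_mem' := fun {a} (ha : g a = s a) => show g a⁻¹ = s a⁻¹ by rw [map_inv, map_inv, ha] }
  have hvK : v ∈ K := hsv'.symm
  have hsvK : s v ∈ K := show g (s v) = s (s v) by
    calc g (s v) = (g * g) v := by rw [hsv']; rfl
      _ = (s * s) v := by rw [hg, hs2]
      _ = s (s v) := rfl
  have hK : K = ⊤ := by
    have hdiv : Nat.card K ∣ 3 ^ 2 := by rw [show (3 : ℕ) ^ 2 = 9 by norm_num, ← h9]; exact Subgroup.card_subgroup_dvd_card K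
    obtain ⟨i, hi, hcK⟩ := (Nat.dvd_prime_pow Nat.prime_three).1 hdiv
    interval_cases i
    · rw [pow_zero, Subgroup.card_eq_one] at hcK
      rw [hcK, Subgroup.mem_bot] at hvK
      exact absurd hvK hv
    · exfalso
      rw [pow_one] at hcK
      have : Fact (Nat.Prime 3) := ⟨Nat.prime_three⟩
      have hne : (⟨v, hvK⟩ : K) ≠ 1 := fun h => hv (congrArg Subtype.val h)
      obtain ⟨j, hj⟩ := mem_powers_of_prime_card hcK (g' := (⟨s v, hsvK⟩ : K)) hne
      have hj' : v ^ j = s v := congrArg Subtype.val hj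
      have h3 : v ^ 3 = 1 := by
        have := congrArg Subtype.val (pow_card_eq_one' (x := (⟨v, hvK⟩ : K)))
        rwa [hcK] at this
      rw [← Nat.mod_add_div j 3, pow_add, pow_mul, h3, one_pow, mul_one] at hj'
      rcases (show j % 3 = 0 ∨ j % 3 = 1 ∨ j % 3 = 2 by omega) with h | h | h
      · rw [h, pow_zero] at hj'
        exact hv ((EmbeddingLike.map_eq_one_iff).1 hj'.symm)
      · rw [h, pow_one] at hj'
        exact hιv (by rw [← hs2, MulAut.mul_apply, ← hj', ← hj'])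
      · rw [h, pow_two] at hj'
        refine hιv ?_
        rw [← hs2, MulAut.mul_apply, ← hj', map_mul, ← hj']
        calc v * v * (v * v) = v ^ 3 * v := by simp [pow_succ, mul_assoc]
          _ = v := by rw [h3, one_mul]
    · exact Subgroup.eq_top_of_card_eq _ (by rw [hcK, h9]; norm_num)
  exact MulEquiv.ext fun u => (show u ∈ K by rw [hK]; exact Subgroup.mem_top u)

/-- A `3`-automorphism of a group of order nine is quadratic. -/
theorem quadratic_nine (h9 : Nat.card V = 9) {β : MulAut V} {k : ℕ} (hβ : β ^ 3 ^ k = 1) (v : V) :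
    β (β v * v⁻¹) * (β v * v⁻¹)⁻¹ = 1 := by
  have : Fact (Nat.Prime 3) := ⟨Nat.prime_three⟩
  letI : CommGroup V := IsPGroup.commGroupOfCardEqPrimeSq (p := 3) (by rw [h9]; norm_num)
  let δ : V →* V := MonoidHom.mk' (fun u => β u * u⁻¹) fun a b => by
    rw [map_mul, mul_inv, mul_mul_mul_comm]
  obtain ⟨i, -, hi⟩ := (Nat.dvd_prime_pow Nat.prime_three).1 (orderOf_dvd_of_pow_eq_one hβ)
  have hP : IsPGroup 3 (Subgroup.zpowers β) := IsPGroup.of_card (n := i) (by rw [Nat.card_zpowers, hi])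
  have hfix : ∀ U : Subgroup V, 3 ∣ Nat.card U → (∀ u ∈ U, β u ∈ U) → ∃ u ∈ U, u ≠ 1 ∧ δ u = 1 := by
    intro U hU hinv
    have hinv' : ∀ γ : Subgroup.zpowers β, ∀ u ∈ U, (γ : MulAut V) u ∈ U := by
      rintro ⟨γ, hγ⟩ u hu
      obtain ⟨n, rfl⟩ := mem_powers_iff_mem_zpowers.2 hγ
      show (β ^ n) u ∈ U
      clear hγ
      induction n with
      | zero => simpa using hu
      | succ n ih =>
        rw [pow_succ', MulAut.mul_apply]
        exact hinv _ ih
    letI : MulAction (Subgroup.zpowers β) U :=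
      { smul := fun γ u => ⟨(γ : MulAut V) u, hinv' γ u u.2⟩
        one_smul := fun u => Subtype.ext rfl
        mul_smul := fun γ γ' u => Subtype.ext rfl }
    obtain ⟨b, hb, hne⟩ := hP.exists_fixed_point_of_prime_dvd_card_of_fixed_point U hU (a := 1)
      (fun γ => Subtype.ext (map_one (γ : MulAut V)))
    refine ⟨b, b.2, fun h => hne (Subtype.ext h.symm), ?_⟩
    have := congrArg Subtype.val (hb ⟨β, Subgroup.mem_zpowers β⟩)
    show β b * (b : V)⁻¹ = 1
    rw [mul_inv_eq_one]; exact this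
  obtain ⟨u, -, hu, hδu⟩ := hfix ⊤ (by rw [Subgroup.card_top, h9]; norm_num) fun _ _ => Subgroup.mem_top _
  show δ (δ v) = 1
  have hr : Nat.card δ.range ∣ 3 := by
    have h1 := δ.ker.card_mul_index
    rw [Subgroup.index_ker, h9] at h1
    have hk : 1 < Nat.card δ.ker := by
      rw [Subgroup.one_lt_card_iff_ne_bot]
      intro h
      have : u ∈ δ.ker := hδu
      rw [h, Subgroup.mem_bot] at this
      exact hu this
    have hd : Nat.card δ.ker ∣ 3 ^ 2 := ⟨Nat.card δ.range, by rw [h1]; norm_num⟩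
    obtain ⟨i, hi, hki⟩ := (Nat.dvd_prime_pow Nat.prime_three).1 hd
    interval_cases i
    · omega
    · exact ⟨1, by rw [hki] at h1; omega⟩
    · exact ⟨3, by rw [hki] at h1; omega⟩
  rcases (Nat.dvd_prime Nat.prime_three).1 hr with h | h
  · have h2 : δ v ∈ δ.range := ⟨v, rfl⟩
    rw [Subgroup.card_eq_one.1 h, Subgroup.mem_bot] at h2
    rw [h2, map_one]
  · obtain ⟨w, hw, hw1, hδw⟩ := hfix δ.range (by rw [h]) (by
      rintro _ ⟨a, rfl⟩
      refine ⟨β a, ?_⟩
      show β (β a) * (β a)⁻¹ = β (β a * a⁻¹)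
      rw [map_mul, map_inv])
    obtain ⟨j, hj⟩ := mem_powers_of_prime_card h (g := (⟨w, hw⟩ : δ.range)) (g' := ⟨δ v, v, rfl⟩)
      (fun h => hw1 (congrArg Subtype.val h))
    have hj' : w ^ j = δ v := congrArg Subtype.val hj
    rw [← hj', map_pow, hδw, one_pow]

end Nine

variable {G : Type*} [Group G] [Finite G] {p : ℕ} [Fact p.Prime]

/-- The automorphism of the section `U / U₀` induced by an element normalizing both. -/
noncomputable def sectAut {U U₀ N : Subgroup G} [(U₀.subgroupOf U).Normal]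
    (hU : N ≤ Subgroup.normalizer (U : Set G)) (hU₀ : N ≤ Subgroup.normalizer (U₀ : Set G)) :
    ↥N →* MulAut (↥U ⧸ U₀.subgroupOf U) where
  toFun g := QuotientGroup.congr _ _ (Subgroup.normalizerMonoidHom U ⟨g, hU g.2⟩ : ↥U ≃* ↥U) (by
    ext x
    constructor
    · rintro ⟨y, hy, rfl⟩
      exact conj_mem_normalizer (hU₀ g.2) hy
    · intro hx
      refine ⟨⟨(g : G)⁻¹ * x * g, by simpa using conj_mem_normalizer (inv_mem (hU g.2)) x.2⟩, ?_, Subtype.ext ?_⟩
      · show (g : G)⁻¹ * x * g ∈ U₀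
        simpa using conj_mem_normalizer (inv_mem (hU₀ g.2)) hx
      · show (g : G) * ((g : G)⁻¹ * x * g) * (g : G)⁻¹ = x
        group)
  map_one' := by
    ext v
    obtain ⟨u, rfl⟩ := QuotientGroup.mk'_surjective _ v
    show ((_ : ↥U) : ↥U ⧸ U₀.subgroupOf U) = _
    congr 1
    exact Subtype.ext (show (1 : G) * u * (1 : G)⁻¹ = u by group)
  map_mul' g h := by
    ext v
    obtain ⟨u, rfl⟩ := QuotientGroup.mk'_surjective _ v
    show ((_ : ↥U) : ↥U ⧸ U₀.subgroupOf U) = ((_ : ↥U) : ↥U ⧸ U₀.subgroupOf U)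
    congr 1
    exact Subtype.ext (show (g : G) * h * u * ((g : G) * h)⁻¹ = (g : G) * ((h : G) * u * (h : G)⁻¹) * (g : G)⁻¹ by group)

section
variable {U U₀ N : Subgroup G} [(U₀.subgroupOf U).Normal]
  {hU : N ≤ Subgroup.normalizer (U : Set G)} {hU₀ : N ≤ Subgroup.normalizer (U₀ : Set G)}

theorem sectAut_mk (g : ↥N) (u : ↥U) :
    sectAut hU hU₀ g (u : ↥U ⧸ U₀.subgroupOf U) =
      ((⟨(g : G) * u * (g : G)⁻¹, conj_mem_normalizer (hU g.2) u.2⟩ : ↥U) : ↥U ⧸ U₀.subgroupOf U) := rfl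

theorem sectAut_eq_one_iff (g : ↥N) :
    sectAut hU hU₀ g = 1 ↔ ∀ u ∈ U, (g : G) * u * (g : G)⁻¹ * u⁻¹ ∈ U₀ := by
  constructor
  · intro h u hu
    have h1 := sectAut_mk (hU := hU) (hU₀ := hU₀) g ⟨u, hu⟩
    rw [h, MulAut.one_apply, eq_comm] at h1
    have h2 : ((⟨(g : G) * u * (g : G)⁻¹, conj_mem_normalizer (hU g.2) hu⟩ * ⟨u, hu⟩⁻¹ : ↥U) :
        ↥U ⧸ U₀.subgroupOf U) = 1 := by
      rw [QuotientGroup.mk_mul, QuotientGroup.mk_inv, h1, mul_inv_cancel]
    exact Subgroup.mem_subgroupOf.1 ((QuotientGroup.eq_one_iff _).1 h2)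
  · intro h
    ext v
    obtain ⟨u, rfl⟩ := QuotientGroup.mk'_surjective _ v
    show sectAut hU hU₀ g (u : ↥U ⧸ U₀.subgroupOf U) = _
    rw [sectAut_mk, MulAut.one_apply]
    refine mul_inv_eq_one.1 ?_
    show ((⟨(g : G) * u * (g : G)⁻¹, conj_mem_normalizer (hU g.2) u.2⟩ * u⁻¹ : ↥U) : ↥U ⧸ U₀.subgroupOf U) = 1
    exact (QuotientGroup.eq_one_iff _).2 (h u u.2)

theorem sectAut_inv_iff (g : ↥N) :
    (∀ v, sectAut hU hU₀ g v = v⁻¹) ↔ ∀ u ∈ U, (g : G) * u * (g : G)⁻¹ * u ∈ U₀ := by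
  constructor
  · intro h u hu
    have h1 := h ((⟨u, hu⟩ : ↥U) : ↥U ⧸ U₀.subgroupOf U)
    rw [sectAut_mk, eq_inv_iff_mul_eq_one, ← QuotientGroup.mk_mul] at h1
    exact Subgroup.mem_subgroupOf.1 ((QuotientGroup.eq_one_iff _).1 h1)
  · intro h v
    obtain ⟨u, rfl⟩ := QuotientGroup.mk'_surjective _ v
    show sectAut hU hU₀ g (u : ↥U ⧸ U₀.subgroupOf U) = _
    rw [sectAut_mk, eq_inv_iff_mul_eq_one]
    exact (QuotientGroup.eq_one_iff _).2 (h u u.2)

end

theorem card_quotient_subgroupOf {U U₀ : Subgroup G} (h : U₀ ≤ U) {n : ℕ}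
    (hn : Nat.card U = n * Nat.card U₀) : Nat.card (↥U ⧸ U₀.subgroupOf U) = n := by
  have h1 := (U₀.subgroupOf U).card_eq_card_quotient_mul_card_subgroup
  rw [Nat.card_congr (Subgroup.subgroupOfEquivOfLe h).toEquiv, hn] at h1
  exact (Nat.eq_of_mul_eq_mul_right Nat.card_pos h1).symm

/-- Powers of `b` move `M` only within `Z` if `b` does. -/
theorem zpowers_commutator_le {M Z : Subgroup G} {b : G} (hbM : b ∈ Subgroup.normalizer (M : Set G))
    (hbZ : b ∈ Subgroup.normalizer (Z : Set G)) (h : ∀ m ∈ M, b * m * b⁻¹ * m⁻¹ ∈ Z) :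
    ⁅M, Subgroup.zpowers b⁆ ≤ Z := by
  let K : Subgroup G :=
    { carrier := {g | g ∈ Subgroup.normalizer (M : Set G) ∧ g ∈ Subgroup.normalizer (Z : Set G) ∧
        ∀ m ∈ M, g * m * g⁻¹ * m⁻¹ ∈ Z}
      one_mem' := ⟨one_mem _, one_mem _, fun m _ => by simp⟩
      mul_mem' := fun {g g'} hg hg' => ⟨mul_mem hg.1 hg'.1, mul_mem hg.2.1 hg'.2.1, fun m hm => by
        rw [show g * g' * m * (g * g')⁻¹ * m⁻¹ =
          (g * (g' * m * g'⁻¹ * m⁻¹) * g⁻¹) * (g * m * g⁻¹ * m⁻¹) by group]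
        exact mul_mem (conj_mem_normalizer hg.2.1 (hg'.2.2 m hm)) (hg.2.2 m hm)⟩
      inv_mem' := fun {g} hg => ⟨inv_mem hg.1, inv_mem hg.2.1, fun m hm => by
        rw [show g⁻¹ * m * g⁻¹⁻¹ * m⁻¹ = g⁻¹ * (g * m * g⁻¹ * m⁻¹)⁻¹ * g⁻¹⁻¹ by group]
        exact conj_mem_normalizer (inv_mem hg.2.1) (inv_mem (hg.2.2 m hm))⟩ }
  rw [Subgroup.commutator_le]
  intro m hm x hx
  have hxK : x ∈ K := (Subgroup.zpowers_le.2 (show b ∈ K from ⟨hbM, hbZ, h⟩)) hx
  rw [show ⁅m, x⁆ = (x * m * x⁻¹ * m⁻¹)⁻¹ by rw [commutatorElement_def]; group]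
  exact inv_mem (hxK.2.2 m hm)

end CfsgLib.BBlock
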