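import Cfsg.Agent.Lib.Baumann.BlockCenter
import Cfsg.Agent.Lib.StSL.Two
import Cfsg.Agent.Lib.Components
import Mathlib.GroupTheory.SpecificGroups.Alternating.Simple
import Mathlib.LinearAlgebra.Projectivization.PSL.PSL2

/-!
The quotient `E / O_p(E)` of a block, and two general facts on sections.
-/

set_option autoImplicit false
set_option linter.unusedSectionVars false

namespace CfsgLib.BBlock

open Cfsg
open scoped commutatorElement

/-! ### The group `SL₂(3)'` -/

section Q8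

local notation "S3" => Matrix.SpecialLinearGroup (Fin 2) (ZMod 3)

def qi : S3 := ⟨!![0, 2; 1, 0], by decide⟩

def qj : S3 := ⟨!![1, 1; 1, 2], by decide⟩

set_option maxRecDepth 20000 in
theorem sl3_pow_four_closed : ∀ a b : S3, a * a * (a * a) = 1 → b * b * (b * b) = 1 →
    (a * b) * (a * b) * ((a * b) * (a * b)) = 1 := by decide +kernel

set_option maxRecDepth 20000 in
theorem sl3_comm_pow_four : ∀ a b : S3, ⁅a, b⁆ * ⁅a, b⁆ * (⁅a, b⁆ * ⁅a, b⁆) = 1 := by decide +kernel

theorem sl3_facts : (∀ a : S3, a * a * (a * a) = 1 → a = 1 ∨ a = -1 ∨ a * a = -1) ∧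
    (∀ a : S3, a * a * (a * a) = 1 → a * qi = qi * a → a * qj = qj * a → a = 1 ∨ a = -1) := by
  decide +kernel

theorem sl3_pow_four_list : ∀ a : S3, a * a * (a * a) = 1 →
    a = 1 ∨ a = -1 ∨ a = qi ∨ a = -qi ∨ a = qj ∨ a = -qj ∨ a = qi * qj ∨ a = -(qi * qj) := by
  decide +kernel

theorem sl3_commutator : ∀ a : S3, a ∈ commutator S3 ↔ a * a * (a * a) = 1 := by
  let S : Subgroup S3 :=
    { carrier := {a | a * a * (a * a) = 1}
      one_mem' := by simp
      mul_mem' := fun {a b} => sl3_pow_four_closed a b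
      inv_mem' := fun {a} (h : a * a * (a * a) = 1) => by
        show a⁻¹ * a⁻¹ * (a⁻¹ * a⁻¹) = 1
        rw [← mul_inv_rev, ← mul_inv_rev, h, inv_one] }
  intro a
  refine ⟨fun ha => ?_, fun ha => ?_⟩
  · have : commutator S3 ≤ S := by
      rw [commutator_def, Subgroup.commutator_le]
      exact fun x _ y _ => sl3_comm_pow_four x y
    exact this ha
  · have hi : qi ∈ commutator S3 := by
      obtain ⟨u, v, huv⟩ : ∃ u v : S3, ⁅u, v⁆ = qi := by decide +kernel
      exact huv ▸ mem_commutator_sl u v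
    have hj : qj ∈ commutator S3 := by
      obtain ⟨u, v, huv⟩ : ∃ u v : S3, ⁅u, v⁆ = qj := by decide +kernel
      exact huv ▸ mem_commutator_sl u v
    have hm : (-1 : S3) ∈ commutator S3 := by
      rw [show (-1 : S3) = qi * qi by decide +kernel]; exact mul_mem hi hi
    have hneg : ∀ x ∈ commutator S3, -x ∈ commutator S3 := fun x hx => by
      rw [show -x = -1 * x by simp]; exact mul_mem hm hx
    rcases sl3_pow_four_list a ha with rfl | rfl | rfl | rfl | rfl | rfl | rfl | rfl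
    · exact one_mem _
    · exact hm
    · exact hi
    · exact hneg _ hi
    · exact hj
    · exact hneg _ hj
    · exact mul_mem hi hj
    · exact hneg _ (mul_mem hi hj)

theorem sl3_card : Nat.card ↥(commutator S3) = 8 := by
  classical
  rw [Nat.card_congr (Equiv.subtypeEquivRight sl3_commutator), Nat.card_eq_fintype_card]
  decide +kernel

/-- The properties of `SL₂(3)'` that are used. -/
structure IsQ8Like {S : Type*} [Group S] (m : S) : Prop where
  card : Nat.card S = 8
  sq : ∀ a : S, a = 1 ∨ a = m ∨ a * a = m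
  centre : ∀ a : S, (∀ b, a * b = b * a) → a = 1 ∨ a = m
  comm : ∃ a b : S, ⁅a, b⁆ = m
  inv : m * m = 1 ∧ m ≠ 1

theorem q8Like : ∃ m : ↥(commutator S3), IsQ8Like m ∧ (m : S3) = -1 := by
  have hi : qi ∈ commutator S3 := (sl3_commutator _).2 (by decide +kernel)
  have hj : qj ∈ commutator S3 := (sl3_commutator _).2 (by decide +kernel)
  refine ⟨⟨-1, (sl3_commutator _).2 (by decide +kernel)⟩, ⟨sl3_card, fun a => ?_, fun a ha => ?_, ?_,
    ⟨Subtype.ext (by simp), fun h => absurd (congrArg Subtype.val h) (by decide +kernel)⟩⟩, rfl⟩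
  · rcases sl3_facts.1 a ((sl3_commutator _).1 a.2) with h | h | h
    · exact Or.inl (Subtype.ext h)
    · exact Or.inr (Or.inl (Subtype.ext h))
    · exact Or.inr (Or.inr (Subtype.ext h))
  · rcases sl3_facts.2 a ((sl3_commutator _).1 a.2) (congrArg Subtype.val (ha ⟨qi, hi⟩))
      (congrArg Subtype.val (ha ⟨qj, hj⟩)) with h | h
    · exact Or.inl (Subtype.ext h)
    · exact Or.inr (Subtype.ext h)
  · exact ⟨⟨qi, hi⟩, ⟨qj, hj⟩, Subtype.ext (by
      show qi * qj * qi⁻¹ * qj⁻¹ = -1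
      decide +kernel)⟩

theorem q8Like_of_card {F : Type*} [Field F] [Fintype F] (hF : Fintype.card F = 3) :
    ∃ m : ↥(commutator (Matrix.SpecialLinearGroup (Fin 2) F)), IsQ8Like m ∧
      ((m : Matrix.SpecialLinearGroup (Fin 2) F) : Matrix (Fin 2) (Fin 2) F) = -1 := by
  classical
  have : Fact (Nat.Prime 3) := ⟨Nat.prime_three⟩
  let e : ZMod 3 ≃+* F := FiniteField.ringEquivOfCardEq (by rw [ZMod.card, hF])
  let φ : S3 →* Matrix.SpecialLinearGroup (Fin 2) F := Matrix.SpecialLinearGroup.map e.toRingHom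
  have hinj : Function.Injective φ := fun a b h => by
    apply Subtype.ext; ext i j
    exact e.injective (by simpa [φ] using congrFun (congrFun (congrArg Subtype.val h) i) j)
  have hsurj : Function.Surjective φ := fun b => by
    refine ⟨Matrix.SpecialLinearGroup.map e.symm.toRingHom b, ?_⟩
    apply Subtype.ext; ext i j
    simp [φ]
  obtain ⟨m, hm, hm1⟩ := q8Like
  have hmap : (commutator S3).map φ = commutator (Matrix.SpecialLinearGroup (Fin 2) F) := by
    rw [commutator_def, Subgroup.map_commutator, Subgroup.map_top_of_surjective φ hsurj, commutator_def]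
  let ψ : ↥(commutator S3) ≃* ↥(commutator (Matrix.SpecialLinearGroup (Fin 2) F)) :=
    (Subgroup.equivMapOfInjective _ φ hinj).trans (MulEquiv.subgroupCongr hmap)
  refine ⟨ψ m, ⟨by rw [← Nat.card_congr ψ.toEquiv]; exact hm.card, fun a => ?_, fun a ha => ?_, ?_,
    ⟨by rw [← map_mul, hm.inv.1, map_one], fun h => hm.inv.2 (ψ.injective (by rw [h, map_one]))⟩⟩, ?_⟩
  · obtain ⟨x, rfl⟩ := ψ.surjective a
    rcases hm.sq x with h | h | h
    · exact Or.inl (by rw [h, map_one])
    · exact Or.inr (Or.inl (by rw [h]))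
    · exact Or.inr (Or.inr (by rw [← map_mul, h]))
  · obtain ⟨x, rfl⟩ := ψ.surjective a
    rcases hm.centre x (fun b => ψ.injective (by rw [map_mul, map_mul]; exact ha (ψ b))) with h | h
    · exact Or.inl (by rw [h, map_one])
    · exact Or.inr (by rw [h])
  · obtain ⟨a, b, h⟩ := hm.comm
    exact ⟨ψ a, ψ b, by rw [← h]; exact (map_commutatorElement ψ a b).symm⟩
  · show ((φ m : Matrix.SpecialLinearGroup (Fin 2) F) : Matrix (Fin 2) (Fin 2) F) = -1
    rw [hm1]; ext i j; fin_cases i <;> fin_cases j <;> simp [φ]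

end Q8

/-! ### Schur -/

/-- Endomorphisms commuting with an irreducible set of endomorphisms commute with each other. -/
theorem endo_comm {V : Type*} [CommGroup V] [Finite V] (S : Set (V →* V))
    (hirr : ∀ U : Subgroup V, (∀ s ∈ S, ∀ u ∈ U, s u ∈ U) → U = ⊥ ∨ U = ⊤)
    {a b : V →* V} (ha : ∀ s ∈ S, ∀ v, a (s v) = s (a v)) (hb : ∀ s ∈ S, ∀ v, b (s v) = s (b v)) (v : V) :
    a (b v) = b (a v) := by
  by_cases htriv : Subsingleton V
  · exact Subsingleton.elim _ _
  let R : Subring (AddMonoid.End (Additive V)) :=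
    Subring.centralizer (Set.image (fun s : V →* V => (MonoidHom.toAdditive s : Additive V →+ Additive V)) S)
  have hmem : ∀ {c : V →* V}, (∀ s ∈ S, ∀ v, c (s v) = s (c v)) →
      (MonoidHom.toAdditive c : AddMonoid.End (Additive V)) ∈ R := by
    intro c hc
    rintro _ ⟨s, hs, rfl⟩
    apply AddMonoidHom.ext
    intro x
    exact (congrArg Additive.ofMul (hc s hs (Additive.toMul x))).symm
  have hz : ∀ r : R, r ≠ 0 → ∀ x : Additive V, r.1 x = 0 → x = 0 := by
    intro r hr x hx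
    let U : Subgroup V :=
      { carrier := {u | r.1 (Additive.ofMul u) = 0}
        one_mem' := map_zero r.1
        mul_mem' := fun {u w} (hu : r.1 (Additive.ofMul u) = 0) (hw : r.1 (Additive.ofMul w) = 0) => by
          show r.1 (Additive.ofMul u + Additive.ofMul w) = 0
          rw [map_add, hu, hw, add_zero]
        inv_mem' := fun {u} (hu : r.1 (Additive.ofMul u) = 0) => by
          show r.1 (-Additive.ofMul u) = 0
          rw [map_neg, hu, neg_zero] }
    rcases hirr U (fun s hs u (hu : r.1 (Additive.ofMul u) = 0) => by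
      have h := congrArg (fun f : AddMonoid.End (Additive V) => f (Additive.ofMul u)) (r.2 _ ⟨s, hs, rfl⟩)
      show r.1 (Additive.ofMul (s u)) = 0
      change (MonoidHom.toAdditive s) (r.1 (Additive.ofMul u)) = r.1 ((MonoidHom.toAdditive s) (Additive.ofMul u)) at h
      rw [hu, map_zero] at h
      exact h.symm) with h | h
    · have h1 : Additive.toMul x ∈ U := hx
      rw [h, Subgroup.mem_bot] at h1
      exact h1
    · refine absurd (Subtype.ext (AddMonoidHom.ext fun y => ?_)) hr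
      have h1 : Additive.toMul y ∈ U := by rw [h]; exact Subgroup.mem_top _
      exact h1
  have : Nontrivial R := ⟨⟨1, 0, fun h => htriv ⟨fun u w => by
    have key : ∀ y : Additive V, y = 0 := fun y => congrArg (fun f : R => f.1 y) h
    exact Additive.ofMul.injective ((key _).trans (key _).symm)⟩⟩⟩
  have : Finite (AddMonoid.End (Additive V)) := DFunLike.finite _
  have : NoZeroDivisors R := ⟨fun {r s} h => by
    by_contra hne
    push Not at hne
    exact hne.2 (Subtype.ext (AddMonoidHom.ext fun y => hz r hne.1 _ (congrArg (fun f : R => f.1 y) h)))⟩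
  have : IsDomain R := NoZeroDivisors.to_isDomain R
  have hc := (Finite.isDomain_to_isField R).mul_comm ⟨_, hmem ha⟩ ⟨_, hmem hb⟩
  exact congrArg (fun f : R => Additive.toMul (f.1 (Additive.ofMul v))) hc

variable {G : Type*} [Group G]

/-- Two elements inducing endomorphisms of a section that commute with an irreducible group commute on it. -/
theorem sect_comm [Finite G] {E U U₀ : Subgroup G} (hU₀ : U₀ ≤ U)
    (hab : ∀ u ∈ U, ∀ v ∈ U, ⁅u, v⁆ ∈ U₀)
    (hirr : ∀ M : Subgroup G, U₀ ≤ M → M ≤ U → (∀ e ∈ E, ∀ u ∈ M, e * u * e⁻¹ ∈ M) → M = U₀ ∨ M = U)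
    (hE : E ≤ Subgroup.normalizer (U : Set G)) (hE₀ : E ≤ Subgroup.normalizer (U₀ : Set G))
    {f g : G} (hf : f ∈ Subgroup.normalizer (U : Set G) ⊓ Subgroup.normalizer (U₀ : Set G))
    (hg : g ∈ Subgroup.normalizer (U : Set G) ⊓ Subgroup.normalizer (U₀ : Set G))
    (hfE : ∀ e ∈ E, ∀ u ∈ U, (f * e * u * (f * e)⁻¹) * (e * f * u * (e * f)⁻¹)⁻¹ ∈ U₀)
    (hgE : ∀ e ∈ E, ∀ u ∈ U, (g * e * u * (g * e)⁻¹) * (e * g * u * (e * g)⁻¹)⁻¹ ∈ U₀)
    {u : G} (hu : u ∈ U) :
    (f * g * u * (f * g)⁻¹) * (g * f * u * (g * f)⁻¹)⁻¹ ∈ U₀ := by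
  have hn : (U₀.subgroupOf U).Normal := ⟨fun x hx y => by
    show (y : G) * x * (y : G)⁻¹ ∈ U₀
    have := mul_mem (hab y y.2 x x.2) hx
    simpa [commutatorElement_def, mul_assoc] using this⟩
  let V := ↥U ⧸ U₀.subgroupOf U
  have hVc : ∀ x y : V, x * y = y * x := by
    rintro ⟨x⟩ ⟨y⟩
    refine ((QuotientGroup.eq).2 ?_).symm
    show ((y * x : U)⁻¹ * (x * y) : U) ∈ U₀.subgroupOf U
    rw [Subgroup.mem_subgroupOf]
    have := hab _ (inv_mem x.2) _ (inv_mem y.2)
    simpa [commutatorElement_def, mul_assoc] using this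
  letI : CommGroup V := { (inferInstance : Group V) with mul_comm := hVc }
  let ind : (x : G) → x ∈ Subgroup.normalizer (U : Set G) ⊓ Subgroup.normalizer (U₀ : Set G) → (V →* V) :=
    fun x hx => QuotientGroup.map _ _ (Subgroup.normalizerMonoidHom U ⟨x, hx.1⟩).toMonoidHom
      (fun y hy => conj_mem_normalizer hx.2 hy)
  let S : Set (V →* V) := {s | ∃ e, ∃ he : e ∈ E, s = ind e ⟨hE he, hE₀ he⟩}
  have hirrV : ∀ M : Subgroup V, (∀ s ∈ S, ∀ m ∈ M, s m ∈ M) → M = ⊥ ∨ M = ⊤ := by
    intro M hM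
    let M' : Subgroup G := (M.comap (QuotientGroup.mk' _)).map U.subtype
    have hM' : ∀ x : U, (x : G) ∈ M' ↔ (x : V) ∈ M := fun x =>
      ⟨fun h => by obtain ⟨y, hy, e⟩ := h; rw [← Subtype.ext e]; exact hy, fun h => ⟨x, h, rfl⟩⟩
    rcases hirr M' (fun x hx => (hM' ⟨x, hU₀ hx⟩).2 (by
        rw [show ((⟨x, hU₀ hx⟩ : U) : V) = 1 from (QuotientGroup.eq_one_iff _).2 hx]; exact one_mem M))
      (Subgroup.map_subtype_le _) (fun e he x hx => by
        obtain ⟨y, hy, rfl⟩ := hx
        have h1 := hM _ ⟨e, he, rfl⟩ _ hy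
        exact ⟨Subgroup.normalizerMonoidHom U ⟨e, hE he⟩ y, h1, rfl⟩) with h | h
    · left
      rw [Subgroup.eq_bot_iff_forall]
      rintro ⟨x⟩ hx
      exact (QuotientGroup.eq_one_iff _).2 (show (x : G) ∈ U₀ from h ▸ (hM' x).2 hx)
    · right
      rw [Subgroup.eq_top_iff']
      rintro ⟨x⟩
      exact (hM' x).1 (h.symm ▸ x.2)
  have hcom : ∀ x (hx : x ∈ Subgroup.normalizer (U : Set G) ⊓ Subgroup.normalizer (U₀ : Set G)),
      (∀ e ∈ E, ∀ u ∈ U, (x * e * u * (x * e)⁻¹) * (e * x * u * (e * x)⁻¹)⁻¹ ∈ U₀) →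
      ∀ s ∈ S, ∀ v : V, ind x hx (s v) = s (ind x hx v) := by
    rintro x hx h _ ⟨e, he, rfl⟩ ⟨y⟩
    refine (QuotientGroup.eq).2 ?_
    rw [Subgroup.mem_subgroupOf]
    have h1 := h e he y y.2
    have h2 := hn.conj_mem ⟨_, hU₀ h1⟩ h1 ⟨e * x * y * (e * x)⁻¹, by
      simpa [mul_assoc] using conj_mem_normalizer (hE he) (conj_mem_normalizer hx.1 y.2)⟩⁻¹
    have h3 := inv_mem h2
    simp [Subgroup.mem_subgroupOf, mul_assoc] at h3 ⊢
    simpa [mul_assoc] using h3
  have key := endo_comm S hirrV (hcom f hf hfE) (hcom g hg hgE) ((⟨u, hu⟩ : U) : V)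
  have h4 := (QuotientGroup.eq).1 key.symm
  rw [Subgroup.mem_subgroupOf] at h4
  have h5 := hn.conj_mem ⟨_, hU₀ h4⟩ h4 ⟨g * f * u * (g * f)⁻¹, by
    simpa [mul_assoc] using conj_mem_normalizer hg.1 (conj_mem_normalizer hf.1 hu)⟩
  simp [Subgroup.mem_subgroupOf, mul_assoc] at h5 ⊢
  simpa [mul_assoc] using h5

end CfsgLib.BBlock
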