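import Cfsg.Agent.Lib.Baumann.ExcClash

/-!
A block is contained in a subnormal block or commutes with it.
-/

set_option autoImplicit false
set_option linter.unusedSectionVars false

universe u

namespace CfsgLib.BBlock

open Cfsg
open scoped commutatorElement

variable {G : Type u} [Group G] [Finite G] {p : ℕ} [Fact p.Prime] {E D : Subgroup G}

local notation:max "Qc" E:max => pCoreOf p E
local notation:max "Wc" E:max => omegaOneCenter p (pCoreOf p E)
local notation:max "Zc" E:max => omegaOneCenter p (pCoreOf p E) ⊓ Subgroup.centralizer (E : Set G)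
local notation "Xc" => omegaOneCenter p (pCore p G)

/-- A moved commutator: a block moving `W / Z` of `E` has its natural module inside `W`. -/
theorem exists_moved (hG : Subgroup.centralizer (pCore p G : Set G) ≤ pCore p G) (hE : IsSubBlock p E)
    (T : Sylow p G) (hD : IsBaumannBlock p (T : Subgroup G) D) {f : G} (hf : f ∈ D)
    (hfc : (orderOf f).Coprime p) (hfm : f ∉ sectTriv p E) :
    ∃ v ∈ Wc E, f * v * f⁻¹ * v⁻¹ ∈ Wc D ∧ f * v * f⁻¹ * v⁻¹ ∉ Zc E ∧ ⁅Wc D, D⁆ ≤ Wc E := by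
  obtain ⟨T0, hT0⟩ := hE.1
  have hDN : D ≤ Subgroup.normalizer (E : Set G) :=
    (le_baumannSubgroup hD).trans (baumannSubgroup_fixes hG hE)
  have hfn := normalizer_le_nn (p := p) E (hDN hf)
  have hcommE : ∀ a ∈ Wc E, ∀ b ∈ Wc E, a * b = b * a := fun a ha b hb =>
    omegaOneCenter_comm p _ hb (omegaOneCenter_le p _ ha)
  obtain ⟨v, hvV, hvm⟩ : ∃ v ∈ ⁅Wc E, E⁆, f * v * f⁻¹ * v⁻¹ ∉ Zc E := by
    by_contra hcon
    simp only [not_exists, not_and, not_not] at hcon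
    refine hfm ⟨hDN hf, fun w hw => ?_⟩
    let U : Subgroup G :=
      { carrier := {w | w ∈ Wc E ∧ f * w * f⁻¹ * w⁻¹ ∈ Zc E}
        one_mem' := ⟨one_mem _, by simp⟩
        mul_mem' := fun {a b} ha hb => ⟨mul_mem ha.1 hb.1, by
          rw [show f * (a * b) * f⁻¹ * (a * b)⁻¹ = (f * a * f⁻¹ * a⁻¹) * (a * (f * b * f⁻¹ * b⁻¹) * a⁻¹) by group,
            hcommE a ha.1 _ hb.2.1, mul_inv_cancel_right]
          exact mul_mem ha.2 hb.2⟩
        inv_mem' := fun {a} ha => ⟨inv_mem ha.1, by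
          rw [show f * a⁻¹ * f⁻¹ * a⁻¹⁻¹ = a⁻¹ * (f * a * f⁻¹ * a⁻¹)⁻¹ * a by group,
            hcommE _ (inv_mem ha.1) _ (inv_mem ha.2.1), inv_mul_cancel_right]
          exact inv_mem ha.2⟩ }
    have hle : ⁅Wc E, E⁆ ⊔ Zc E ≤ U := sup_le
      (fun a ha => ⟨(le_sup_left.trans (wc_eq_sup hT0 (block_moves_commutator T0 hT0)).le) ha, hcon a ha⟩)
      fun a ha => ⟨ha.1, mul_mem (conj_mem_normalizer hfn.2 ha) (inv_mem ha)⟩
    exact (hle ((wc_eq_sup hT0 (block_moves_commutator T0 hT0)).ge hw)).2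
  have hvW : v ∈ Wc E := le_sup_left.trans (wc_eq_sup hT0 (block_moves_commutator T0 hT0)).le hvV
  have hvX : v ∈ Xc := hE.wE_le hG hvV
  obtain ⟨c, hc⟩ : ∃ c, c = f * v * f⁻¹ * v⁻¹ := ⟨_, rfl⟩
  have hcX : c ∈ Xc := hc ▸ mul_mem (omega_core_normal.conj_mem _ hvX f) (inv_mem hvX)
  have hcE : c ∈ Wc E := hc ▸ mul_mem (conj_mem_normalizer hfn.1 hvW) (inv_mem hvW)
  have hcD : c ∈ Wc D :=
    xcore_mem_wc hD hcX (hc ▸ (commutator_core_mem T hD hf (omegaOneCenter_le p _ hvX)).1)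
  refine ⟨v, hvW, hc ▸ hcD, hvm, ?_⟩
  have hcZ : c ∉ Zc D := by
    intro h
    refine hvm ?_
    rw [← hc, eq_one_of_translation hfc (d := c) (r := v) ?_ (omegaOneCenter_pow p _ hcE) (by rw [hc]; group)]
    · exact one_mem _
    · rw [Subgroup.mem_centralizer_iff.1 h.2 f hf, mul_inv_cancel_right]
  have hnat := natSection_of_block hD
  have hcommD : ∀ a ∈ Wc D, ∀ b ∈ Wc D, a * b = b * a := fun a ha b hb =>
    omegaOneCenter_comm p _ hb (omegaOneCenter_le p _ ha)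
  rcases hnat.irred ((Wc D ⊓ Wc E) ⊔ Zc D) le_sup_right (sup_le inf_le_left inf_le_left) (fun d hd u hu => by
    refine conj_mem_normalizer (mem_normalizer_of_map_le fun z hz => ?_ :
      d ∈ Subgroup.normalizer (((Wc D ⊓ Wc E) ⊔ Zc D : Subgroup G) : Set G)) hu
    have h1 := normalizer_le_nn (p := p) D (Subgroup.le_normalizer hd)
    have hmem : (MulAut.conj d).toMonoidHom z ∈ ((Wc D ⊓ Wc E) ⊔ Zc D).map (MulAut.conj d).toMonoidHom :=
      ⟨z, hz, rfl⟩
    rw [Subgroup.map_sup] at hmem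
    refine (show _ ≤ (Wc D ⊓ Wc E) ⊔ Zc D from sup_le_sup ?_ ?_) hmem
    · rintro _ ⟨q, hq, rfl⟩
      exact ⟨conj_mem_normalizer h1.1 hq.1, conj_mem_normalizer (normalizer_le_nn E (hDN hd)).1 hq.2⟩
    · rintro _ ⟨q, hq, rfl⟩
      exact conj_mem_normalizer h1.2 hq) with h | h
  · exact absurd (h.le (Subgroup.mem_sup_left ⟨hcD, hcE⟩)) hcZ
  rw [Subgroup.commutator_le]
  intro w hw d hd
  have hw' := h.ge hw
  rw [← SetLike.mem_coe, Subgroup.coe_mul_of_left_le_normalizer_right (Wc D ⊓ Wc E) (Zc D)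
    (fun x hx => mem_normalizer_of_map_le fun z hz => by
      rw [hcommD x hx.1 z hz.1, mul_inv_cancel_right]; exact hz)] at hw'
  obtain ⟨a, ha, z, hz, rfl⟩ := hw'
  have hzd : d * z⁻¹ = z⁻¹ * d := Subgroup.mem_centralizer_iff.1 (inv_mem hz).2 d hd
  rw [commutatorElement_def, show a * z * d * (a * z)⁻¹ * d⁻¹ = a * z * (d * z⁻¹) * a⁻¹ * d⁻¹ by group, hzd,
    show a * z * (z⁻¹ * d) * a⁻¹ * d⁻¹ = a * (d * a⁻¹ * d⁻¹) by group]
  exact mul_mem ha.2 (conj_mem_normalizer (normalizer_le_nn E (hDN hd)).1 (inv_mem ha.2))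

/-- If a block moves `W / Z` of `E` then its part in `O_p(G)` lies in `O_p(E)`. -/
theorem core_le_of_moved (hG : Subgroup.centralizer (pCore p G : Set G) ≤ pCore p G) (hE : IsSubBlock p E)
    (T : Sylow p G) (hD : IsBaumannBlock p (T : Subgroup G) D) {f : G} (hf : f ∈ D)
    (hfc : (orderOf f).Coprime p) (hfm : f ∉ sectTriv p E) : (Qc D) ⊓ pCore p G ≤ Qc E := by
  obtain ⟨v, hvW, hcD, hcZ, hV⟩ := exists_moved hG hE T hD hf hfc hfm
  rcases exc_of_block hD with h | ⟨hX, hquad⟩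
  · refine inf_le_left.trans ?_
    rw [← hD.2.2.1]
    refine le_trans ?_ (omegaOneCenter_le p _)
    rw [show ⁅Qc D, D⁆ = ⁅Wc D, D⁆ by rw [← h]]
    exact hV
  rcases (block_kind hE).2 with hQW | hXE
  · exact (not_exc_over hG hE hQW T hD hX hquad hV hf hfc hvW rfl hcD hcZ).elim
  obtain ⟨T0, hT0⟩ := hE.1
  have hDN : D ≤ Subgroup.normalizer (E : Set G) :=
    (le_baumannSubgroup hD).trans (baumannSubgroup_fixes hG hE)
  have hWne : (Qc E) ≠ Wc E := fun h => hXE.ne fun a ha b hb => q_centralizes_wc ha (h ▸ hb)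
  rcases exists_model hT0 with ⟨F, hF, hFt, n, hcard, -, hshape⟩ | ⟨-, h, -⟩
  swap
  · exact absurd h hWne
  rcases hshape with h | ⟨-, ⟨ME⟩⟩
  · exact absurd h hWne
  have hftop := normalizer_le_nn_top (p := p) E (hDN hf)
  obtain ⟨e, he, ht⟩ := mem_ecFull.1 (block_le_ecFull hG hE T hD hf)
  obtain ⟨u, huQ, hum⟩ : ∃ u ∈ Qc E, f * u * f⁻¹ * u⁻¹ ∉ Wc E := by
    by_contra hcon
    simp only [not_exists, not_and, not_not] at hcon
    refine hfm ⟨hDN hf, ?_⟩
    have heq : e ∈ Qc E := hXE.nat.faithful e he fun u hu => by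
      obtain ⟨u', hu'⟩ : ∃ u', u' = (e⁻¹ * f)⁻¹ * u * (e⁻¹ * f) := ⟨_, rfl⟩
      have hu'Q : u' ∈ Qc E := by
        rw [hu']
        simpa using conj_mem_normalizer (inv_mem (normalizer_le_normalizer_pCoreOf E ht.1)) hu
      rw [show e * u * e⁻¹ * u⁻¹ =
        (f * u' * f⁻¹ * u'⁻¹) * ((e⁻¹ * f) * u' * (e⁻¹ * f)⁻¹ * u'⁻¹)⁻¹ by rw [hu']; group]
      exact mul_mem (hcon u' hu'Q) (inv_mem (ht.2.2 hXE u' hu'Q))
    have h := mul_mem (q_le_trivSub hE heq) ht
    rw [mul_inv_cancel_left] at h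
    exact h.2.1
  obtain ⟨d, hd⟩ : ∃ d, d = f * u * f⁻¹ * u⁻¹ := ⟨_, rfl⟩
  have hdE : d ∈ Qc E := hd ▸ mul_mem (conj_mem_normalizer hftop.1 huQ) (inv_mem huQ)
  have hdD : d ∈ Qc D := hd ▸ (commutator_core_mem T hD hf (hE.q_le_core huQ)).1
  have hdW : d ∉ Wc D := by
    intro hdw
    refine hum ?_
    rw [← hd]
    obtain ⟨k, hk⟩ := (CfsgLib.isPGroup_pCore p (G := G)) ⟨d, hE.q_le_core hdE⟩
    refine ME.toSec.val_eq_zero_of_translation hftop hfc huQ hdE (k := k)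
      (by rw [show d ^ p ^ k = 1 from congrArg Subtype.val hk]; exact one_mem _) ?_ ?_
    · rw [ME.toSec.ind_val hftop hdE, ME.toSec.val_eq_iff (conj_mem_normalizer hftop.1 hdE) hdE]
      refine hV ?_
      have h1 := inv_mem (Subgroup.commutator_mem_commutator hdw hf)
      rwa [commutatorElement_def, show (d * f * d⁻¹ * f⁻¹)⁻¹ = f * d * f⁻¹ * d⁻¹ by group] at h1
    · rw [ME.toSec.ind_val hftop huQ, ← ME.toSec.val_mul hdE huQ, hd]
      congr 1
      group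
  rcases hX.nat.irred (((Qc D) ⊓ Qc E) ⊔ Wc D) le_sup_right (sup_le inf_le_left (omegaOneCenter_le p _))
    (fun x hx a ha => by
      refine conj_mem_normalizer (mem_normalizer_of_map_le fun z hz => ?_ :
        x ∈ Subgroup.normalizer ((((Qc D) ⊓ Qc E) ⊔ Wc D : Subgroup G) : Set G)) ha
      have h1 := normalizer_le_nn_top (p := p) D (Subgroup.le_normalizer hx)
      have hmem : (MulAut.conj x).toMonoidHom z ∈ (((Qc D) ⊓ Qc E) ⊔ Wc D).map (MulAut.conj x).toMonoidHom :=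
        ⟨z, hz, rfl⟩
      rw [Subgroup.map_sup] at hmem
      refine (show _ ≤ ((Qc D) ⊓ Qc E) ⊔ Wc D from sup_le_sup ?_ ?_) hmem
      · rintro _ ⟨q, hq, rfl⟩
        exact ⟨conj_mem_normalizer h1.1 hq.1, conj_mem_normalizer (normalizer_le_normalizer_pCoreOf E (hDN hx)) hq.2⟩
      · rintro _ ⟨q, hq, rfl⟩
        exact conj_mem_normalizer h1.2 hq) with h | h
  · exact absurd (h.le (Subgroup.mem_sup_left ⟨hdD, hdE⟩)) hdW
  have hcent : ∀ q ∈ Qc D, ∀ w ∈ Wc D, q * w = w * q := fun q hq w hw => q_centralizes_wc hq hw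
  have hdec : ∀ q ∈ Qc D, ∃ a ∈ (Qc D) ⊓ Qc E, ∃ w ∈ Wc D, q = a * w := by
    intro q hq
    have hq' := h.ge hq
    rw [← SetLike.mem_coe, Subgroup.coe_mul_of_left_le_normalizer_right ((Qc D) ⊓ Qc E) (Wc D)
      (fun x hx => (normalizer_le_nn (p := p) D (Subgroup.le_normalizer (Subgroup.map_subtype_le _ hx.1))).1)] at hq'
    obtain ⟨a, ha, w, hw, rfl⟩ := hq'
    exact ⟨a, ha, w, hw, rfl⟩
  have hZQ : (Zc D) ≤ Qc E := by
    rw [← hX.der, Subgroup.commutator_le]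
    intro a ha b hb
    obtain ⟨a', ha', w, hw, rfl⟩ := hdec a ha
    obtain ⟨b', hb', w', hw', rfl⟩ := hdec b hb
    rw [show ⁅a' * w, b' * w'⁆ = ⁅a', b'⁆ by
      have e1 : w * (b' * w') = b' * w' * w := (hcent _ (mul_mem hb'.1 (omegaOneCenter_le p _ hw')) w hw).symm
      have e2 : w' * a'⁻¹ = a'⁻¹ * w' := (hcent _ (inv_mem ha'.1) w' hw').symm
      calc ⁅a' * w, b' * w'⁆ = a' * (w * (b' * w')) * w⁻¹ * a'⁻¹ * (b' * w')⁻¹ := by
            rw [commutatorElement_def]; group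
        _ = a' * b' * (w' * a'⁻¹) * (b' * w')⁻¹ := by rw [e1]; group
        _ = ⁅a', b'⁆ := by rw [e2, commutatorElement_def]; group]
    rw [commutatorElement_def]
    exact mul_mem (mul_mem (mul_mem ha'.2 hb'.2) (inv_mem ha'.2)) (inv_mem hb'.2)
  refine inf_le_left.trans (h.ge.trans (sup_le inf_le_right ?_))
  rw [← wc_eq_sup hD (block_moves_commutator T hD)]
  exact sup_le (hV.trans (omegaOneCenter_le p _)) hZQ

/-- A block is contained in a subnormal block or commutes with it. -/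
theorem le_or_commute (hG : Subgroup.centralizer (pCore p G : Set G) ≤ pCore p G) (hE : IsSubBlock p E)
    (T : Sylow p G) (hD : IsBaumannBlock p (T : Subgroup G) D) : D ≤ E ∨ ⁅D, E⁆ = ⊥ := by
  have hDN : D ≤ Subgroup.normalizer (E : Set G) :=
    (le_baumannSubgroup hD).trans (baumannSubgroup_fixes hG hE)
  have hfull := block_le_ecFull hG hE T hD
  by_cases hall : ∀ f ∈ D, (orderOf f).Coprime p → f ∈ sectTriv p E
  · right
    rw [Subgroup.commutator_eq_bot_iff_le_centralizer]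
    refine le_of_coprime hD.1 fun f hf hfc => Subgroup.mem_centralizer_iff.2 fun e he => ?_
    have ht := inf_sectTriv_le hE (hfull hf) (hall f hf hfc)
    exact (mul_inv_eq_iff_eq_mul.1 (fix_block hE hfc (hDN hf)
      (fun e he => sectTriv_conj hE (hall f hf hfc) he) ht.2 e he)).symm
  · left
    push Not at hall
    obtain ⟨f0, hf0, hf0c, hf0m⟩ := hall
    have hcore := core_le_of_moved hG hE T hD hf0 hf0c hf0m
    refine le_of_coprime hD.1 fun f hf hfc => ?_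
    obtain ⟨e, he, ht⟩ := mem_ecFull.1 (hfull hf)
    obtain ⟨t, htdef⟩ : ∃ t, t = e⁻¹ * f := ⟨_, rfl⟩
    rw [← htdef] at ht
    let L : Subgroup G :=
      { carrier := {g | g ∈ Subgroup.normalizer (E : Set G) ∧ ∀ r ∈ pCore p G, g * r * g⁻¹ * r⁻¹ ∈ Qc E}
        one_mem' := ⟨one_mem _, fun r _ => by simp⟩
        mul_mem' := fun {a b} ha hb => ⟨mul_mem ha.1 hb.1, fun r hr => by
          rw [show a * b * r * (a * b)⁻¹ * r⁻¹ = (a * (b * r * b⁻¹) * a⁻¹ * (b * r * b⁻¹)⁻¹) * (b * r * b⁻¹ * r⁻¹) by group]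
          exact mul_mem (ha.2 _ ((inferInstance : (pCore p G).Normal).conj_mem _ hr b)) (hb.2 r hr)⟩
        inv_mem' := fun {a} ha => ⟨inv_mem ha.1, fun r hr => by
          rw [show a⁻¹ * r * a⁻¹⁻¹ * r⁻¹ = (a * (a⁻¹ * r * a⁻¹⁻¹) * a⁻¹ * (a⁻¹ * r * a⁻¹⁻¹)⁻¹)⁻¹ by group]
          exact inv_mem (ha.2 _ ((inferInstance : (pCore p G).Normal).conj_mem _ hr a⁻¹))⟩ }
    have heL : e ∈ L := ⟨Subgroup.le_normalizer he, fun r hr => by
      rw [show e * r * e⁻¹ * r⁻¹ = (r * e * r⁻¹ * e⁻¹)⁻¹ by group]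
      exact inv_mem (hE.conj_mem hr he)⟩
    have htL : t ∈ L := htdef ▸ mul_mem (inv_mem heL)
      ⟨hDN hf, fun r hr => hcore (commutator_core_mem T hD hf hr)⟩
    obtain ⟨k, hk⟩ := exists_coprime_power (p := p) t
    have htk := pow_mem ht (p ^ k)
    have hfix := fix_block hE hk htk.1 (fun e he => sectTriv_conj hE ⟨htk.1, htk.2.1⟩ he) htk.2
    have h1 : t ^ p ^ k = 1 := eq_one_of_centralizes hG hk fun r hr => by
      have hd := (pow_mem htL (p ^ k)).2 r hr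
      exact mul_inv_eq_one.1 (eq_one_of_core_translation (r := r) hk
        (hfix _ (Subgroup.map_subtype_le _ hd)) (hE.q_le_core hd) (by group))
    refine mem_of_mem_sup_coprime (K := Subgroup.zpowers t) (p := p) ?_ (Subgroup.zpowers_le.2 ht.1) ?_ hfc
    · obtain ⟨i, -, hi⟩ := (Nat.dvd_prime_pow (Fact.out : p.Prime)).1 (orderOf_dvd_of_pow_eq_one h1)
      exact IsPGroup.of_card (n := i) (by rw [Nat.card_zpowers, hi])
    · rw [show f = e * t by rw [htdef]; group]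
      exact mul_mem (Subgroup.mem_sup_left he) (Subgroup.mem_sup_right (Subgroup.mem_zpowers t))

end CfsgLib.BBlock
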