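import Cfsg.Agent.Lib.Baumann.Inner
import Cfsg.Agent.Lib.Baumann.BlockMutual

/-!
Blocks and the sections of a subnormal block: full inner action, general facts on moved commutators.
-/

set_option autoImplicit false
set_option linter.unusedSectionVars false

universe u

namespace CfsgLib.BBlock

open Cfsg
open scoped commutatorElement

variable {G : Type u} [Group G] [Finite G] {p : ℕ} [Fact p.Prime] {E D : Subgroup G}

local notation:max "Qc" E:max => pCoreOf p E
local notation:max "Wc" E:max => omegaOneCenter p (pCoreOf p E)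
local notation:max "Zc" E:max => omegaOneCenter p (pCoreOf p E) ⊓ Subgroup.centralizer (E : Set G)
local notation "Xc" => omegaOneCenter p (pCore p G)

theorem trivSub_normalized (hE : IsSubBlock p E) :
    Subgroup.normalizer (E : Set G) ≤ Subgroup.normalizer (trivSub hE : Set G) := by
  refine fun n hn => mem_normalizer_of_map_le fun y hy => ?_
  refine ⟨mul_mem (mul_mem hn hy.1) (inv_mem hn), fun w hw => ?_, fun hX q hq => ?_⟩
  · exact ((conj_mem_normalizer (sectTriv_normalized (p := p) hn) (show y ∈ sectTriv p E from ⟨hy.1, hy.2.1⟩))).2 w hw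
  · have hq' : n⁻¹ * q * n ∈ Qc E := by
      simpa using conj_mem_normalizer (inv_mem (normalizer_le_normalizer_pCoreOf E hn)) hq
    rw [show n * y * n⁻¹ * q * (n * y * n⁻¹)⁻¹ * q⁻¹ =
      n * (y * (n⁻¹ * q * n) * y⁻¹ * (n⁻¹ * q * n)⁻¹) * n⁻¹ by group]
    exact conj_mem_normalizer (hE.normalizer_w hn) (hy.2.2 hX _ hq')

/-- The elements of `N(E)` acting on all sections of `E` like elements of `E`. -/
def ecFull (hE : IsSubBlock p E) : Subgroup G := E ⊔ trivSub hE

theorem mem_ecFull {hE : IsSubBlock p E} {g : G} : g ∈ ecFull hE ↔ ∃ e ∈ E, e⁻¹ * g ∈ trivSub hE := by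
  refine ⟨fun hg => ?_, fun ⟨e, he, h⟩ => ?_⟩
  · rw [← SetLike.mem_coe, ecFull, Subgroup.coe_mul_of_left_le_normalizer_right E (trivSub hE)
      (Subgroup.le_normalizer.trans (trivSub_normalized hE))] at hg
    obtain ⟨e, he, t, ht, rfl⟩ := hg
    exact ⟨e, he, by simpa using ht⟩
  · rw [show g = e * (e⁻¹ * g) by group]
    exact mul_mem (Subgroup.mem_sup_left he) (Subgroup.mem_sup_right h)

theorem q_le_trivSub (hE : IsSubBlock p E) {q : G} (hq : q ∈ Qc E) : q ∈ trivSub hE :=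
  ⟨Subgroup.le_normalizer (Subgroup.map_subtype_le _ hq), trivSect_core hE (hE.q_le_core hq)⟩

theorem inf_sectTriv_le (hE : IsSubBlock p E) {g : G} (hg : g ∈ ecFull hE) (hs : g ∈ sectTriv p E) :
    g ∈ trivSub hE := by
  obtain ⟨e, he, ht⟩ := mem_ecFull.1 hg
  have h1 : e ∈ sectTriv p E := by
    have := mul_mem hs (inv_mem (show e⁻¹ * g ∈ sectTriv p E from ⟨ht.1, ht.2.1⟩))
    simpa using this
  simpa using mul_mem (q_le_trivSub hE (hE.nat.faithful e he h1.2)) ht

/-- An element trivial on `W / Z` acts trivially on `E / Q`. -/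
theorem sectTriv_conj (hE : IsSubBlock p E) {y : G} (hy : y ∈ sectTriv p E) {e : G} (he : e ∈ E) :
    y * e * y⁻¹ * e⁻¹ ∈ Qc E := by
  refine hE.nat.faithful _ (mul_mem (conj_mem_normalizer hy.1 he) (inv_mem he)) ?_
  have h := mul_mem hy (conj_mem_normalizer (sectTriv_normalized (Subgroup.le_normalizer he)) (inv_mem hy))
  rw [show y * (e * y⁻¹ * e⁻¹) = y * e * y⁻¹ * e⁻¹ by group] at h
  exact h.2

theorem sectTriv_commutes_top (hE : IsSubBlock p E) (hX : Exc p E) {s : G} (hs : s ∈ sectTriv p E) :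
    ∀ e ∈ E, ∀ u ∈ Qc E, (s * e * u * (s * e)⁻¹) * (e * s * u * (e * s)⁻¹)⁻¹ ∈ Wc E := by
  intro e he u hu
  have hq := sectTriv_conj hE hs he
  have hx : e * s * u * (e * s)⁻¹ ∈ Qc E :=
    conj_mem_normalizer (normalizer_le_normalizer_pCoreOf E (mul_mem (Subgroup.le_normalizer he) hs.1)) hu
  have h := hE.q_comm hX hq hx
  rw [commutatorElement_def] at h
  rw [show (s * e * u * (s * e)⁻¹) * (e * s * u * (e * s)⁻¹)⁻¹ =
    s * e * s⁻¹ * e⁻¹ * (e * s * u * (e * s)⁻¹) * (s * e * s⁻¹ * e⁻¹)⁻¹ * (e * s * u * (e * s)⁻¹)⁻¹ by group]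
  exact h.1

theorem commutator_sectTriv (hE : IsSubBlock p E) (hX : Exc p E) {s t : G} (hs : s ∈ sectTriv p E)
    (ht : t ∈ sectTriv p E) : ⁅s, t⁆ ∈ trivSub hE := by
  have hsN := normalizer_le_normalizer_pCoreOf (p := p) E hs.1
  have htN := normalizer_le_normalizer_pCoreOf (p := p) E ht.1
  have hc : ⁅s, t⁆ ∈ sectTriv p E := mul_mem (mul_mem (mul_mem hs ht) (inv_mem hs)) (inv_mem ht)
  refine ⟨hc.1, hc.2, fun _ q hq => ?_⟩
  have hu : (t * s)⁻¹ * q * (t * s) ∈ Qc E := by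
    simpa using conj_mem_normalizer (inv_mem (mul_mem htN hsN)) hq
  have h := sect_comm (omegaOneCenter_le p _) (fun a ha b hb => (hE.q_comm hX ha hb).1) hX.nat.irred
    hE.normalizes_q hE.nat.normalizes (f := s) (g := t) ⟨hsN, hE.normalizer_w hs.1⟩ ⟨htN, hE.normalizer_w ht.1⟩
    (sectTriv_commutes_top hE hX hs) (sectTriv_commutes_top hE hX ht) hu
  convert h using 1
  rw [commutatorElement_def]; group

theorem commutator_ecSub (hE : IsSubBlock p E) (hX : Exc p E) {a b : G} (ha : a ∈ ecSub p E)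
    (hb : b ∈ ecSub p E) : ⁅a, b⁆ ∈ ecFull hE := by
  obtain ⟨e, he, hs⟩ := mem_ecSub.1 ha
  obtain ⟨e', he', hs'⟩ := mem_ecSub.1 hb
  obtain ⟨s, hsdef⟩ : ∃ s, s = e⁻¹ * a := ⟨_, rfl⟩
  obtain ⟨t, htdef⟩ : ∃ t, t = e'⁻¹ * b := ⟨_, rfl⟩
  rw [← hsdef] at hs
  rw [← htdef] at hs'
  have hab : ⁅a, b⁆ = e * (s * e' * s⁻¹) * ⁅s, t⁆ * (t * e⁻¹ * t⁻¹) * e'⁻¹ := by
    rw [hsdef, htdef, commutatorElement_def, commutatorElement_def]; group
  rw [hab]
  refine mul_mem (mul_mem (mul_mem (Subgroup.mem_sup_left (mul_mem he (conj_mem_normalizer hs.1 he')))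
    (Subgroup.mem_sup_right (commutator_sectTriv hE hX hs hs'))) ?_) (Subgroup.mem_sup_left (inv_mem he'))
  exact Subgroup.mem_sup_left (conj_mem_normalizer hs'.1 (inv_mem he))

/-- An element trivial on `W / Z` whose square is trivial on `Q / W` fixes or inverts `Q / W`. -/
theorem fix_or_inv_top (hE : IsSubBlock p E) (hX : Exc p E) {s : G} (hs : s ∈ sectTriv p E)
    (h2 : s * s ∈ trivSub hE) : s ∈ trivSub hE ∨ ∀ u ∈ Qc E, s * u * s⁻¹ * u ∈ Wc E := by
  have hsN := normalizer_le_normalizer_pCoreOf (p := p) E hs.1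
  let U : Subgroup G :=
    { carrier := {a | a ∈ Qc E ∧ s * a * s⁻¹ * a⁻¹ ∈ Wc E}
      one_mem' := ⟨one_mem _, by simp⟩
      mul_mem' := fun {a b} ha hb => ⟨mul_mem ha.1 hb.1, by
        rw [show s * (a * b) * s⁻¹ * (a * b)⁻¹ =
          (s * a * s⁻¹ * a⁻¹) * (a * (s * b * s⁻¹ * b⁻¹) * a⁻¹) by group, hE.q_normalizes_w ha.1 hb.2]
        exact mul_mem ha.2 hb.2⟩
      inv_mem' := fun {a} ha => ⟨inv_mem ha.1, by
        rw [show s * a⁻¹ * s⁻¹ * a⁻¹⁻¹ = a⁻¹ * (s * a * s⁻¹ * a⁻¹)⁻¹ * a by group]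
        have h := hE.q_normalizes_w (inv_mem ha.1) (inv_mem ha.2)
        rw [inv_inv] at h
        rw [h]
        exact inv_mem ha.2⟩ }
  have hWU : (Wc E) ≤ U := fun w hw => ⟨omegaOneCenter_le p _ hw, (hs.2 w hw).1⟩
  rcases hX.nat.irred U hWU (fun _ hu => hu.1) (fun e he u hu => by
    refine ⟨conj_mem_normalizer (hE.normalizes_q he) hu.1, ?_⟩
    have h1 := sectTriv_commutes_top hE hX hs e he u hu.1
    have h3 := conj_mem_normalizer (hE.nat.normalizes he) hu.2
    convert mul_mem h1 h3 using 1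
    group) with h | h
  · refine Or.inr fun u hu => ?_
    have hsu := conj_mem_normalizer hsN hu
    rw [← h]
    refine ⟨mul_mem hsu hu, ?_⟩
    have h3 := h2.2.2 hX u hu
    have h4 := (hE.q_comm hX hsu hu).1
    have hsu' : s * u * s⁻¹ ∈ Qc E := hsu
    have h5 := conj_mem_normalizer (hE.normalizer_w (Subgroup.le_normalizer (Subgroup.map_subtype_le _ hu))) h4
    rw [show s * (s * u * s⁻¹ * u) * s⁻¹ * (s * u * s⁻¹ * u)⁻¹ =
      (s * s * u * (s * s)⁻¹ * u⁻¹) * (u * (s * u * s⁻¹) * u⁻¹ * (s * u * s⁻¹)⁻¹) by group]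
    refine mul_mem h3 ?_
    have h6 := (hE.q_comm hX hu hsu').1
    rwa [commutatorElement_def] at h6
  · exact Or.inl ⟨hs.1, hs.2, fun _ q hq => (h.ge hq).2⟩

/-- A block acts on all sections of a subnormal block like elements of it. -/
theorem block_le_ecFull (hG : Subgroup.centralizer (pCore p G : Set G) ≤ pCore p G) (hE : IsSubBlock p E)
    (T : Sylow p G) (hD : IsBaumannBlock p (T : Subgroup G) D) : D ≤ ecFull hE := by
  classical
  have hDc := block_le_ecSub hG hE T hD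
  by_cases hX : Exc p E
  swap
  · intro d hd
    obtain ⟨e, he, ht⟩ := mem_ecSub.1 (hDc hd)
    exact mem_ecFull.2 ⟨e, he, ht.1, ht.2, fun h => absurd h hX⟩
  have hDD : ⁅D, D⁆ ≤ ecFull hE := by
    rw [Subgroup.commutator_le]
    exact fun a ha b hb => commutator_ecSub hE hX (hDc ha) (hDc hb)
  rcases exists_model hD with ⟨F, hF, hFt, n, hcard, ⟨M⟩, -⟩ | ⟨hp2, -⟩
  swap
  · exact absurd (hp2.symm.trans hX.three) (by norm_num)
  by_cases h4 : 4 ≤ Fintype.card F
  · exact (M.le_commutator h4 hD.2.2.1 (Subgroup.map_subtype_le _)).trans hDD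
  have hF3 : Fintype.card F = 3 := (small_quotient (p := p) hcard (by omega)).2.2.trans hX.three
  obtain ⟨m, hm, -⟩ := q8Like_of_card hF3
  have hQD : (Qc D) ≤ ⁅D, D⁆ := hD.2.2.1.ge.trans (Subgroup.commutator_mono (Subgroup.map_subtype_le _) le_rfl)
  have hsq : ∀ d ∈ D, d * d ∈ ⁅D, D⁆ := by
    intro d hd
    obtain ⟨a, b, hab⟩ := hm.comm
    obtain ⟨a', ha'⟩ : (a : Matrix.SpecialLinearGroup (Fin 2) F) ∈ M.ρ.range := by rw [M.range_eq]; exact a.2
    obtain ⟨b', hb'⟩ : (b : Matrix.SpecialLinearGroup (Fin 2) F) ∈ M.ρ.range := by rw [M.range_eq]; exact b.2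
    set x : ↥(commutator (Matrix.SpecialLinearGroup (Fin 2) F)) := ⟨M.ρ ⟨d, hd⟩, M.range_eq.le ⟨_, rfl⟩⟩ with hx
    have hxx : x * x = 1 ∨ x * x = ⁅a, b⁆ := by
      rcases hm.sq x with h | h | h
      · exact Or.inl (by rw [h, one_mul])
      · exact Or.inl (by rw [h]; exact hm.inv.1)
      · exact Or.inr (h.trans hab.symm)
    rcases hxx with h | h
    · refine hQD ((M.ker_eq (⟨d, hd⟩ * ⟨d, hd⟩)).1 ?_)
      rw [map_mul]; exact congrArg Subtype.val h
    · have h1 : (⁅a', b'⁆⁻¹ * (⟨d, hd⟩ * ⟨d, hd⟩) : ↥D).val ∈ Qc D := (M.ker_eq _).1 (by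
        rw [map_mul, map_inv, map_commutatorElement, map_mul, ha', hb', inv_mul_eq_one]
        exact (congrArg Subtype.val h).symm)
      have h2 : ((⁅a', b'⁆ : ↥D) : G) ∈ ⁅D, D⁆ := Subgroup.commutator_mem_commutator a'.2 b'.2
      have h3 := mul_mem h2 (hQD h1)
      rw [Subgroup.coe_mul, Subgroup.coe_inv, mul_inv_cancel_left] at h3
      exact h3
  have hBE := baumann_fixes hG hE T
  rw [← hD.2.1, Subgroup.commutator_le]
  intro f hf b hb
  obtain ⟨e, he, hs⟩ := mem_ecSub.1 (hDc hf)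
  obtain ⟨s, hsdef⟩ : ∃ s, s = e⁻¹ * f := ⟨_, rfl⟩
  rw [← hsdef] at hs
  have hfe : f = e * s := by rw [hsdef]; group
  have hbN := hBE hb
  have hss : s * s ∈ trivSub hE := by
    refine inf_sectTriv_le hE ?_ (mul_mem hs hs)
    have h1 := hDD (hsq f hf)
    rw [hfe] at h1
    rw [show s * s = (e * (s * e * s⁻¹))⁻¹ * (e * s * (e * s)) by group]
    exact mul_mem (inv_mem (Subgroup.mem_sup_left (mul_mem he (conj_mem_normalizer hs.1 he)))) h1
  have hgoal : ⁅s, b⁆ ∈ trivSub hE := by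
    have hN := trivSub_normalized hE hbN
    rcases fix_or_inv_top hE hX hs hss with h | h
    · rw [commutatorElement_def, mul_assoc s, mul_assoc s]
      exact mul_mem h (conj_mem_normalizer hN (inv_mem h))
    · have hsb : b * s * b⁻¹ ∈ sectTriv p E := conj_mem_normalizer (sectTriv_normalized hbN) hs
      have hc : ⁅s, b⁆ ∈ sectTriv p E := by
        rw [show ⁅s, b⁆ = s * (b * s * b⁻¹)⁻¹ by rw [commutatorElement_def]; group]
        exact mul_mem hs (inv_mem hsb)
      refine ⟨hc.1, hc.2, fun _ u hu => ?_⟩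
      obtain ⟨v, hvdef⟩ : ∃ v, v = (b * s * b⁻¹)⁻¹ * u * (b * s * b⁻¹) := ⟨_, rfl⟩
      have hv : v ∈ Qc E := by
        rw [hvdef]
        simpa using conj_mem_normalizer (inv_mem (normalizer_le_normalizer_pCoreOf E hsb.1)) hu
      have h1 := h v hv
      have hv' : b⁻¹ * v * b ∈ Qc E := by
        simpa using conj_mem_normalizer (inv_mem (normalizer_le_normalizer_pCoreOf E hbN)) hv
      have h2 := conj_mem_normalizer (hE.normalizer_w hbN) (h _ hv')
      rw [show ⁅s, b⁆ * u * ⁅s, b⁆⁻¹ * u⁻¹ = (s * v * s⁻¹ * v) * (b * (s * (b⁻¹ * v * b) * s⁻¹ * (b⁻¹ * v * b)) * b⁻¹)⁻¹ by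
        rw [hvdef, commutatorElement_def]; group]
      exact mul_mem h1 (inv_mem h2)
  rw [show ⁅f, b⁆ = e * ⁅s, b⁆ * (b * e⁻¹ * b⁻¹) by rw [hfe, commutatorElement_def, commutatorElement_def]; group]
  exact mul_mem (mul_mem (Subgroup.mem_sup_left he) (Subgroup.mem_sup_right hgoal))
    (Subgroup.mem_sup_left (conj_mem_normalizer hbN (inv_mem he)))

/-- `W = [W, E] Z`. -/
theorem wc_eq_sup {T : Subgroup G} (hD : IsBaumannBlock p T D) (hres : ¬ ∀ e ∈ D, ∀ c ∈ ⁅Wc D, D⁆, e * c = c * e) :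
    ⁅Wc D, D⁆ ⊔ Zc D = Wc D := by
  have hnat := natSection_of_block hD
  set V := ⁅Wc D, D⁆ with hV
  have hVW : V ≤ Wc D := by
    rw [hV, Subgroup.commutator_le]
    intro v hv e he
    rw [commutatorElement_def, mul_assoc v, mul_assoc v]
    exact mul_mem hv (conj_mem_normalizer (hnat.normalizes he) (inv_mem hv))
  rcases hnat.irred (V ⊔ Zc D) le_sup_right (sup_le hVW inf_le_left) (fun e he u hu => by
    refine conj_mem_normalizer (?_ : e ∈ Subgroup.normalizer ((V ⊔ Zc D : Subgroup G) : Set G)) hu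
    have h1 : e ∈ Subgroup.normalizer (V : Set G) :=
      commutator_normalized (hnat.normalizes he) (Subgroup.le_normalizer he)
    have h2 : e ∈ Subgroup.normalizer ((Zc D : Subgroup G) : Set G) :=
      (normalizer_le_nn D (Subgroup.le_normalizer he)).2
    refine mem_normalizer_of_map_le fun z hz => ?_
    have hmem : (MulAut.conj e).toMonoidHom z ∈ (V ⊔ Zc D).map (MulAut.conj e).toMonoidHom := ⟨z, hz, rfl⟩
    rw [Subgroup.map_sup] at hmem
    refine (show _ ≤ V ⊔ Zc D from sup_le_sup ?_ ?_) hmem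
    · rintro _ ⟨q, hq, rfl⟩; exact conj_mem_normalizer h1 hq
    · rintro _ ⟨q, hq, rfl⟩; exact conj_mem_normalizer h2 hq) with h | h
  · exact absurd (fun e he q hq => Subgroup.mem_centralizer_iff.1 (h.le (Subgroup.mem_sup_left hq)).2 e he) hres
  · exact h

/-- Translation by a fixed vector: a coprime element fixes everything. -/
theorem Sec.val_eq_zero_of_translation {U U₀ : Subgroup G} {V : Type*} [AddCommGroup V] (S : Sec U U₀ V) {f v d : G}
    (hf : f ∈ Sec.nn U U₀) (hc : (orderOf f).Coprime p) (hv : v ∈ U) (hd : d ∈ U) {k : ℕ} (hdp : d ^ p ^ k ∈ U₀)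
    (hfix : S.ind f (S.val d) = S.val d) (htr : S.ind f (S.val v) = S.val d + S.val v) : d ∈ U₀ := by
  have key : ∀ n : ℕ, S.ind (f ^ n) (S.val v) = n • S.val d + S.val v := by
    intro n
    induction n with
    | zero => rw [pow_zero, S.ind_one, zero_smul, zero_add]
    | succ n ih =>
      have hn : S.ind f (n • S.val d) = n • S.val d := by
        have h := map_nsmul (AddMonoidHom.mk' (S.ind f) (S.ind_add hf)) n (S.val d)
        simpa [hfix] using h
      rw [pow_succ', S.ind_mul hf (pow_mem hf n), ih, S.ind_add hf, hn, htr, add_smul, one_smul, add_assoc]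
  have h1 := key (orderOf f)
  rw [pow_orderOf_eq_one, S.ind_one, right_eq_add] at h1
  have hval : ∀ m : ℕ, m • S.val d = S.val (d ^ m) := by
    intro m
    induction m with
    | zero => rw [zero_smul, pow_zero, S.val_one]
    | succ m ih => rw [pow_succ, S.val_mul (pow_mem hd m) hd, add_smul, one_smul, ih]
  rw [hval, S.val_eq_zero (pow_mem hd _)] at h1
  obtain ⟨a, b, hab⟩ : ∃ a b : ℤ, (orderOf f : ℤ) * a + (p ^ k : ℕ) * b = 1 :=
    ⟨_, _, (Nat.gcd_eq_gcd_ab _ _).symm.trans (by rw [Nat.Coprime.pow_right k hc]; rfl)⟩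
  rw [← zpow_one d, ← hab, zpow_add, zpow_mul, zpow_natCast, zpow_mul, zpow_natCast]
  exact mul_mem (zpow_mem h1 _) (zpow_mem hdp _)

end CfsgLib.BBlock
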