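import Cfsg.Agent.Lib.Baumann.ExcTools

/-!
An exceptional block does not act on the natural module of a non-exceptional subnormal block.
-/

set_option autoImplicit false
set_option linter.unusedSectionVars false

universe u

namespace CfsgLib.BBlock

open Cfsg
open scoped commutatorElement

variable {G : Type u} [Group G] [Finite G] {p : ℕ} [Fact p.Prime] {E D : Subgroup G}

local notation:max "Qc" E:max => pCoreOf p E
local notation:max "Wc" E:max => omegaOneCenter p (pCoreOf p E)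
local notation:max "Zc" E:max => omegaOneCenter p (pCoreOf p E) ⊓ Subgroup.centralizer (E : Set G)
local notation "Xc" => omegaOneCenter p (pCore p G)

theorem two_ne_zero_of_three {F : Type} [Field F] [CharP F p] (hp : p = 3) : (2 : F) ≠ 0 := fun h => by
  have h1 := (CharP.cast_eq_zero_iff F p 2).1 (by exact_mod_cast h)
  rw [hp] at h1
  omega

theorem sl2_card_eq {F F' : Type} [Field F] [Fintype F] [Field F'] [Fintype F']
    (h : Fintype.card F = Fintype.card F') :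
    Nat.card (Matrix.SpecialLinearGroup (Fin 2) F) = Nat.card (Matrix.SpecialLinearGroup (Fin 2) F') := by
  classical
  let e : F ≃+* F' := FiniteField.ringEquivOfCardEq h
  refine Nat.card_eq_of_bijective (Matrix.SpecialLinearGroup.map e.toRingHom) ⟨fun a b hab => ?_, fun b => ?_⟩
  · apply Subtype.ext; ext i j
    exact e.injective (by simpa using congrFun (congrFun (congrArg Subtype.val hab) i) j)
  · refine ⟨Matrix.SpecialLinearGroup.map e.symm.toRingHom b, ?_⟩
    apply Subtype.ext; ext i j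
    simp

/-- An additive map commuting with `SL₂` of finite `p`-power order is the identity. -/
theorem eq_id_of_commutes {F : Type} [Field F] [CharP F p] (Y : (Fin 2 → F) →+ (Fin 2 → F)) {k : ℕ}
    (hk : ∀ v, Y^[p ^ k] v = v)
    (hY : ∀ (A : Matrix.SpecialLinearGroup (Fin 2) F) (v : Fin 2 → F),
      Y ((A : Matrix (Fin 2) (Fin 2) F).mulVec v) = (A : Matrix (Fin 2) (Fin 2) F).mulVec (Y v))
    (v : Fin 2 → F) : Y v = v := by
  set c := Y ![1, 0] 0 with hc
  have h10 : Y ![1, 0] = ![c, 0] := by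
    have h := hY (upp 1) ![1, 0]
    rw [upp_mulVec, upp_mulVec] at h
    have h0 := congrFun h 0
    simp at h0
    ext i; fin_cases i
    · simp [hc]
    · simpa using h0
  have ha : ∀ a : F, Y ![a, 0] = ![a * c, 0] := by
    intro a
    by_cases ha : a = 0
    · rw [ha, zero_mul, show (![0, 0] : Fin 2 → F) = 0 by ext i; fin_cases i <;> simp, map_zero]
    · have h := hY (dia a ha) ![1, 0]
      rw [h10] at h
      rw [show (![a, 0] : Fin 2 → F) = (dia a ha : Matrix (Fin 2) (Fin 2) F).mulVec ![1, 0] by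
        ext i; fin_cases i <;> simp [dia, Matrix.mulVec, dotProduct, Fin.sum_univ_two], h]
      ext i; fin_cases i <;> simp [dia, Matrix.mulVec, dotProduct, Fin.sum_univ_two]
  have hb : ∀ b : F, Y ![0, b] = ![0, b * c] := by
    intro b
    have h := hY weyl ![-b, 0]
    rw [ha] at h
    rw [show (![0, b] : Fin 2 → F) = (weyl : Matrix.SpecialLinearGroup (Fin 2) F).1.mulVec ![-b, 0] by
      ext i; fin_cases i <;> simp [weyl, Matrix.mulVec, dotProduct, Fin.sum_univ_two], h]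
    ext i; fin_cases i <;> simp [weyl, Matrix.mulVec, dotProduct, Fin.sum_univ_two]
  have hv : ∀ v, Y v = c • v := fun v => by
    rw [show v = ![v 0, 0] + ![0, v 1] by ext i; fin_cases i <;> simp, map_add, ha, hb]
    ext i; fin_cases i <;> simp [mul_comm]
  have hit : ∀ (j : ℕ) (v : Fin 2 → F), Y^[j] v = c ^ j • v := by
    intro j
    induction j with
    | zero => intro v; simp
    | succ j ih => intro v; rw [Function.iterate_succ_apply', ih, hv, smul_smul, pow_succ']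
  have h1 : c ^ p ^ k = 1 := by
    have h := congrFun ((hit (p ^ k) ![1, 0]).symm.trans (hk _)) 0
    simpa using h
  have hc1 : c = 1 := by
    have h2 : (c - 1) ^ p ^ k = 0 := by rw [sub_pow_char_pow (p := p), one_pow, h1, sub_self]
    exact sub_eq_zero.1 ((pow_eq_zero_iff (pow_ne_zero _ (Fact.out : p.Prime).ne_zero)).1 h2)
  rw [hv, hc1, one_smul]

theorem not_exc_over (hG : Subgroup.centralizer (pCore p G : Set G) ≤ pCore p G) (hE : IsSubBlock p E)
    (hQW : (Qc E) = Wc E) (T : Sylow p G) (hD : IsBaumannBlock p (T : Subgroup G) D) (hX : Exc p D)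
    (hquad : ∀ b : G, b ∈ baumannSubgroupOf p (T : Subgroup G) →
      b ∉ Subgroup.centralizer ((Wc D : Subgroup G) : Set G) →
      ¬ ⁅⁅Qc D, Subgroup.zpowers b⁆, Subgroup.zpowers b⁆ ≤ Zc D)
    (hV : ⁅Wc D, D⁆ ≤ Wc E) {f v c : G} (hf : f ∈ D) (hfc : (orderOf f).Coprime p) (hvW : v ∈ Wc E)
    (hc : c = f * v * f⁻¹ * v⁻¹) (hcW : c ∈ Wc D) (hcZ : c ∉ Zc E) : False := by
  classical
  obtain ⟨T0, hT0⟩ := hE.1
  have hp3 := hX.three
  have hDN : D ≤ Subgroup.normalizer (E : Set G) :=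
    (le_baumannSubgroup hD).trans (baumannSubgroup_fixes hG hE)
  rcases exists_model hT0 with ⟨FE, hFE, hFEt, nE, hcardE, ⟨ME⟩, -⟩ | ⟨hp2, -⟩
  swap
  · omega
  rcases exists_model hD with ⟨F, hF, hFt, n, hcard, ⟨M⟩, hshape⟩ | ⟨hp2, -⟩
  swap
  · omega
  rcases hshape with h | ⟨-, ⟨M'⟩⟩
  · exact hX.ne fun a ha b hb => q_centralizes_wc ha (h ▸ hb)
  haveI := SLModel.charP (F := F) hcard
  haveI := SLModel.charP (F := FE) hcardE
  have h2F := two_ne_zero_of_three (F := F) hp3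
  have h2E := two_ne_zero_of_three (F := FE) hp3
  have hsq : ∀ {K : Subgroup G} {x : G}, x ^ p = 1 → x * x ∈ K → x ∈ K := fun {K x} hx h => by
    obtain ⟨j, hj⟩ := exists_pow_eq_self_of_coprime (x := x) (n := 2)
      (Nat.Coprime.coprime_dvd_right (orderOf_dvd_of_pow_eq_one hx) (by rw [hp3]; norm_num))
    rw [← hj, pow_two]; exact pow_mem h j
  have hQp : IsPGroup p ↥(Qc D) := (CfsgLib.isPGroup_pCore p).map _
  have hQEp : IsPGroup p ↥(Qc E) := (CfsgLib.isPGroup_pCore p).map _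
  have hresD : ¬ ∀ e ∈ D, ∀ x ∈ ⁅Wc D, D⁆, e * x = x * e := block_moves_commutator T hD
  have hWsup := wc_eq_sup hD hresD
  have hcommD : ∀ a ∈ Wc D, ∀ b ∈ Wc D, a * b = b * a := fun a ha b hb =>
    omegaOneCenter_comm p _ hb (omegaOneCenter_le p _ ha)
  have hVD : ⁅Wc D, D⁆ ≤ Wc D := le_sup_left.trans hWsup.le
  have hWdec : ∀ w ∈ Wc D, ∃ a ∈ ⁅Wc D, D⁆, ∃ z0 ∈ Zc D, w = a * z0 := by
    intro w hw
    rw [← hWsup, ← SetLike.mem_coe, Subgroup.coe_mul_of_left_le_normalizer_right ⁅Wc D, D⁆ (Zc D)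
      (fun x hx => mem_normalizer_of_map_le fun z hz => by
        rw [hcommD x (hVD hx) z hz.1, mul_inv_cancel_right]; exact hz)] at hw
    obtain ⟨a, ha, z0, hz0, rfl⟩ := hw
    exact ⟨a, ha, z0, hz0, rfl⟩
  -- the involution of `D`
  obtain ⟨z, hzD, hzz, hzρ⟩ := exists_involution hp3 M hcard hQp
  have hzinv : z⁻¹ = z := inv_eq_of_mul_eq_one_right hzz
  have hzc : (orderOf z).Coprime p := Nat.Coprime.coprime_dvd_left
    (orderOf_dvd_of_pow_eq_one (n := 2) (by rw [pow_two, hzz])) (by rw [hp3]; norm_num)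
  have hzN := hDN hzD
  have hzQ : z ∉ Qc D := fun h => by
    have h1 := hzρ ![1, 0]
    rw [M.ind_eq ⟨z, hzD⟩, (M.ker_eq ⟨z, hzD⟩).2 h, Matrix.SpecialLinearGroup.coe_one, Matrix.one_mulVec] at h1
    have h3 := congrFun h1 0
    simp at h3
    exact h2F (by linear_combination h3)
  have hzρ' : ∀ u ∈ Qc D, z * u * z⁻¹ * u ∈ Wc D := fun u hu => by
    refine M'.toSec.inv_of_ind (M'.le_nn hzD) (fun w => ?_) hu
    rcases sl2_sq_one h2F (A := M'.ρ ⟨z, hzD⟩)
      (by rw [← map_mul, show (⟨z, hzD⟩ : ↥D) * ⟨z, hzD⟩ = 1 from Subtype.ext hzz, map_one]) with h | h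
    · exact absurd ((M'.ker_eq _).1 h) hzQ
    · rw [M'.ind_eq ⟨z, hzD⟩, h, Matrix.neg_mulVec, Matrix.one_mulVec]
  -- it inverts the natural module of `E`
  have hzmove : z ∉ sectTriv p E := by
    intro hzt
    obtain ⟨a, ha, z0, hz0, hcaz⟩ := hWdec c hcW
    have haZ : a ∈ Zc E ⊔ Zc D := by
      refine hsq (omegaOneCenter_pow p _ (hVD ha)) ?_
      have h1 := hzt.2 a (hV ha)
      have h2 := M.toSec.inv_of_ind (M.le_nn hzD) hzρ (hVD ha)
      rw [show a * a = (z * a * z⁻¹ * a⁻¹)⁻¹ * (z * a * z⁻¹ * a) by group]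
      exact mul_mem (inv_mem (Subgroup.mem_sup_left h1)) (Subgroup.mem_sup_right h2)
    have hfix : f * c * f⁻¹ * c⁻¹ ∈ Zc E := by
      have hfN := (normalizer_le_nn (p := p) E (hDN hf)).2
      have hsub : Zc E ⊔ Zc D ≤ Subgroup.normalizer ((Zc E : Subgroup G) : Set G) :=
        sup_le Subgroup.le_normalizer fun x hx => (normalizer_le_nn (p := p) E
          (hDN (Subgroup.map_subtype_le _ (omegaOneCenter_le p _ hx.1)))).2
      have hcZZ : c ∈ Zc E ⊔ Zc D := hcaz ▸ mul_mem haZ (Subgroup.mem_sup_right hz0)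
      rw [← SetLike.mem_coe, Subgroup.coe_mul_of_right_le_normalizer_left (Zc E) (Zc D)
        (le_sup_right.trans hsub)] at hcZZ
      obtain ⟨x, hx, y, hy, rfl⟩ := hcZZ
      rw [show f * (x * y) * f⁻¹ * (x * y)⁻¹ = (f * x * f⁻¹) * ((f * y * f⁻¹) * y⁻¹) * x⁻¹ by group,
        Subgroup.mem_centralizer_iff.1 hy.2 f hf, mul_inv_cancel_right, mul_inv_cancel, mul_one]
      exact mul_mem (conj_mem_normalizer hfN hx) (inv_mem hx)
    have hnn := normalizer_le_nn (p := p) E (hDN hf)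
    have hcE : c ∈ Wc E := hc ▸ mul_mem (conj_mem_normalizer hnn.1 hvW) (inv_mem hvW)
    refine hcZ (ME.toSec.val_eq_zero_of_translation hnn hfc hvW hcE (k := 1)
      (by rw [pow_one, omegaOneCenter_pow p _ hcE]; exact one_mem _) ?_ ?_)
    · rw [ME.toSec.ind_val hnn hcE, ME.toSec.val_eq_iff (conj_mem_normalizer hnn.1 hcE) hcE]
      exact hfix
    · rw [ME.toSec.ind_val hnn hvW, ← ME.toSec.val_mul hcE hvW, hc]
      congr 1
      group
  obtain ⟨e, he, hes⟩ := mem_ecSub.1 (block_le_ecSub hG hE T hD hzD)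
  have hzW : ∀ w, ME.toSec.ind z w = -w := by
    have heq : ∀ w, ME.toSec.ind z w = (ME.ρ ⟨e, he⟩ : Matrix (Fin 2) (Fin 2) FE).mulVec w := fun w => by
      have h1 := (ME.toSec.ind_eq_self_iff (normalizer_le_nn E hes.1)).2 hes.2 w
      conv_lhs => rw [show z = e * (e⁻¹ * z) by group]
      rw [ME.toSec.ind_mul (ME.le_nn he) (normalizer_le_nn E hes.1), h1, ME.ind_eq ⟨e, he⟩]
    have h2 : ME.ρ ⟨e, he⟩ * ME.ρ ⟨e, he⟩ = 1 := sl2_faithful fun w => by
      rw [Matrix.SpecialLinearGroup.coe_mul, ← Matrix.mulVec_mulVec, ← heq, ← heq,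
        ← ME.toSec.ind_mul (normalizer_le_nn E hzN) (normalizer_le_nn E hzN), hzz, ME.toSec.ind_one]
    rcases sl2_sq_one h2E h2 with h | h
    · exact absurd ⟨hzN, (ME.toSec.ind_eq_self_iff (normalizer_le_nn E hzN)).1 fun w => by
        rw [heq, h, Matrix.SpecialLinearGroup.coe_one, Matrix.one_mulVec]⟩ hzmove
    · exact fun w => by rw [heq, h, Matrix.neg_mulVec, Matrix.one_mulVec]
  -- the involution of `E`
  obtain ⟨y, hyE, hyy, hyρ⟩ := exists_involution hp3 ME hcardE hQEp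
  have hyinv : y⁻¹ = y := inv_eq_of_mul_eq_one_right hyy
  have hyc : (orderOf y).Coprime p := Nat.Coprime.coprime_dvd_left
    (orderOf_dvd_of_pow_eq_one (n := 2) (by rw [pow_two, hyy])) (by rw [hp3]; norm_num)
  have hyN := Subgroup.le_normalizer hyE
  have hZbot : (Zc E) = ⊥ := by
    refine zc_eq_bot hE hQW hyE hyc (fun x hx => ?_) fun w hw hfix => ?_
    · refine (ME.ker_eq ⁅(⟨x, hx⟩ : ↥E), ⟨y, hyE⟩⁆).1 ?_
      rw [map_commutatorElement, commutatorElement_eq_one_iff_mul_comm]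
      refine sl2_faithful_eq fun w => ?_
      rw [Matrix.SpecialLinearGroup.coe_mul, Matrix.SpecialLinearGroup.coe_mul, ← Matrix.mulVec_mulVec,
        ← Matrix.mulVec_mulVec, ← ME.ind_eq ⟨y, hyE⟩, ← ME.ind_eq ⟨y, hyE⟩, hyρ, hyρ, Matrix.mulVec_neg]
    · have h := ME.toSec.inv_of_ind (ME.le_nn hyE) hyρ hw
      rw [hfix] at h
      exact hsq (omegaOneCenter_pow p _ hw) h
  have hinvE : ∀ {x : G}, x ∈ Sec.nn (Wc E) (Zc E) → (∀ w, ME.toSec.ind x w = -w) →
      ∀ w ∈ Wc E, x * w * x⁻¹ = w⁻¹ := fun {x} hx h w hw => by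
    have h1 := ME.toSec.inv_of_ind hx h hw
    rw [hZbot, Subgroup.mem_bot] at h1
    exact eq_inv_of_mul_eq_one_left h1
  have hzw := hinvE (normalizer_le_nn E hzN) hzW
  have hyw := hinvE (ME.le_nn hyE) hyρ
  have hWX : (Wc E) ≤ Xc := by
    have h := wc_eq_sup hT0 (block_moves_commutator T0 hT0)
    rw [hZbot, sup_bot_eq] at h
    exact h.ge.trans (hE.wE_le hG)
  have hWR : (Wc E) ≤ pCore p G := hWX.trans (omegaOneCenter_le p _)
  have hWD : (Wc E) ≤ Wc D := fun w hw => by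
    refine xcore_mem_wc hD (hWX hw) (hsq (omegaOneCenter_pow p _ hw) ?_)
    have h1 := (commutator_core_mem T hD hzD (hWR (inv_mem hw))).1
    rwa [show z * w⁻¹ * z⁻¹ = w by rw [← conj_inv, hzw w hw, inv_inv], inv_inv] at h1
  have hWZ : ∀ w ∈ Wc E, w ∈ Zc D → w = 1 := fun w hw hwz => by
    have h1 := hzw w hw
    rw [Subgroup.mem_centralizer_iff.1 hwz.2 z hzD, mul_inv_cancel_right] at h1
    exact Subgroup.mem_bot.1 (hsq (K := ⊥) (omegaOneCenter_pow p _ hw)
      (Subgroup.mem_bot.2 (eq_inv_iff_mul_eq_one.1 h1)))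
  have hQWD : ∀ q ∈ Qc D, ∀ w ∈ Wc E, q * w = w * q := fun q hq w hw => q_centralizes_wc hq (hWD hw)
  rcases core_part_cases hX with hM | hM
  · -- `z` would lie in `E`
    have hzR : ∀ r ∈ pCore p G, z * r * z⁻¹ * r⁻¹ ∈ Wc E := by
      intro r hr
      obtain ⟨a, ha, z0, hz0, haz⟩ := hWdec _ (hM.le (Subgroup.mem_sup_left (commutator_core_mem T hD hzD hr)))
      have haE := hV ha
      have hzz0 : z * z0 * z⁻¹ = z0 := by
        rw [Subgroup.mem_centralizer_iff.1 hz0.2 z hzD, mul_inv_cancel_right]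
      have hcom : a⁻¹ * z0 = z0 * a⁻¹ := hcommD _ (inv_mem (hVD ha)) _ hz0.1
      have h3 : r = z0 * z0 * r := by
        calc r = z * (z * r * z⁻¹) * z⁻¹ := by
              rw [show z * (z * r * z⁻¹) * z⁻¹ = (z * z) * r * (z * z)⁻¹ by group, hzz]; group
          _ = z * (a * z0 * r) * z⁻¹ := by rw [← haz]; group
          _ = (z * a * z⁻¹) * (z * z0 * z⁻¹) * ((z * r * z⁻¹ * r⁻¹) * r) := by group
          _ = a⁻¹ * z0 * (a * z0) * r := by rw [hzw a haE, hzz0, haz]; group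
          _ = z0 * z0 * r := by rw [hcom]; group
      rw [haz, Subgroup.mem_bot.1 (hsq (K := ⊥) (omegaOneCenter_pow p _ hz0.1)
        (Subgroup.mem_bot.2 (right_eq_mul.1 h3))), mul_one]
      exact haE
    obtain ⟨d, hd⟩ : ∃ d, d = y * z := ⟨_, rfl⟩
    have hdN : d ∈ Subgroup.normalizer (E : Set G) := hd ▸ mul_mem hyN hzN
    have hdW : ∀ w ∈ Wc E, d * w * d⁻¹ = w := fun w hw => by
      rw [hd, show y * z * w * (y * z)⁻¹ = y * (z * w * z⁻¹) * y⁻¹ by group, hzw w hw, ← conj_inv, hyw w hw, inv_inv]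
    let L : Subgroup G :=
      { carrier := {g | g ∈ Subgroup.normalizer (E : Set G) ∧ ∀ r ∈ pCore p G, g * r * g⁻¹ * r⁻¹ ∈ Wc E}
        one_mem' := ⟨one_mem _, fun r _ => by simp⟩
        mul_mem' := fun {a b} ha hb => ⟨mul_mem ha.1 hb.1, fun r hr => by
          rw [show a * b * r * (a * b)⁻¹ * r⁻¹ = (a * (b * r * b⁻¹) * a⁻¹ * (b * r * b⁻¹)⁻¹) * (b * r * b⁻¹ * r⁻¹) by group]
          exact mul_mem (ha.2 _ ((inferInstance : (pCore p G).Normal).conj_mem _ hr b)) (hb.2 r hr)⟩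
        inv_mem' := fun {a} ha => ⟨inv_mem ha.1, fun r hr => by
          rw [show a⁻¹ * r * a⁻¹⁻¹ * r⁻¹ = (a * (a⁻¹ * r * a⁻¹⁻¹) * a⁻¹ * (a⁻¹ * r * a⁻¹⁻¹)⁻¹)⁻¹ by group]
          exact inv_mem (ha.2 _ ((inferInstance : (pCore p G).Normal).conj_mem _ hr a⁻¹))⟩ }
    have hdL : d ∈ L := hd ▸ mul_mem ⟨hyN, fun r hr => by
      rw [← hQW, show y * r * y⁻¹ * r⁻¹ = (r * y * r⁻¹ * y⁻¹)⁻¹ by group]
      exact inv_mem (hE.conj_mem hr hyE)⟩ ⟨hzN, hzR⟩
    obtain ⟨k, hk⟩ := exists_coprime_power (p := p) d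
    have hdk : d ^ p ^ k = 1 := eq_one_of_centralizes hG hk fun r hr => by
      have h1 := (pow_mem hdL (p ^ k)).2 r hr
      have hfix : d ^ p ^ k * (d ^ p ^ k * r * (d ^ p ^ k)⁻¹ * r⁻¹) * (d ^ p ^ k)⁻¹ =
          d ^ p ^ k * r * (d ^ p ^ k)⁻¹ * r⁻¹ := by
        have hle : Subgroup.zpowers d ≤ Subgroup.centralizer ((Wc E : Subgroup G) : Set G) :=
          Subgroup.zpowers_le.2 (Subgroup.mem_centralizer_iff.2 fun w hw => (mul_inv_eq_iff_eq_mul.1 (hdW w hw)).symm)
        rw [← Subgroup.mem_centralizer_iff.1 (hle (pow_mem (Subgroup.mem_zpowers d) _)) _ h1, mul_inv_cancel_right]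
      exact mul_inv_eq_one.1 (eq_one_of_core_translation (r := r) hk hfix (hWR h1) (by group))
    have hzE : z ∈ E := by
      refine mem_of_mem_sup_coprime (K := Subgroup.zpowers d) (p := p) ?_ (Subgroup.zpowers_le.2 hdN) ?_ hzc
      · obtain ⟨i, -, hi⟩ := (Nat.dvd_prime_pow (Fact.out : p.Prime)).1 (orderOf_dvd_of_pow_eq_one hdk)
        exact IsPGroup.of_card (n := i) (by rw [Nat.card_zpowers, hi])
      · rw [show z = y * d by rw [hd, ← mul_assoc, hyy, one_mul]]
        exact mul_mem (Subgroup.mem_sup_left hyE) (Subgroup.mem_sup_right (Subgroup.mem_zpowers d))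
    by_cases hall : ∀ x ∈ E, x ∈ Qc D → x ∈ Wc D
    · refine hX.ne fun a ha b hb => q_centralizes_wc ha ?_
      have hbD : b ∈ D := Subgroup.map_subtype_le _ hb
      have hbE : z * b * z⁻¹ * b⁻¹ ∈ Wc D := by
        refine hall _ ?_ (mul_mem (conj_mem_normalizer (normalizer_le_normalizer_pCoreOf D
          (Subgroup.le_normalizer hzD)) hb) (inv_mem hb))
        rw [show z * b * z⁻¹ * b⁻¹ = z * (b * z⁻¹ * b⁻¹) by group]
        exact mul_mem hzE (conj_mem_normalizer (hDN hbD) (inv_mem hzE))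
      refine mem_of_sq_mem (E := D) hp3 hb ?_
      have h2 := hzρ' b hb
      have h4 : (z * b * z⁻¹ * b⁻¹)⁻¹ * (z * b * z⁻¹ * b) ∈ Wc D := mul_mem (inv_mem hbE) h2
      rw [show b * b = (z * b * z⁻¹ * b⁻¹)⁻¹ * (z * b * z⁻¹ * b) by group]
      exact h4
    · push Not at hall
      obtain ⟨x, hxE, hxQ, hxW⟩ := hall
      refine hxW (hWD (hQW ▸ hE.nat.faithful x hxE fun w hw => ?_))
      rw [hQWD x hxQ w hw, mul_inv_cancel_right, mul_inv_cancel]; exact one_mem _
  · -- `D` would act quadratically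
    have hZR : (Zc D) ≤ pCore p G := by
      rw [← hX.der]
      have hle : (Qc D) ≤ ((Wc D).map (QuotientGroup.mk' (pCore p G))).comap (QuotientGroup.mk' (pCore p G)) := by
        refine hM.ge.trans (sup_le (fun x hx => ?_) (Subgroup.le_comap_map _ _))
        rw [Subgroup.mem_comap, show QuotientGroup.mk' (pCore p G) x = 1 from (QuotientGroup.eq_one_iff x).2 hx.2]
        exact one_mem _
      rw [Subgroup.commutator_le]
      intro a ha b hb
      rw [← QuotientGroup.eq_one_iff]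
      show QuotientGroup.mk' (pCore p G) ⁅a, b⁆ = 1
      obtain ⟨a', ha', haq⟩ := hle ha
      obtain ⟨b', hb', hbq⟩ := hle hb
      rw [map_commutatorElement, ← haq, ← hbq, ← map_commutatorElement,
        commutatorElement_eq_one_iff_mul_comm.2 (hcommD a' ha' b' hb'), map_one]
    have hQR : (Qc D) ≤ pCore p G := by
      rw [← hM, ← hWsup]
      exact sup_le inf_le_right (sup_le (hV.trans hWR) hZR)
    set U0 := (Qc D) ⊓ Subgroup.centralizer {y} with hU0
    have hdec : ∀ u ∈ Qc D, ∃ a ∈ Wc E, ∃ u0 ∈ U0, u = a * u0 := by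
      intro u hu
      have hw : y * u * y⁻¹ * u⁻¹ ∈ Wc E := by
        rw [← hQW, show y * u * y⁻¹ * u⁻¹ = (u * y * u⁻¹ * y⁻¹)⁻¹ by group]
        exact inv_mem (hE.conj_mem (hQR hu) hyE)
      obtain ⟨w, hwdef⟩ : ∃ w, w = y * u * y⁻¹ * u⁻¹ := ⟨_, rfl⟩
      rw [← hwdef] at hw
      refine ⟨(w * w)⁻¹, inv_mem (mul_mem hw hw), w * w * u, ⟨mul_mem (mul_mem
        (omegaOneCenter_le p _ (hWD hw)) (omegaOneCenter_le p _ (hWD hw))) hu, ?_⟩, by group⟩
      refine Subgroup.mem_centralizer_singleton_iff.2 ?_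
      have hw3 : w * w * w = 1 := by
        have := omegaOneCenter_pow p _ hw
        rwa [hp3, pow_succ, pow_two] at this
      have h1 : y * (w * w * u) * y⁻¹ = w * w * u := by
        calc y * (w * w * u) * y⁻¹ = (y * w * y⁻¹) * (y * w * y⁻¹) * ((y * u * y⁻¹ * u⁻¹) * u) := by group
          _ = w⁻¹ * u := by rw [hyw w hw, ← hwdef]; group
          _ = w * w * u := by rw [inv_eq_of_mul_eq_one_left hw3]
      exact (mul_inv_eq_iff_eq_mul.1 h1).symm
    have hUWE : ∀ x ∈ U0, x ∈ Wc E → x = 1 := fun x hx hxW => by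
      have h1 := hyw x hxW
      rw [← Subgroup.mem_centralizer_singleton_iff.1 hx.2, mul_inv_cancel_right] at h1
      exact Subgroup.mem_bot.1 (hsq (K := ⊥) (omegaOneCenter_pow p _ hxW)
        (Subgroup.mem_bot.2 (eq_inv_iff_mul_eq_one.1 h1)))
    have hcomU : ∀ a ∈ Qc D, ∀ b ∈ Qc D, ⁅a, b⁆ ∈ U0 := by
      intro a ha b hb
      obtain ⟨x, hx, a0, ha0, rfl⟩ := hdec a ha
      obtain ⟨x', hx', b0, hb0, rfl⟩ := hdec b hb
      have e1 : a0 * x' = x' * a0 := hQWD a0 ha0.1 x' hx'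
      have e2 : b0 * a0⁻¹ * b0⁻¹ * x⁻¹ = x⁻¹ * (b0 * a0⁻¹ * b0⁻¹) :=
        hQWD _ (mul_mem (mul_mem hb0.1 (inv_mem ha0.1)) (inv_mem hb0.1)) _ (inv_mem hx)
      have e3 : (a0 * b0 * a0⁻¹ * b0⁻¹) * x' = x' * (a0 * b0 * a0⁻¹ * b0⁻¹) :=
        hQWD _ (mul_mem (mul_mem (mul_mem ha0.1 hb0.1) (inv_mem ha0.1)) (inv_mem hb0.1)) x' hx'
      have hxc : ∀ q ∈ Qc D, q * x = x * q := fun q hq => hQWD q hq x hx
      have hkey : ⁅x * a0, x' * b0⁆ = a0 * b0 * a0⁻¹ * b0⁻¹ := by
        calc ⁅x * a0, x' * b0⁆ = x * (a0 * x') * (b0 * a0⁻¹) * x⁻¹ * b0⁻¹ * x'⁻¹ := by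
              rw [commutatorElement_def]; group
          _ = x * (x' * a0 * (b0 * a0⁻¹)) * x⁻¹ * (b0⁻¹ * x'⁻¹) := by rw [e1]; group
          _ = (x' * a0 * (b0 * a0⁻¹)) * (x * x⁻¹) * (b0⁻¹ * x'⁻¹) := by
              rw [← hxc _ (mul_mem (mul_mem (omegaOneCenter_le p _ (hWD hx')) ha0.1)
                (mul_mem hb0.1 (inv_mem ha0.1)))]
              group
          _ = x' * (a0 * b0 * a0⁻¹ * b0⁻¹) * x'⁻¹ := by group
          _ = _ := by rw [← e3, mul_inv_cancel_right]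
      rw [hkey]
      exact mul_mem (mul_mem (mul_mem ha0 hb0) (inv_mem ha0)) (inv_mem hb0)
    have hZU : (Zc D) ≤ U0 := by
      rw [← hX.der, Subgroup.commutator_le]
      exact hcomU
    have hUinv : ∀ g ∈ Subgroup.normalizer (E : Set G), g ∈ Subgroup.normalizer ((Qc D : Subgroup G) : Set G) →
        g ∈ Subgroup.normalizer (U0 : Set G) := by
      intro g hgE hgQ
      have hy' : g * y * g⁻¹ ∈ E := conj_mem_normalizer hgE hyE
      have hg' := conj_mem_normalizer hgE hyE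
      have hwy : g * y * g⁻¹ * y⁻¹ ∈ Wc E := by
        refine hQW ▸ hE.nat.faithful _ (mul_mem hy' (inv_mem hyE)) fun w hw => ?_
        have hw1 : g⁻¹ * w⁻¹ * g ∈ Wc E := by
          simpa using conj_mem_normalizer (inv_mem (normalizer_le_nn (p := p) E hgE).1) (inv_mem hw)
        have h1 : (g * y * g⁻¹ * y⁻¹) * w * (g * y * g⁻¹ * y⁻¹)⁻¹ = w := by
          calc (g * y * g⁻¹ * y⁻¹) * w * (g * y * g⁻¹ * y⁻¹)⁻¹
              = g * (y * (g⁻¹ * (y⁻¹ * w * y⁻¹⁻¹) * g) * y⁻¹) * g⁻¹ := by group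
            _ = w := by
              rw [show y⁻¹ * w * y⁻¹⁻¹ = w⁻¹ by rw [hyinv]; exact hyw w hw, hyw _ hw1]
              group
        rw [h1, mul_inv_cancel]; exact one_mem _
      refine mem_normalizer_of_map_le fun x hx => ?_
      have hgx := conj_mem_normalizer hgQ hx.1
      refine ⟨hgx, Subgroup.mem_centralizer_singleton_iff.2 ?_⟩
      have h1 : (g * x * g⁻¹) * (g * y * g⁻¹) = (g * y * g⁻¹) * (g * x * g⁻¹) := by
        calc (g * x * g⁻¹) * (g * y * g⁻¹) = g * (x * y) * g⁻¹ := by group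
          _ = g * (y * x) * g⁻¹ := by rw [Subgroup.mem_centralizer_singleton_iff.1 hx.2]
          _ = _ := by group
      have h2 := hQWD _ hgx _ hwy
      calc g * x * g⁻¹ * y = g * x * g⁻¹ * ((g * y * g⁻¹ * y⁻¹)⁻¹ * (g * y * g⁻¹)) := by group
        _ = ((g * y * g⁻¹ * y⁻¹)⁻¹ * (g * x * g⁻¹)) * (g * y * g⁻¹) := by
            rw [← mul_assoc, (show Commute (g * x * g⁻¹) _ from h2).inv_right.eq]
        _ = (g * y * g⁻¹ * y⁻¹)⁻¹ * ((g * y * g⁻¹) * (g * x * g⁻¹)) := by rw [mul_assoc, h1]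
        _ = _ := by group
    have hUW : ∀ x ∈ U0, x ∈ Wc D → x ∈ Zc D := by
      intro x hx hxW
      obtain ⟨a, ha, z0, hz0, rfl⟩ := hWdec x hxW
      have : a ∈ U0 := by simpa using mul_mem hx (inv_mem (hZU hz0))
      rw [hUWE a this (hV ha), one_mul]; exact hz0
    -- the element of `B(T)`
    obtain ⟨b, hb, hbW⟩ : ∃ b ∈ baumannSubgroupOf p (T : Subgroup G),
        b ∉ Subgroup.centralizer ((Wc D : Subgroup G) : Set G) := by
      by_contra hcon
      simp only [not_exists, not_and, not_not] at hcon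
      have hDC : D ≤ Subgroup.centralizer ((Wc D : Subgroup G) : Set G) := by
        refine hD.2.1.ge.trans ?_
        rw [Subgroup.commutator_le]
        intro g hg b hb
        rw [commutatorElement_def]
        exact mul_mem (conj_mem_normalizer (normalizer_le_normalizer_centralizer _ (M.le_nn hg).1) (hcon b hb))
          (inv_mem (hcon b hb))
      obtain ⟨g, hg, w, hw, hne⟩ := (natSection_of_block hD).moves
      refine hne ?_
      rw [← Subgroup.mem_centralizer_iff.1 (hDC hg) w hw, mul_inv_cancel_right, mul_inv_cancel]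
      exact one_mem _
    have hbE := baumann_fixes hG hE T hb
    have hbD : b ∈ Subgroup.normalizer (D : Set G) := le_normalizer_of_commutator_eq hD.2.1 hb
    have hbn := normalizer_le_nn (p := p) D hbD
    have hbt := normalizer_le_nn_top (p := p) D hbD
    obtain ⟨kb, hkb⟩ := T.isPGroup' ⟨b, hb.1⟩
    have hbk : b ^ p ^ kb = 1 := congrArg Subtype.val hkb
    have hquad2 : (∀ w ∈ Wc D, b * (b * w * b⁻¹ * w⁻¹) * b⁻¹ * (b * w * b⁻¹ * w⁻¹)⁻¹ ∈ Zc D) ∧
        ∀ u ∈ Qc D, b * (b * u * b⁻¹ * u⁻¹) * b⁻¹ * (b * u * b⁻¹ * u⁻¹)⁻¹ ∈ Wc D := by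
      by_cases h4 : 4 ≤ Fintype.card F
      swap
      · have hF3 : Fintype.card F = 3 := (small_quotient (p := p) hcard (by omega)).2.2.trans hp3
        exact ⟨fun w hw => M.toSec.quad_nine hp3 hF3 hbn hbk hw, fun u hu => M'.toSec.quad_nine hp3 hF3 hbt hbk hu⟩
      have hcardW : Nat.card ↥(Wc E) = Nat.card (Fin 2 → FE) := by
        rw [ME.toSec.card_eq, hZbot, Subgroup.card_bot, mul_one]
      have hFF : Fintype.card FE = Fintype.card F := by
        have h1 : Nat.card ↥(Wc D) = Nat.card ↥(Wc E) * Nat.card ↥(Zc D) := by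
          refine ((Nat.card_prod _ _).symm.trans (Nat.card_eq_of_bijective
            (fun q : ↥(Wc E) × ↥(Zc D) => (⟨q.1 * q.2, mul_mem (hWD q.1.2) q.2.2.1⟩ : ↥(Wc D))) ⟨?_, ?_⟩)).symm
          · rintro ⟨a, z0⟩ ⟨a', z0'⟩ h
            have h' : (a : G) * z0 = a' * z0' := congrArg Subtype.val h
            have h2 : (a' : G)⁻¹ * a = z0' * (z0 : G)⁻¹ := by
              rw [eq_mul_inv_iff_mul_eq, mul_assoc, h', inv_mul_cancel_left]
            have h3 := hWZ _ (mul_mem (inv_mem a'.2) a.2) (h2 ▸ mul_mem z0'.2 (inv_mem z0.2))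
            rw [inv_mul_eq_one] at h3
            rw [h3] at h'
            exact Prod.ext (Subtype.ext h3.symm) (Subtype.ext (mul_left_cancel h'))
          · rintro ⟨w, hw⟩
            obtain ⟨a, ha, z0, hz0, rfl⟩ := hWdec w hw
            exact ⟨(⟨a, hV ha⟩, ⟨z0, hz0⟩), rfl⟩
        rw [M.toSec.card_eq, hcardW] at h1
        have h2 := Nat.eq_of_mul_eq_mul_right Nat.card_pos h1
        rw [Nat.card_fun, Nat.card_fun, Nat.card_eq_fintype_card (α := F), Nat.card_eq_fintype_card (α := FE),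
          Nat.card_eq_fintype_card, Fintype.card_fin] at h2
        exact (Nat.pow_left_injective two_ne_zero h2).symm
      have h4E : 4 ≤ Fintype.card FE := hFF ▸ h4
      obtain ⟨e0, he0, hs0⟩ := mem_ecSub.1 (baumann_le_ecSub_big hG hE ME h4E hcardE T hb)
      have hex : ∀ g : ↥D, ∃ x : ↥E, ∀ w, ME.toSec.ind (g : G) w = (ME.ρ x : Matrix (Fin 2) (Fin 2) FE).mulVec w := by
        intro g
        obtain ⟨x, hx, hxs⟩ := mem_ecSub.1 (block_le_ecSub hG hE T hD g.2)
        refine ⟨⟨x, hx⟩, fun w => ?_⟩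
        have h1 := (ME.toSec.ind_eq_self_iff (normalizer_le_nn E hxs.1)).2 hxs.2 w
        conv_lhs => rw [show (g : G) = x * (x⁻¹ * g) by group]
        rw [ME.toSec.ind_mul (ME.le_nn hx) (normalizer_le_nn E hxs.1), h1, ME.ind_eq ⟨x, hx⟩]
      choose x hx using hex
      let Φ : ↥D →* Matrix.SpecialLinearGroup (Fin 2) FE :=
        { toFun := fun g => ME.ρ (x g)
          map_one' := sl2_faithful fun w => by rw [← hx, OneMemClass.coe_one, ME.toSec.ind_one]
          map_mul' := fun g g' => sl2_faithful_eq fun w => by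
            rw [← hx, Subgroup.coe_mul, ME.toSec.ind_mul (normalizer_le_nn E (hDN g.2)) (normalizer_le_nn E (hDN g'.2)),
              hx, hx, Matrix.SpecialLinearGroup.coe_mul, Matrix.mulVec_mulVec] }
      have hker : ∀ g : ↥D, Φ g = 1 → (g : G) ∈ Qc D := by
        intro g hg
        refine (natSection_of_block hD).faithful g g.2 fun w hw => ?_
        obtain ⟨a, ha, z0, hz0, rfl⟩ := hWdec w hw
        have h1 := (ME.toSec.ind_eq_self_iff (normalizer_le_nn E (hDN g.2))).1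
          (fun w => by rw [hx, show ME.ρ (x g) = 1 from hg, Matrix.SpecialLinearGroup.coe_one, Matrix.one_mulVec])
          a (hV ha)
        rw [hZbot, Subgroup.mem_bot, mul_inv_eq_one] at h1
        rw [show (g : G) * (a * z0) * (g : G)⁻¹ = ((g : G) * a * (g : G)⁻¹) * ((g : G) * z0 * (g : G)⁻¹) by group,
          h1, Subgroup.mem_centralizer_iff.1 hz0.2 g g.2, mul_inv_cancel_right, mul_inv_cancel]
        exact one_mem _
      have hΦtop : Φ.range = ⊤ := by
        refine Subgroup.eq_top_of_le_card _ ?_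
        have hkk : Φ.ker ≤ M.ρ.ker := fun g hg => MonoidHom.mem_ker.2 ((M.ker_eq g).2 (hker g hg))
        have hρc : Nat.card M.ρ.range = Nat.card (Matrix.SpecialLinearGroup (Fin 2) F) := by
          rw [M.range_eq, StSL.perfect_SL2 h4, Subgroup.card_top]
        rw [sl2_card_eq hFF, ← hρc, ← Subgroup.index_ker, ← Subgroup.index_ker]
        exact Nat.le_of_dvd (Nat.pos_of_ne_zero Subgroup.index_ne_zero_of_finite) (Subgroup.index_dvd_of_le hkk)
      obtain ⟨f0, hf0⟩ : ME.ρ ⟨e0, he0⟩ ∈ Φ.range := hΦtop ▸ Subgroup.mem_top _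
      have hf0E := normalizer_le_nn (p := p) E (hDN f0.2)
      obtain ⟨t, htdef⟩ : ∃ t, t = (f0 : G)⁻¹ * b := ⟨_, rfl⟩
      have htW : ∀ a ∈ Wc E, t * a * t⁻¹ = a := by
        intro a ha
        have h1 := ME.toSec.ind_comp_eq (normalizer_le_nn E hbE) hf0E (fun w => by
          have h2 := (ME.toSec.ind_eq_self_iff (normalizer_le_nn E hs0.1)).2 hs0.2 w
          conv_lhs => rw [show b = e0 * (e0⁻¹ * b) by group]
          rw [ME.toSec.ind_mul (ME.le_nn he0) (normalizer_le_nn E hs0.1), h2, ME.ind_eq ⟨e0, he0⟩, ← hf0, hx]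
          rfl) a ha
        rw [hZbot, Subgroup.mem_bot, mul_inv_eq_one, ← htdef] at h1
        exact h1
      have htN : t ∈ Subgroup.normalizer (D : Set G) := htdef ▸ mul_mem (inv_mem (Subgroup.le_normalizer f0.2)) hbD
      have htn := normalizer_le_nn (p := p) D htN
      have htt := normalizer_le_nn_top (p := p) D htN
      have htWD : ∀ v, M.toSec.ind t v = v := (M.toSec.ind_eq_self_iff htn).2 fun w hw => by
        obtain ⟨a, ha, z0, hz0, rfl⟩ := hWdec w hw
        rw [show t * (a * z0) * t⁻¹ * (a * z0)⁻¹ = (t * a * t⁻¹) * ((t * z0 * t⁻¹) * z0⁻¹) * a⁻¹ by group,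
          htW a (hV ha), hcommD a (hVD ha) _ (mul_mem (conj_mem_normalizer htn.2 hz0) (inv_mem hz0)).1,
          mul_inv_cancel_right]
        exact mul_mem (conj_mem_normalizer htn.2 hz0) (inv_mem hz0)
      have hbf : b = f0 * t := by rw [htdef]; group
      have hbW' : ∀ v, M.toSec.ind b v = (M.ρ f0 : Matrix (Fin 2) (Fin 2) F).mulVec v := fun v => by
        rw [hbf, M.toSec.ind_mul (M.le_nn f0.2) htn, htWD, M.ind_eq]
      have hρk : M.ρ f0 ^ p ^ kb = 1 := sl2_faithful fun v => by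
        have hit : ∀ (j : ℕ) (v : Fin 2 → F), M.toSec.ind (b ^ j) v =
            ((M.ρ f0 ^ j : Matrix.SpecialLinearGroup (Fin 2) F) : Matrix (Fin 2) (Fin 2) F).mulVec v := by
          intro j
          induction j with
          | zero => intro v; rw [pow_zero, M.toSec.ind_one, pow_zero, Matrix.SpecialLinearGroup.coe_one, Matrix.one_mulVec]
          | succ j ih =>
            intro v
            rw [pow_succ', M.toSec.ind_mul hbn (pow_mem hbn j), hbW', ih, pow_succ', Matrix.SpecialLinearGroup.coe_mul,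
              Matrix.mulVec_mulVec]
        rw [← hit, hbk, M.toSec.ind_one]
      have hρ'k : M'.ρ f0 ^ p ^ kb = 1 := by
        rw [← map_pow, M'.ker_eq]
        exact (M.ker_eq _).1 (by rw [map_pow, hρk])
      let Y : (Fin 2 → F) →+ (Fin 2 → F) := AddMonoidHom.mk' (M'.toSec.ind t) (M'.toSec.ind_add htt)
      have hYc : ∀ (A : Matrix.SpecialLinearGroup (Fin 2) F) (v : Fin 2 → F),
          Y ((A : Matrix (Fin 2) (Fin 2) F).mulVec v) = (A : Matrix (Fin 2) (Fin 2) F).mulVec (Y v) := by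
        intro A v
        obtain ⟨g, rfl⟩ := M'.range_top h4 A
        have hg' : t * (g : G) * t⁻¹ ∈ D := conj_mem_normalizer htN g.2
        have hq : M.ρ ⟨_, hg'⟩ = M.ρ g := sl2_faithful_eq fun v => by
          rw [← M.ind_eq, ← M.ind_eq]
          show M.toSec.ind (t * (g : G) * t⁻¹) v = _
          have h1 : M.toSec.ind t⁻¹ v = v := by
            have := M.toSec.ind_inv_apply htn v
            rwa [htWD] at this
          rw [M.toSec.ind_mul (mul_mem htn (M.le_nn g.2)) (inv_mem htn), h1,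
            M.toSec.ind_mul htn (M.le_nn g.2), htWD]
        have hq' : M'.ρ ⟨_, hg'⟩ = M'.ρ g := by
          have h1 : M.ρ (⟨_, hg'⟩ * g⁻¹) = 1 := by rw [map_mul, map_inv, hq, mul_inv_cancel]
          have h2 := (M'.ker_eq _).2 ((M.ker_eq _).1 h1)
          rwa [map_mul, map_inv, mul_inv_eq_one] at h2
        show M'.toSec.ind t _ = _
        rw [← M'.ind_eq, ← M'.toSec.ind_mul htt (M'.le_nn g.2), show t * (g : G) = t * g * t⁻¹ * t by group,
          M'.toSec.ind_mul (M'.le_nn hg') htt, M'.ind_eq ⟨_, hg'⟩, hq']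
        rfl
      have hbY : ∀ v, M'.toSec.ind b v = (M'.ρ f0 : Matrix (Fin 2) (Fin 2) F).mulVec (Y v) := fun v => by
        rw [hbf, M'.toSec.ind_mul (M'.le_nn f0.2) htt, M'.ind_eq]; rfl
      have hYid : ∀ v, Y v = v := by
        refine eq_id_of_commutes Y (k := kb) (fun v => ?_) hYc
        have hit : ∀ (j : ℕ) (v : Fin 2 → F), M'.toSec.ind (b ^ j) v =
            ((M'.ρ f0 ^ j : Matrix.SpecialLinearGroup (Fin 2) F) : Matrix (Fin 2) (Fin 2) F).mulVec (Y^[j] v) := by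
          intro j
          induction j with
          | zero => intro v; rw [pow_zero, M'.toSec.ind_one, pow_zero, Matrix.SpecialLinearGroup.coe_one, Matrix.one_mulVec]; rfl
          | succ j ih =>
            intro v
            rw [pow_succ', M'.toSec.ind_mul hbt (pow_mem hbt j), hbY, ih, hYc, Matrix.mulVec_mulVec, pow_succ',
              Matrix.SpecialLinearGroup.coe_mul, Function.iterate_succ_apply']
        have h := hit (p ^ kb) v
        rwa [hbk, M'.toSec.ind_one, hρ'k, Matrix.SpecialLinearGroup.coe_one, Matrix.one_mulVec, eq_comm] at h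
      refine ⟨fun w hw => M.toSec.quad_of_ind hbn (fun v => ?_) hw, fun u hu => M'.toSec.quad_of_ind hbt (fun v => ?_) hu⟩
      · rw [hbW', hbW']; exact sl2_quadratic hρk v
      · rw [hbY, hbY, hYid, hYid]; exact sl2_quadratic hρ'k v
    obtain ⟨hW2, hQ2⟩ := hquad2
    have hQWm : ∀ a ∈ Qc D, ∀ w ∈ Wc D, a * w * a⁻¹ = w := fun a ha w hw => by
      rw [q_centralizes_wc ha hw, mul_inv_cancel_right]
    let K : Subgroup G :=
      { carrier := {q | q ∈ Qc D ∧ b * q * b⁻¹ * q⁻¹ ∈ Zc D}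
        one_mem' := ⟨one_mem _, by simp⟩
        mul_mem' := fun {a c} ha hc => ⟨mul_mem ha.1 hc.1, by
          rw [show b * (a * c) * b⁻¹ * (a * c)⁻¹ =
            (b * a * b⁻¹ * a⁻¹) * (a * (b * c * b⁻¹ * c⁻¹) * a⁻¹) by group, hQWm a ha.1 _ hc.2.1]
          exact mul_mem ha.2 hc.2⟩
        inv_mem' := fun {a} ha => ⟨inv_mem ha.1, by
          rw [show b * a⁻¹ * b⁻¹ * a⁻¹⁻¹ = a⁻¹ * (b * a * b⁻¹ * a⁻¹)⁻¹ * a⁻¹⁻¹ by group,
            hQWm _ (inv_mem ha.1) _ (inv_mem ha.2.1)]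
          exact inv_mem ha.2⟩ }
    have hbK : b ∈ Subgroup.normalizer (K : Set G) := mem_normalizer_of_map_le fun q hq =>
      ⟨conj_mem_normalizer hbt.1 hq.1, by
        rw [show b * (b * q * b⁻¹) * b⁻¹ * (b * q * b⁻¹)⁻¹ = b * (b * q * b⁻¹ * q⁻¹) * b⁻¹ by group]
        exact conj_mem_normalizer hbn.2 hq.2⟩
    refine hquad b hb hbW ((Subgroup.commutator_mono (zpowers_commutator_le hbt.1 hbK fun u hu => ?_) le_rfl).trans
      (zpowers_commutator_le hbK hbn.2 fun q hq => hq.2))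
    obtain ⟨a, ha, u0, hu0, rfl⟩ := hdec u hu
    have hda : b * a * b⁻¹ * a⁻¹ ∈ Wc D := mul_mem (conj_mem_normalizer hbn.1 (hWD ha)) (inv_mem (hWD ha))
    have hbU := hUinv b hbE hbt.1
    have hdu : b * u0 * b⁻¹ * u0⁻¹ ∈ U0 := mul_mem (conj_mem_normalizer hbU hu0) (inv_mem hu0)
    rw [show b * (a * u0) * b⁻¹ * (a * u0)⁻¹ = (b * a * b⁻¹ * a⁻¹) * (a * (b * u0 * b⁻¹ * u0⁻¹) * a⁻¹) by group,
      ← hQWD _ hdu.1 a ha, mul_inv_cancel_right]
    refine mul_mem (show _ ∈ K from ⟨omegaOneCenter_le p _ hda, hW2 a (hWD ha)⟩) (show _ ∈ K from ⟨hdu.1, ?_⟩)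
    exact hUW _ (mul_mem (conj_mem_normalizer hbU hdu) (inv_mem hdu)) (hQ2 u0 hu0.1)

end CfsgLib.BBlock
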