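import Cfsg.Agent.Lib.Baumann.EcFull
import Cfsg.Agent.Lib.Baumann.BlockNine

/-!
Tools for the exceptional block: involutions, quadratic maps, commutators moved into blocks.
-/

set_option autoImplicit false
set_option linter.unusedSectionVars false

universe u

namespace CfsgLib.BBlock

open Cfsg
open scoped commutatorElement

section Matrix

variable {F : Type} [Field F]

theorem sl2_sq_one (h2 : (2 : F) ≠ 0) {A : Matrix.SpecialLinearGroup (Fin 2) F} (h : A * A = 1) :
    A = 1 ∨ (A : Matrix (Fin 2) (Fin 2) F) = -1 := by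
  have hA : (A : Matrix (Fin 2) (Fin 2) F) = Matrix.adjugate (A : Matrix (Fin 2) (Fin 2) F) := by
    conv_lhs => rw [eq_inv_of_mul_eq_one_left h]
    rfl
  rw [Matrix.adjugate_fin_two] at hA
  have e00 := congrFun (congrFun hA 0) 0
  have e01 := congrFun (congrFun hA 0) 1
  have e10 := congrFun (congrFun hA 1) 0
  simp at e00 e01 e10
  have hb : (A : Matrix (Fin 2) (Fin 2) F) 0 1 = 0 := by
    have : (2 : F) * (A : Matrix (Fin 2) (Fin 2) F) 0 1 = 0 := by linear_combination e01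
    exact (mul_eq_zero.1 this).resolve_left h2
  have hc : (A : Matrix (Fin 2) (Fin 2) F) 1 0 = 0 := by
    have : (2 : F) * (A : Matrix (Fin 2) (Fin 2) F) 1 0 = 0 := by linear_combination e10
    exact (mul_eq_zero.1 this).resolve_left h2
  have hdet : (A : Matrix (Fin 2) (Fin 2) F).det = 1 := A.2
  rw [Matrix.det_fin_two, hb, hc, ← e00, mul_zero, sub_zero] at hdet
  rcases mul_self_eq_one_iff.1 hdet with h0 | h0
  · exact Or.inl (Subtype.ext (by ext i j; fin_cases i <;> fin_cases j <;> simp [h0, hb, hc, ← e00]))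
  · exact Or.inr (by ext i j; fin_cases i <;> fin_cases j <;> simp [h0, hb, hc, ← e00])

/-- An element of `p`-power order is quadratic. -/
theorem sl2_quadratic {p : ℕ} [Fact p.Prime] [CharP F p] {A : Matrix.SpecialLinearGroup (Fin 2) F} {k : ℕ}
    (h : A ^ p ^ k = 1) (v : Fin 2 → F) :
    (A : Matrix (Fin 2) (Fin 2) F).mulVec ((A : Matrix (Fin 2) (Fin 2) F).mulVec v - v) =
      (A : Matrix (Fin 2) (Fin 2) F).mulVec v - v := by
  set B : Matrix (Fin 2) (Fin 2) F := (A : Matrix (Fin 2) (Fin 2) F) - 1 with hB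
  have h1 : B ^ p ^ k = 0 := by
    rw [hB, sub_pow_char_pow_of_commute (p := p) k (Commute.one_right _), one_pow, ← Matrix.SpecialLinearGroup.coe_pow, h,
      Matrix.SpecialLinearGroup.coe_one, sub_self]
  have hd : B.det = 0 := by
    have h2 := congrArg Matrix.det h1
    rw [Matrix.det_pow, Matrix.det_zero] at h2
    exact (pow_eq_zero_iff (pow_ne_zero _ (Fact.out : p.Prime).ne_zero)).1 h2
  have hdet : (A : Matrix (Fin 2) (Fin 2) F).det = 1 := A.2
  rw [Matrix.det_fin_two] at hdet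
  rw [hB, Matrix.det_fin_two] at hd
  simp at hd
  ext i
  fin_cases i <;> simp [Matrix.mulVec, dotProduct, Fin.sum_univ_two]
  · linear_combination (-(v 0)) * hdet + ((A : Matrix (Fin 2) (Fin 2) F) 0 0 * (v 0) + (A : Matrix (Fin 2) (Fin 2) F) 0 1 * (v 1)) * (hdet - hd) + 0 * hd
  · linear_combination (-(v 1)) * hdet + ((A : Matrix (Fin 2) (Fin 2) F) 1 0 * (v 0) + (A : Matrix (Fin 2) (Fin 2) F) 1 1 * (v 1)) * (hdet - hd) + 0 * hd

end Matrix

variable {G : Type u} [Group G] [Finite G] {p : ℕ} [Fact p.Prime] {E D K U U₀ : Subgroup G}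

local notation:max "Qc" E:max => pCoreOf p E
local notation:max "Wc" E:max => omegaOneCenter p (pCoreOf p E)
local notation:max "Zc" E:max => omegaOneCenter p (pCoreOf p E) ⊓ Subgroup.centralizer (E : Set G)
local notation "Xc" => omegaOneCenter p (pCore p G)

/-- An involution inverting the section. -/
theorem exists_involution {F : Type} [Field F] [Fintype F] {n : ℕ} (hp : p = 3) (M : SLModel E K U U₀ F)
    (hcard : Fintype.card F = p ^ n) (hK : IsPGroup p K) :
    ∃ z ∈ E, z * z = 1 ∧ ∀ v, M.toSec.ind z v = -v := by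
  classical
  obtain ⟨m, hmC, hm1⟩ : ∃ m ∈ commutator (Matrix.SpecialLinearGroup (Fin 2) F),
      (m : Matrix (Fin 2) (Fin 2) F) = -1 := by
    by_cases h4 : 4 ≤ Fintype.card F
    · refine ⟨⟨-1, by simp [Matrix.det_fin_two]⟩, ?_, rfl⟩
      rw [StSL.perfect_SL2 h4]; exact Subgroup.mem_top _
    · obtain ⟨m, -, hm⟩ := q8Like_of_card (F := F) ((small_quotient (p := p) hcard (by omega)).2.2.trans hp)
      exact ⟨m, m.2, hm⟩
  obtain ⟨e0, he0⟩ : m ∈ M.ρ.range := by rw [M.range_eq]; exact hmC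
  have hm2 : m * m = 1 := Subtype.ext (by rw [Matrix.SpecialLinearGroup.coe_mul, hm1]; simp)
  have h2 : ((e0 * e0 : ↥E) : G) ∈ K := (M.ker_eq _).1 (by rw [map_mul, he0, hm2])
  obtain ⟨k, hk⟩ := hK ⟨_, h2⟩
  obtain ⟨j, hj⟩ := (show Odd (p ^ k) by rw [hp]; exact Odd.pow (by decide))
  have hk' : ((e0 : G) * e0) ^ p ^ k = 1 := congrArg Subtype.val hk
  have hρ : M.ρ (e0 ^ p ^ k) = m := by
    rw [map_pow, he0, hj, pow_add, pow_mul, pow_one, pow_two, hm2, one_pow, one_mul]
  refine ⟨_, (e0 ^ p ^ k).2, ?_, fun v => ?_⟩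
  · rw [SubmonoidClass.coe_pow, ← (Commute.refl (e0 : G)).mul_pow, hk']
  · rw [M.ind_eq, hρ, hm1, Matrix.neg_mulVec, Matrix.one_mulVec]

theorem Sec.inv_of_ind {V : Type*} [AddCommGroup V] (S : Sec U U₀ V) {z : G} (hz : z ∈ Sec.nn U U₀)
    (h : ∀ v, S.ind z v = -v) {u : G} (hu : u ∈ U) : z * u * z⁻¹ * u ∈ U₀ := by
  rw [← S.val_eq_zero (mul_mem (conj_mem_normalizer hz.1 hu) hu), S.val_mul (conj_mem_normalizer hz.1 hu) hu,
    ← S.ind_val hz hu, h, neg_add_cancel]

theorem Sec.quad_of_ind {V : Type*} [AddCommGroup V] (S : Sec U U₀ V) {b : G} (hb : b ∈ Sec.nn U U₀)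
    (h : ∀ v, S.ind b (S.ind b v - v) = S.ind b v - v) {u : G} (hu : u ∈ U) :
    b * (b * u * b⁻¹ * u⁻¹) * b⁻¹ * (b * u * b⁻¹ * u⁻¹)⁻¹ ∈ U₀ := by
  have hbu := conj_mem_normalizer hb.1 hu
  have hd : b * u * b⁻¹ * u⁻¹ ∈ U := mul_mem hbu (inv_mem hu)
  have hv : S.val (b * u * b⁻¹ * u⁻¹) = S.ind b (S.val u) - S.val u := by
    rw [S.val_mul hbu (inv_mem hu), S.val_inv hu, ← S.ind_val hb hu, sub_eq_add_neg]
  refine (S.val_eq_iff (conj_mem_normalizer hb.1 hd) hd).1 ?_
  rw [← S.ind_val hb hd, hv, h]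

/-- In a nine-element section a `3`-element is quadratic. -/
theorem Sec.quad_nine {F : Type} [Field F] [Fintype F] (hp : p = 3) (hF : Fintype.card F = 3) (S : Sec U U₀ (Fin 2 → F))
    {b : G} (hb : b ∈ Sec.nn U U₀) {k : ℕ} (hk : b ^ p ^ k = 1) {u : G} (hu : u ∈ U) :
    b * (b * u * b⁻¹ * u⁻¹) * b⁻¹ * (b * u * b⁻¹ * u⁻¹)⁻¹ ∈ U₀ := by
  let α : ↥(Sec.nn U U₀) →* MulAut (Multiplicative (Fin 2 → F)) :=
    { toFun := fun g =>
        { toFun := fun v => Multiplicative.ofAdd (S.ind (g : G) (Multiplicative.toAdd v))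
          invFun := fun v => Multiplicative.ofAdd (S.ind (g : G)⁻¹ (Multiplicative.toAdd v))
          left_inv := fun v => by simp [S.ind_inv_apply g.2]
          right_inv := fun v => by
            have h := S.ind_inv_apply (inv_mem g.2) (Multiplicative.toAdd v)
            rw [inv_inv] at h
            simp [h]
          map_mul' := fun v w => by rw [toAdd_mul, S.ind_add g.2, ofAdd_add] }
      map_one' := by ext v; simp [S.ind_one]
      map_mul' := fun g h => by ext v; simp [S.ind_mul g.2 h.2] }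
  refine S.quad_of_ind hb (fun v => ?_) hu
  have h9 : Nat.card (Multiplicative (Fin 2 → F)) = 9 := by
    rw [Nat.card_congr Multiplicative.toAdd, Nat.card_fun, Nat.card_eq_fintype_card (α := F), hF,
      Nat.card_eq_fintype_card, Fintype.card_fin]
    norm_num
  have h := quadratic_nine h9 (β := α ⟨b, hb⟩) (k := k) (by
    rw [← map_pow, ← hp, show (⟨b, hb⟩ : ↥(Sec.nn U U₀)) ^ p ^ k = 1 from Subtype.ext hk, map_one])
    (Multiplicative.ofAdd v)
  have h' := congrArg Multiplicative.toAdd (mul_inv_eq_one.1 h)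
  simpa [α, sub_eq_add_neg] using h'

theorem q_centralizes_wc {q w : G} (hq : q ∈ Qc D) (hw : w ∈ Wc D) : q * w = w * q :=
  omegaOneCenter_comm p _ hw hq

theorem exc_of_block {T : Subgroup G} (hD : IsBaumannBlock p T D) : (Qc D) = Wc D ∨
    (Exc p D ∧ ∀ b : G, b ∈ baumannSubgroupOf p T → b ∉ Subgroup.centralizer ((Wc D : Subgroup G) : Set G) →
      ¬ ⁅⁅Qc D, Subgroup.zpowers b⁆, Subgroup.zpowers b⁆ ≤ Zc D) := by
  have hcase := hD.2.2.2.2
  rcases hcase with ⟨F, hF, hFt, n, hcF, hiso, -, hshape⟩ | ⟨-, -, -, -, hQ⟩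
  swap
  · exact Or.inl hQ
  rcases hshape with h | ⟨hp3, ⟨hN', hle', ρ', ψ', hρ', hψ', hker', heq'⟩, hder, -, hEZ, hZc, hquad⟩
  · exact Or.inl h
  refine Or.inr ⟨⟨hp3, ?_, hder, fun hab => ?_⟩, fun b hb hbW => by rw [← hEZ]; exact hquad b hb hbW⟩
  · refine natSection_of_image (fun (r : Matrix.SpecialLinearGroup (Fin 2) F) (v : Fin 2 → F) =>
      (r : Matrix (Fin 2) (Fin 2) F).mulVec v)
      (commutator (Matrix.SpecialLinearGroup (Fin 2) F) : Set _) Set.univ hN' hle' ρ' ψ' (by rw [hρ'])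
      (fun v _ => ?_) (fun _ => trivial) hker' heq' (fun U _ hU => ?_) ?_
      (fun r _ h => sl2_faithful fun v => h v trivial)
      (fun k hk => ⟨Subgroup.map_subtype_le _ hk, fun w hw => ?_⟩) ?_
    · obtain ⟨u, hu⟩ := hψ' (Multiplicative.ofAdd v)
      exact ⟨u, by rw [hu]; rfl⟩
    · rcases sl2_irred U hU with h | h
      · exact Or.inl h
      · exact Or.inr fun v _ => h v
    · obtain ⟨M, hM, h⟩ := sl2_moves (F := F)
      exact ⟨M, hM, _, trivial, h⟩
    · have := Subgroup.commutator_mem_commutator hk hw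
      rw [hder] at this
      exact this.1
    · rw [hρ']; exact card_pCoreOf_mul _ hiso
  · have hbot : ⁅Qc D, Qc D⁆ = ⊥ := by
      rw [eq_bot_iff, Subgroup.commutator_le]
      intro a ha b hb
      rw [Subgroup.mem_bot, commutatorElement_eq_one_iff_mul_comm]
      exact hab a ha b hb
    rw [hder] at hbot
    rw [hEZ, hbot, Subgroup.card_bot] at hZc
    have hn0 : n = 0 := by
      by_contra h
      exact absurd hZc.symm (Nat.one_lt_pow h (by norm_num)).ne'
    rw [hn0, pow_zero] at hcF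
    exact absurd hcF Fintype.one_lt_card.ne'

/-- Commutators with `O_p(G)` lie in the core of the block. -/
theorem commutator_core_mem (T : Sylow p G) (hD : IsBaumannBlock p (T : Subgroup G) D) {f r : G} (hf : f ∈ D)
    (hr : r ∈ pCore p G) : f * r * f⁻¹ * r⁻¹ ∈ (Qc D) ⊓ pCore p G := by
  have h1 : f * r * f⁻¹ * r⁻¹ ∈ pCore p G :=
    mul_mem ((inferInstance : (pCore p G).Normal).conj_mem _ hr f) (inv_mem hr)
  have h2 : f * r * f⁻¹ * r⁻¹ ∈ D := by
    have := conj_mem_normalizer (pCore_le_normalizer_block T hD hr) (inv_mem hf)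
    simpa [mul_assoc] using mul_mem hf this
  exact ⟨inf_pCore_le D ⟨h2, h1⟩, h1⟩

/-- For an exceptional block `(Q ∩ O_p(G)) W` is `W` or `Q`. -/
theorem core_part_cases (hX : Exc p D) :
    ((Qc D) ⊓ pCore p G) ⊔ Wc D = Wc D ∨ ((Qc D) ⊓ pCore p G) ⊔ Wc D = Qc D := by
  refine hX.nat.irred _ le_sup_right (sup_le inf_le_left (omegaOneCenter_le p _)) fun e he u hu => ?_
  have h1 : e ∈ Subgroup.normalizer ((Qc D : Subgroup G) : Set G) :=
    normalizer_le_normalizer_pCoreOf D (Subgroup.le_normalizer he)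
  have h2 : e ∈ Subgroup.normalizer ((pCore p G : Subgroup G) : Set G) :=
    (Subgroup.normalizer_eq_top (pCore p G)).ge (Subgroup.mem_top e)
  have h3 := (normalizer_le_nn (p := p) D (Subgroup.le_normalizer he)).1
  refine conj_mem_normalizer (mem_normalizer_of_map_le fun z hz => ?_ :
    e ∈ Subgroup.normalizer (((Qc D) ⊓ pCore p G ⊔ Wc D : Subgroup G) : Set G)) hu
  have hmem : (MulAut.conj e).toMonoidHom z ∈ ((Qc D) ⊓ pCore p G ⊔ Wc D).map (MulAut.conj e).toMonoidHom :=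
    ⟨z, hz, rfl⟩
  rw [Subgroup.map_sup] at hmem
  refine (show _ ≤ (Qc D) ⊓ pCore p G ⊔ Wc D from sup_le_sup ?_ ?_) hmem
  · rintro _ ⟨q, hq, rfl⟩; exact conj_mem_normalizer (inf_normalizer_le _ _ ⟨h1, h2⟩) hq
  · rintro _ ⟨q, hq, rfl⟩; exact conj_mem_normalizer h3 hq

/-- Elements of `Ω₁Z(O_p(G))` in the core of a block lie in `W`. -/
theorem xcore_mem_wc {T : Subgroup G} (hD : IsBaumannBlock p T D) {c : G} (hX' : c ∈ Xc) (hQ : c ∈ Qc D) :
    c ∈ Wc D := by
  rcases exc_of_block hD with h | ⟨hX, -⟩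
  · rw [← h]; exact hQ
  rcases core_part_cases hX with h | h
  · exact h.le (Subgroup.mem_sup_left ⟨hQ, omegaOneCenter_le p _ hX'⟩)
  · refine mem_wc hX' hQ fun q hq => ?_
    have hle : (Qc D) ⊓ pCore p G ⊔ Wc D ≤ Subgroup.centralizer {c} :=
      sup_le (fun x hx => Subgroup.mem_centralizer_singleton_iff.2 (omegaOneCenter_comm p _ hX' hx.2))
        (fun x hx => Subgroup.mem_centralizer_singleton_iff.2 (q_centralizes_wc hQ hx).symm)
    exact Subgroup.mem_centralizer_singleton_iff.1 (hle (h.ge hq))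

end CfsgLib.BBlock
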