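import Cfsg.Agent.Lib.Baumann.Lift
import Cfsg.Agent.Lib.Baumann.BlockCommute
import Cfsg.Agent.Lib.PLocal.MaxElemReplacement
import Mathlib.GroupTheory.FiniteAbelian.Duality
import Mathlib.Analysis.Complex.Polynomial.Basic

/-!
Elementary abelian subgroups of largest order normalize every subnormal block.
-/

set_option autoImplicit false
set_option linter.unusedSectionVars false

universe u

namespace CfsgLib.BBlock

open Cfsg
open scoped commutatorElement IsMulCommutative

variable {G : Type u} [Group G] [Finite G] {p : ℕ} [Fact p.Prime] {D : Subgroup G}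

local notation:max "Wc" E:max => omegaOneCenter p (pCoreOf p E)
local notation "Xc" => omegaOneCenter p (pCore p G)

theorem succ_lt_two_pow : ∀ k : ℕ, 2 ≤ k → k + 1 < 2 ^ k
  | 0, h => by omega
  | 1, h => by omega
  | 2, _ => by norm_num
  | k + 3, _ => by
    have := succ_lt_two_pow (k + 2) (by omega)
    rw [pow_succ]; omega

theorem exists_fixed_of_pGroup {A K : Subgroup G} (hA : IsPGroup p A) (hK : IsPGroup p K) (hne : K ≠ ⊥)
    (hAK : A ≤ Subgroup.normalizer (K : Set G)) : ∃ c ∈ K, c ≠ 1 ∧ ∀ a ∈ A, a * c * a⁻¹ = c := by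
  classical
  letI : MulAction ↥A ↥K :=
    { smul := fun a k => ⟨(a : G) * k * (a : G)⁻¹, conj_mem_normalizer (hAK a.2) k.2⟩
      mul_smul := fun a b k => Subtype.ext (by
        show ((a * b : ↥A) : G) * k * ((a * b : ↥A) : G)⁻¹ = (a : G) * ((b : G) * k * (b : G)⁻¹) * (a : G)⁻¹
        rw [Subgroup.coe_mul]; group)
      one_smul := fun k => Subtype.ext (by
        show ((1 : ↥A) : G) * k * ((1 : ↥A) : G)⁻¹ = k
        simp) }
  have hdvd : p ∣ Nat.card K := by
    obtain ⟨k, hk⟩ := IsPGroup.iff_card.1 hK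
    rcases Nat.eq_zero_or_pos k with rfl | hk'
    · exact absurd (Subgroup.card_eq_one.1 (by rw [hk, pow_zero])) hne
    · rw [hk]; exact dvd_pow_self p (by omega)
  obtain ⟨c, hc, hc1⟩ := hA.exists_fixed_point_of_prime_dvd_card_of_fixed_point (α := ↥K) hdvd
    (a := (1 : ↥K)) (fun a => Subtype.ext (show (a : G) * ((1 : ↥K) : G) * (a : G)⁻¹ = _ by simp))
  exact ⟨c, c.2, fun h => hc1 (Subtype.ext h.symm), fun a ha => congrArg Subtype.val (hc ⟨a, ha⟩)⟩

/-- Conjugates of elements of a block taken in distinct blocks are independent. -/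
theorem independent_product (hG : Subgroup.centralizer (pCore p G : Set G) ≤ pCore p G) (hD : IsSubBlock p D)
    {ι : Type} [Finite ι] (a : ι → G) (hdist : ∀ i j, i ≠ j → (a j)⁻¹ * a i ∉ Subgroup.normalizer (D : Set G))
    [IsMulCommutative ↥(omegaOneCenter p (pCore p G))] (k : ι → ↥(omegaOneCenter p (pCore p G)))
    (hk : ∀ i, (a i)⁻¹ * (k i : G) * a i ∈ Wc D) [Fintype ι] (hprod : ∏ i, k i = 1) :
    ∀ i, (a i)⁻¹ * (k i : G) * a i ∈ Subgroup.centralizer (D : Set G) := by
  classical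
  intro i
  let Di : ι → Subgroup G := fun j => D.map (MulAut.conj (a j)).toMonoidHom
  have hcomm : ∀ j, j ≠ i → ∀ d ∈ Di i, ∀ e ∈ Di j, d * e = e * d := by
    intro j hj d hd e he
    rcases eq_or_commute hG (hD.conj (a i)) (hD.conj (a j)) with h | h
    · exfalso
      refine hdist i j hj.symm (mem_normalizer_of_map_le fun x hx => ?_)
      obtain ⟨y, hy, hyx⟩ := h.le (show a i * x * (a i)⁻¹ ∈ Di i from ⟨x, hx, rfl⟩)
      have hyx' : a j * y * (a j)⁻¹ = a i * x * (a i)⁻¹ := hyx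
      rw [show (a j)⁻¹ * a i * x * ((a j)⁻¹ * a i)⁻¹ = (a j)⁻¹ * (a i * x * (a i)⁻¹) * a j by group, ← hyx']
      simpa [mul_assoc] using hy
    · exact (commutatorElement_eq_one_iff_mul_comm.1
        (Subgroup.mem_bot.1 (h ▸ Subgroup.commutator_mem_commutator hd he)))
  have hkD : ∀ j, (k j : G) ∈ Di j := fun j =>
    ⟨_, Subgroup.map_subtype_le _ (omegaOneCenter_le p _ (hk j)), by
      show a j * ((a j)⁻¹ * (k j : G) * a j) * (a j)⁻¹ = k j
      group⟩
  have hki : k i = (∏ j ∈ Finset.univ.erase i, k j)⁻¹ := by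
    rw [eq_inv_iff_mul_eq_one, Finset.mul_prod_erase _ _ (Finset.mem_univ i), hprod]
  have hrest : ((∏ j ∈ Finset.univ.erase i, k j : ↥(omegaOneCenter p (pCore p G))) : G) ∈
      Subgroup.centralizer (Di i : Set G) :=
    Finset.prod_induction _ (fun z : ↥(omegaOneCenter p (pCore p G)) => (z : G) ∈ Subgroup.centralizer (Di i : Set G))
      (fun z w hz hw => mul_mem hz hw) (one_mem _) fun j hj =>
        Subgroup.mem_centralizer_iff.2 fun d hd => hcomm j (Finset.ne_of_mem_erase hj) d hd _ (hkD j)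
  have hki' : (k i : G) ∈ Subgroup.centralizer (Di i : Set G) := by rw [hki]; exact inv_mem hrest
  refine Subgroup.mem_centralizer_iff.2 fun d hd => ?_
  have h := Subgroup.mem_centralizer_iff.1 hki' (a i * d * (a i)⁻¹) ⟨d, hd, rfl⟩
  calc d * ((a i)⁻¹ * (k i : G) * a i) = (a i)⁻¹ * ((a i * d * (a i)⁻¹) * (k i : G)) * a i := by group
    _ = (a i)⁻¹ * (k i : G) * a i * d := by rw [h]; group

/-- A group of automorphisms of an elementary abelian `2`-group with a single non-trivial fixed point. -/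
theorem card_le_half {A K : Subgroup G} (hA : IsPGroup 2 A) (hAc : ∀ a ∈ A, ∀ b ∈ A, a * b = b * a)
    (hK : ∀ k ∈ K, k * k = 1) (hKc : ∀ a ∈ K, ∀ b ∈ K, a * b = b * a)
    (hAK : A ≤ Subgroup.normalizer (K : Set G)) {e : G} (he : e ∈ K) (he1 : e ≠ 1)
    (huniq : ∀ c ∈ K, (∀ a ∈ A, a * c * a⁻¹ = c) → c = 1 ∨ c = e) :
    2 * Nat.card A ≤ Nat.card K * Nat.card ↥(A ⊓ Subgroup.centralizer (K : Set G)) := by
  classical
  haveI : Fact (Nat.Prime 2) := ⟨Nat.prime_two⟩
  haveI : IsMulCommutative ↥K := ⟨⟨fun a b => Subtype.ext (hKc a a.2 b b.2)⟩⟩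
  obtain ⟨l, hl⟩ := CommGroup.exists_apply_ne_one_of_hasEnoughRootsOfUnity ↥K ℂ
    (a := ⟨e, he⟩) (fun h => he1 (congrArg Subtype.val h))
  let cj : ↥A →* (↥K ≃* ↥K) :=
    { toFun := fun a =>
        { toFun := fun k => ⟨(a : G) * k * (a : G)⁻¹, conj_mem_normalizer (hAK a.2) k.2⟩
          invFun := fun k => ⟨(a : G)⁻¹ * k * (a : G), by
            simpa using conj_mem_normalizer (inv_mem (hAK a.2)) k.2⟩
          left_inv := fun k => Subtype.ext (by simp [mul_assoc])
          right_inv := fun k => Subtype.ext (by simp [mul_assoc])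
          map_mul' := fun k k' => Subtype.ext (by simp [mul_assoc]) }
      map_one' := MulEquiv.ext fun k => Subtype.ext (by simp)
      map_mul' := fun a b => MulEquiv.ext fun k => Subtype.ext (by simp [mul_assoc]) }
  have hfib : ∀ a b : ↥A, l.comp (cj a).toMonoidHom = l.comp (cj b).toMonoidHom → cj a = cj b := by
    intro a b hab
    let Im : Subgroup G := (MonoidHom.mk' (fun k : ↥K => ((cj a k : ↥K) * (cj b k)⁻¹ : ↥K))
      (fun k k' => by rw [map_mul, map_mul, mul_inv]; exact mul_mul_mul_comm _ _ _ _)).range.map K.subtype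
    have hImK : Im ≤ K := Subgroup.map_subtype_le _
    have hImA : A ≤ Subgroup.normalizer (Im : Set G) := fun c hc => mem_normalizer_of_map_le fun x hx => by
      obtain ⟨_, ⟨k, rfl⟩, rfl⟩ := hx
      refine ⟨_, ⟨cj ⟨c, hc⟩ k, rfl⟩, ?_⟩
      have h1 : cj a (cj ⟨c, hc⟩ k) = cj ⟨c, hc⟩ (cj a k) := by
        rw [← MulAut.mul_apply, ← MulAut.mul_apply, ← map_mul, ← map_mul,
          show a * ⟨c, hc⟩ = ⟨c, hc⟩ * a from Subtype.ext (hAc a a.2 c hc)]
      have h2 : cj b (cj ⟨c, hc⟩ k) = cj ⟨c, hc⟩ (cj b k) := by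
        rw [← MulAut.mul_apply, ← MulAut.mul_apply, ← map_mul, ← map_mul,
          show b * ⟨c, hc⟩ = ⟨c, hc⟩ * b from Subtype.ext (hAc b b.2 c hc)]
      show ((cj a (cj ⟨c, hc⟩ k) * (cj b (cj ⟨c, hc⟩ k))⁻¹ : ↥K) : G) = _
      rw [h1, h2, ← map_inv, ← map_mul]
      rfl
    by_contra hne
    have hIm : Im ≠ ⊥ := fun hb => hne (MulEquiv.ext fun k => mul_inv_eq_one.1 (Subtype.ext (by
      have : ((cj a k * (cj b k)⁻¹ : ↥K) : G) ∈ Im := ⟨_, ⟨k, rfl⟩, rfl⟩
      rw [hb, Subgroup.mem_bot] at this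
      exact this)))
    obtain ⟨c, hc, hc1, hcfix⟩ := exists_fixed_of_pGroup (p := 2) hA
      (fun x => ⟨1, Subtype.ext (by simpa [pow_two] using hK x (hImK x.2))⟩) hIm hImA
    rcases huniq c (hImK hc) hcfix with h | h
    · exact hc1 h
    obtain ⟨z, ⟨k, hk⟩, hz⟩ := hc
    have h3 : l z = 1 := by
      rw [← hk]
      show l (cj a k * (cj b k)⁻¹) = 1
      rw [map_mul, map_inv, mul_inv_eq_one]
      exact DFunLike.congr_fun hab k
    refine hl ?_
    rw [show (⟨e, he⟩ : ↥K) = z from Subtype.ext (h.symm.trans hz.symm)]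
    exact h3
  have hker : (A ⊓ Subgroup.centralizer (K : Set G)).subgroupOf A = cj.ker := by
    ext a
    rw [MonoidHom.mem_ker]
    constructor
    · intro h
      exact MulEquiv.ext fun k => Subtype.ext (mul_inv_eq_iff_eq_mul.2
        (Subgroup.mem_centralizer_iff.1 h.2 k k.2).symm)
    · intro h
      refine ⟨a.2, Subgroup.mem_centralizer_iff.2 fun k hk => ?_⟩
      have h1 := congrArg Subtype.val (DFunLike.congr_fun h ⟨k, hk⟩)
      exact (mul_inv_eq_iff_eq_mul.1 h1).symm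
  have hsplit : Nat.card A = Nat.card cj.range * Nat.card ↥(A ⊓ Subgroup.centralizer (K : Set G)) := by
    rw [cj.ker.card_eq_card_quotient_mul_card_subgroup,
      Nat.card_congr (QuotientGroup.quotientKerEquivRange cj).toEquiv, ← hker,
      Nat.card_congr (Subgroup.subgroupOfEquivOfLe (inf_le_left : A ⊓ Subgroup.centralizer (K : Set G) ≤ A)).toEquiv]
  have hfixe : ∀ a : ↥A, cj a ⟨e, he⟩ = ⟨e, he⟩ := fun a => by
    obtain ⟨c, hc, hc1, hcfix⟩ := exists_fixed_of_pGroup (p := 2) hA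
      (fun x : ↥K => ⟨1, Subtype.ext (by simpa [pow_two] using hK x x.2)⟩)
      (fun hb => he1 (by rw [hb, Subgroup.mem_bot] at he; exact he)) hAK
    rcases huniq c hc hcfix with h | h
    · exact absurd h hc1
    · exact Subtype.ext (by subst h; exact hcfix a a.2)
  let em : Bool × cj.range → (↥K →* ℂˣ) := fun q =>
    if q.1 then l.comp q.2.1.toMonoidHom else l.comp q.2.1.toMonoidHom * l
  have hval : ∀ q : cj.range, (l.comp q.1.toMonoidHom) ⟨e, he⟩ = l ⟨e, he⟩ := fun q => by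
    obtain ⟨a, ha⟩ := q.2
    rw [MonoidHom.comp_apply, ← ha]
    exact congrArg l (hfixe a)
  have hinj : Function.Injective em := by
    rintro ⟨b, q⟩ ⟨b', q'⟩ h
    have hle : l ⟨e, he⟩ * l ⟨e, he⟩ = 1 := by
      rw [← map_mul, show (⟨e, he⟩ : ↥K) * ⟨e, he⟩ = 1 from Subtype.ext (hK e he), map_one]
    have heval := DFunLike.congr_fun h ⟨e, he⟩
    obtain rfl : b = b' := by
      cases b <;> cases b' <;>
        simp only [em, Bool.false_eq_true, if_false, if_true, MonoidHom.mul_apply, hval, hle] at heval ⊢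
      · exact absurd heval.symm hl
      · exact absurd heval hl
    have hq : l.comp q.1.toMonoidHom = l.comp q'.1.toMonoidHom := by
      cases b <;> simp only [em, Bool.false_eq_true, if_false, if_true] at h
      · exact mul_right_cancel h
      · exact h
    obtain ⟨a, ha⟩ := q.2
    obtain ⟨a', ha'⟩ := q'.2
    rw [← ha, ← ha'] at hq
    exact Prod.ext rfl (Subtype.ext (by rw [← ha, ← ha']; exact hfib a a' hq))
  haveI : Finite (↥K →* ℂˣ) := Finite.of_equiv ↥K
    (CommGroup.monoidHom_mulEquiv_of_hasEnoughRootsOfUnity ↥K ℂ).some.symm.toEquiv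
  have h2 := Nat.card_le_card_of_injective em hinj
  rw [Nat.card_prod, CommGroup.card_monoidHom_of_hasEnoughRootsOfUnity, Nat.card_eq_fintype_card (α := Bool),
    Fintype.card_bool] at h2
  rw [hsplit, ← mul_assoc]
  exact Nat.mul_le_mul_right _ h2

/-- The inequality satisfied by an elementary abelian subgroup of largest order. -/
theorem maxElem_le {A M : Subgroup G} (hA : A ∈ maxElementaryAbelianSubgroups p G) (hM : IsElementaryAbelian p M) :
    Nat.card M * Nat.card ↥(A ⊓ Subgroup.centralizer (M : Set G)) ≤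
      Nat.card A * Nat.card ↥(M ⊓ Subgroup.centralizer (A : Set G)) := by
  set B := A ⊓ Subgroup.centralizer (M : Set G) with hB
  have hel : IsElementaryAbelian p (B ⊔ M) := PLocal.isElementaryAbelian_sup
    (PLocal.isElementaryAbelian_of_le hA.1 inf_le_left) hM fun x hx y hy =>
      (Subgroup.mem_centralizer_iff.1 hx.2 y hy).symm
  have hn : M ≤ Subgroup.normalizer (B : Set G) := fun m hm =>
    mem_normalizer_of_map_le fun b hb => by
      rw [Subgroup.mem_centralizer_iff.1 hb.2 m hm, mul_inv_cancel_right]; exact hb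
  have hle : B ⊓ M ≤ M ⊓ Subgroup.centralizer (A : Set G) := fun x hx =>
    ⟨hx.2, Subgroup.mem_centralizer_iff.2 fun a ha =>
      haveI := hA.1.1; Subgroup.mul_comm_of_mem_isMulCommutative A ha hx.1.1⟩
  rw [mul_comm, ZJ.card_mul_eq_of_le_normalizer hn]
  exact Nat.mul_le_mul (hA.2 _ hel) (Subgroup.card_le_of_le hle)

/-- An elementary abelian subgroup of largest order normalizes every subnormal block. -/
theorem maxElem_fixes (hG : Subgroup.centralizer (pCore p G : Set G) ≤ pCore p G) (hD : IsSubBlock p D)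
    {A : Subgroup G} (hA : A ∈ maxElementaryAbelianSubgroups p G) :
    A ≤ Subgroup.normalizer (D : Set G) := by
  classical
  by_contra hcon
  set A0 := A ⊓ Subgroup.normalizer (D : Set G) with hA0
  have hAp : IsPGroup p A := PLocal.isPGroup_elementary hA.1
  haveI := hA.1.1
  have hAc : ∀ a ∈ A, ∀ b ∈ A, a * b = b * a := fun a ha b hb => Subgroup.mul_comm_of_mem_isMulCommutative A ha hb
  obtain ⟨K, hKW, hKX, hKC, hKne, hK2, hKN⟩ := exists_fixable hG hD (P := A0) (hAp.to_le inf_le_left) inf_le_right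
  have hXR : (omegaOneCenter p (pCore p G) : Subgroup G) ≤ pCore p G := omegaOneCenter_le p _
  haveI hXc : IsMulCommutative ↥(omegaOneCenter p (pCore p G)) :=
    ⟨⟨fun a b => Subtype.ext (omegaOneCenter_comm p _ b.2 (hXR a.2))⟩⟩
  have hXel : IsElementaryAbelian p (omegaOneCenter p (pCore p G) : Subgroup G) :=
    ⟨hXc, fun x hx => omegaOneCenter_pow p _ hx⟩
  have hKp : IsPGroup p K := (CfsgLib.isPGroup_pCore p).to_le (hKX.trans hXR)
  set C := K ⊓ Subgroup.centralizer (A0 : Set G) with hC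
  have hfixC : ∀ c ∈ C, ∀ b ∈ A0, b * c * b⁻¹ = c := fun c hc b hb => by
    rw [Subgroup.mem_centralizer_iff.1 hc.2 b hb, mul_inv_cancel_right]
  have hC2 : 2 ≤ Nat.card C := by
    obtain ⟨c, hc, hc1, hcfix⟩ := exists_fixed_of_pGroup (hAp.to_le inf_le_left) hKp hKne hKN
    have hcC : c ∈ C := ⟨hc, Subgroup.mem_centralizer_iff.2 fun a ha => mul_inv_eq_iff_eq_mul.1 (hcfix a ha)⟩
    have hne : Nontrivial ↥C := ⟨⟨⟨c, hcC⟩, 1, fun h => hc1 (congrArg Subtype.val h)⟩⟩
    exact Finite.one_lt_card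
  -- the cosets
  let ι := Fin (A0.subgroupOf A).index
  have e : ι ≃ ↥A ⧸ A0.subgroupOf A := (Finite.equivFinOfCardEq rfl).symm
  let rep : ι → G := fun i => ((e i).out : ↥A)
  have hrepA : ∀ i, rep i ∈ A := fun i => ((e i).out : ↥A).2
  have hdist : ∀ i j, i ≠ j → (rep j)⁻¹ * rep i ∉ Subgroup.normalizer (D : Set G) := by
    intro i j hij h
    refine hij (e.injective ?_)
    rw [← QuotientGroup.out_eq' (e i), ← QuotientGroup.out_eq' (e j)]
    refine ((QuotientGroup.eq).2 ?_).symm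
    exact Subgroup.mem_subgroupOf.2 ⟨A.mul_mem (A.inv_mem (hrepA j)) (hrepA i), h⟩
  have hCX : C ≤ omegaOneCenter p (pCore p G) := inf_le_left.trans hKX
  let term : (ι → ↥C) → ι → ↥(omegaOneCenter p (pCore p G)) := fun f i =>
    ⟨rep i * (f i : G) * (rep i)⁻¹, omega_core_normal.conj_mem _ (hCX (f i).2) _⟩
  haveI : IsMulCommutative ↥C := ⟨⟨fun a b => Subtype.ext
    (omegaOneCenter_comm p _ (hCX b.2) (hXR (hCX a.2)))⟩⟩
  let φ : (ι → ↥C) →* ↥(omegaOneCenter p (pCore p G)) :=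
    { toFun := fun f => ∏ i, term f i
      map_one' := Finset.prod_eq_one fun i _ => Subtype.ext (by simp [term])
      map_mul' := fun f g => by
        rw [← Finset.prod_mul_distrib]
        exact Finset.prod_congr rfl fun i _ => Subtype.ext (by simp [term, mul_assoc]) }
  have hφinj : Function.Injective φ := by
    refine (injective_iff_map_eq_one φ).2 fun f hf => funext fun i => Subtype.ext ?_
    have h := independent_product hG hD rep hdist (term f) (fun j => by
      show (rep j)⁻¹ * (rep j * (f j : G) * (rep j)⁻¹) * rep j ∈ Wc D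
      simpa [mul_assoc] using hKW (f j).2.1) hf i
    have hfi : (f i : G) ∈ K ⊓ Subgroup.centralizer (D : Set G) := ⟨(f i).2.1, by
      simpa [term, mul_assoc] using h⟩
    rw [hKC, Subgroup.mem_bot] at hfi
    exact hfi
  set M := φ.range.map (omegaOneCenter p (pCore p G) : Subgroup G).subtype with hM
  have hMX : M ≤ omegaOneCenter p (pCore p G) := Subgroup.map_subtype_le _
  have hMcard : Nat.card M = Nat.card C ^ Nat.card ι := by
    rw [hM, Subgroup.card_map_of_injective (Subgroup.subtype_injective _),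
      ← Nat.card_congr (MonoidHom.ofInjective hφinj).toEquiv, Nat.card_fun]
  have hsplit : ∀ a (ha : a ∈ A), ∀ j i, e i = (⟨a, ha⟩ : ↥A) • e j → ∀ c ∈ C,
      a * (rep j * c * (rep j)⁻¹) * a⁻¹ = rep i * c * (rep i)⁻¹ := by
    intro a ha j i hij c hc
    have h1 : ((((e i).out)⁻¹ * ((⟨a, ha⟩ : ↥A) * (e j).out) : ↥A)) ∈ A0.subgroupOf A := by
      rw [← QuotientGroup.eq, QuotientGroup.out_eq', hij]
      conv_lhs => rw [← QuotientGroup.out_eq' (e j)]
      rfl
    have h2 : ((rep i)⁻¹ * (a * rep j)) * c * ((rep i)⁻¹ * (a * rep j))⁻¹ = c := hfixC c hc _ h1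
    calc a * (rep j * c * (rep j)⁻¹) * a⁻¹
        = rep i * (((rep i)⁻¹ * (a * rep j)) * c * ((rep i)⁻¹ * (a * rep j))⁻¹) * (rep i)⁻¹ := by group
      _ = _ := by rw [h2]
  have hequiv : ∀ (a : G) (ha : a ∈ A) (f : ι → ↥C),
      a * (φ f : G) * a⁻¹ = (φ (fun i => f (e.symm ((⟨a, ha⟩ : ↥A)⁻¹ • e i))) : G) := by
    intro a ha f
    let cjX : ↥(omegaOneCenter p (pCore p G)) →* ↥(omegaOneCenter p (pCore p G)) :=
      { toFun := fun x => ⟨a * x * a⁻¹, omega_core_normal.conj_mem _ x.2 a⟩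
        map_one' := Subtype.ext (by simp)
        map_mul' := fun x y => Subtype.ext (by simp [mul_assoc]) }
    show ((cjX (∏ i, term f i) : ↥(omegaOneCenter p (pCore p G))) : G) = _
    refine congrArg Subtype.val ?_
    rw [map_prod]
    let σ : ι ≃ ι := (e.trans (MulAction.toPerm (⟨a, ha⟩ : ↥A))).trans e.symm
    refine Fintype.prod_equiv σ _ _ fun j => Subtype.ext ?_
    show a * (rep j * (f j : G) * (rep j)⁻¹) * a⁻¹ = rep (σ j) * (f (e.symm ((⟨a, ha⟩ : ↥A)⁻¹ • e (σ j))) : G) * _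
    have h3 : e.symm ((⟨a, ha⟩ : ↥A)⁻¹ • e (σ j)) = j := by simp [σ]
    rw [h3]
    exact hsplit a ha j (σ j) (by simp [σ]) _ (f j).2
  have hfix : Nat.card ↥(M ⊓ Subgroup.centralizer (A : Set G)) ≤ Nat.card C := by
    have hconst : ∀ x : ↥(M ⊓ Subgroup.centralizer (A : Set G)),
        ∃ c : ↥C, (x : G) = (φ (fun _ => c) : G) := by
      rintro ⟨x, ⟨_, ⟨f, rfl⟩, rfl⟩, hx⟩
      let i0 : ι := e.symm ((1 : ↥A) : ↥A ⧸ A0.subgroupOf A)
      refine ⟨f i0, congrArg (fun g => (φ g : G)) (funext fun i => ?_)⟩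
      set a := ((e i).out : ↥A) with ha
      have h1 := hequiv a a.2 f
      rw [show (a : G) * (φ f : G) * (a : G)⁻¹ = (φ f : G) from
        mul_inv_eq_iff_eq_mul.2 (Subgroup.mem_centralizer_iff.1 hx a a.2)] at h1
      have h2 := congrFun (hφinj (Subtype.ext h1)) i
      rw [h2]
      congr 2
      show a⁻¹ • e i = _
      conv_lhs => rw [← QuotientGroup.out_eq' (e i)]
      show ((a⁻¹ * (e i).out : ↥A) : ↥A ⧸ A0.subgroupOf A) = _
      rw [inv_mul_cancel]
    choose g hg using hconst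
    exact Nat.card_le_card_of_injective g fun x y h => Subtype.ext (by rw [hg x, hg y, h])
  have hA0C : A0 ≤ A ⊓ Subgroup.centralizer (M : Set G) := fun b hb => by
    refine ⟨hb.1, Subgroup.mem_centralizer_iff.2 ?_⟩
    rintro _ ⟨_, ⟨f, rfl⟩, rfl⟩
    have h := hequiv b hb.1 f
    have hid : (fun i => f (e.symm ((⟨b, hb.1⟩ : ↥A)⁻¹ • e i))) = f := funext fun i => by
      congr 1
      rw [Equiv.symm_apply_eq]
      conv_lhs => rw [← QuotientGroup.out_eq' (e i)]
      show (((⟨b, hb.1⟩ : ↥A)⁻¹ * (e i).out : ↥A) : ↥A ⧸ A0.subgroupOf A) = e i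
      conv_rhs => rw [← QuotientGroup.out_eq' (e i)]
      rw [QuotientGroup.eq, mul_inv_rev, inv_inv,
        mul_comm (e i).out⁻¹, mul_assoc, inv_mul_cancel, mul_one]
      exact hb
    rw [hid] at h
    exact (mul_inv_eq_iff_eq_mul.1 h).symm
  have hcardA : Nat.card A = Nat.card ι * Nat.card A0 := by
    rw [(A0.subgroupOf A).card_eq_card_quotient_mul_card_subgroup, Nat.card_congr e,
      Nat.card_congr (Subgroup.subgroupOfEquivOfLe (inf_le_left : A0 ≤ A)).toEquiv]
  have hι : 2 ≤ Nat.card ι := by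
    rw [Nat.card_eq_fintype_card, Fintype.card_fin]
    refine (Nat.two_le_iff _).2 ⟨Subgroup.index_ne_zero_of_finite, fun h => hcon ?_⟩
    exact fun a ha => (Subgroup.subgroupOf_eq_top.1 (Subgroup.index_eq_one.1 h) ha).2
  have hMel : IsElementaryAbelian p M := PLocal.isElementaryAbelian_of_le hXel hMX
  have hineq := maxElem_le hA hMel
  rw [hMcard, hcardA] at hineq
  have h1 : Nat.card C ^ Nat.card ι ≤ Nat.card ι * Nat.card C := by
    refine Nat.le_of_mul_le_mul_right (c := Nat.card A0) ?_ Nat.card_pos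
    calc Nat.card C ^ Nat.card ι * Nat.card A0
        ≤ Nat.card C ^ Nat.card ι * Nat.card ↥(A ⊓ Subgroup.centralizer (M : Set G)) :=
          Nat.mul_le_mul_left _ (Subgroup.card_le_of_le hA0C)
      _ ≤ Nat.card ι * Nat.card A0 * Nat.card ↥(M ⊓ Subgroup.centralizer (A : Set G)) := hineq
      _ ≤ Nat.card ι * Nat.card A0 * Nat.card C := Nat.mul_le_mul_left _ hfix
      _ = Nat.card ι * Nat.card C * Nat.card A0 := by ring
  obtain ⟨hk2, hc2⟩ : Nat.card ι = 2 ∧ Nat.card C = 2 := by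
    obtain ⟨k, hk⟩ : ∃ k, Nat.card ι = k + 1 := ⟨Nat.card ι - 1, by omega⟩
    rw [hk, pow_succ] at h1
    have h3 : Nat.card C ^ k ≤ k + 1 := Nat.le_of_mul_le_mul_right h1 (by omega)
    have h4 : 2 ^ k ≤ k + 1 := le_trans (Nat.pow_le_pow_left hC2 k) h3
    have hk1 : k = 1 := by
      by_contra hne
      have h5 := succ_lt_two_pow k (by omega)
      omega
    rw [hk1, pow_one] at h3
    omega
  have hp2 : p = 2 := by
    obtain ⟨j, hj⟩ := IsPGroup.iff_card.1 (hKp.to_le (inf_le_left : C ≤ K))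
    rw [hc2] at hj
    rcases Nat.eq_zero_or_pos j with rfl | hj'
    · simp at hj
    · exact (Nat.prime_two.eq_one_or_self_of_dvd p (hj ▸ dvd_pow_self p (by omega))).resolve_left
        (Fact.out : p.Prime).one_lt.ne'
  subst hp2
  -- two blocks
  obtain ⟨a, haA, haN⟩ := SetLike.not_le_iff_exists.1 hcon
  have ha2 : a * a = 1 := by simpa [pow_two] using hA.1.2 a haA
  have hainv : a⁻¹ = a := inv_eq_of_mul_eq_one_right ha2
  haveI : IsMulCommutative ↥K := ⟨⟨fun x y => Subtype.ext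
    (omegaOneCenter_comm 2 _ (hKX y.2) (hXR (hKX x.2)))⟩⟩
  let ψ : ↥K × ↥K →* ↥(omegaOneCenter 2 (pCore 2 G)) :=
    { toFun := fun q => ⟨(q.1 : G), hKX q.1.2⟩ * ⟨a * (q.2 : G) * a⁻¹, omega_core_normal.conj_mem _ (hKX q.2.2) a⟩
      map_one' := Subtype.ext (by simp)
      map_mul' := fun q r => by
        rw [mul_mul_mul_comm]
        congr 1
        exact Subtype.ext (by simp [mul_assoc]) }
  have hψinj : Function.Injective ψ := by
    refine (injective_iff_map_eq_one ψ).2 fun q hq => ?_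
    let r2 : Fin 2 → G := ![1, a]
    have hd2 : ∀ i j : Fin 2, i ≠ j → (r2 j)⁻¹ * r2 i ∉ Subgroup.normalizer (D : Set G) := by
      intro i j hij h
      apply haN
      fin_cases i <;> fin_cases j <;> simp [r2] at hij h ⊢
      · exact h
      · exact h
    have h := independent_product hG hD r2 hd2
      (![⟨(q.1 : G), hKX q.1.2⟩, ⟨a * (q.2 : G) * a⁻¹, omega_core_normal.conj_mem _ (hKX q.2.2) a⟩])
      (fun i => by
        fin_cases i
        · simpa [r2] using hKW q.1.2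
        · simpa [r2, mul_assoc] using hKW q.2.2)
      (by rw [Fin.prod_univ_two]; exact hq)
    have e1 : (q.1 : G) ∈ K ⊓ Subgroup.centralizer (D : Set G) := ⟨q.1.2, by simpa [r2] using h 0⟩
    have e2 : (q.2 : G) ∈ K ⊓ Subgroup.centralizer (D : Set G) := ⟨q.2.2, by simpa [r2, mul_assoc] using h 1⟩
    rw [hKC, Subgroup.mem_bot] at e1 e2
    exact Prod.ext (Subtype.ext e1) (Subtype.ext e2)
  set M2 := ψ.range.map (omegaOneCenter 2 (pCore 2 G) : Subgroup G).subtype with hM2
  have hM2card : Nat.card M2 = Nat.card K * Nat.card K := by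
    rw [hM2, Subgroup.card_map_of_injective (Subgroup.subtype_injective _),
      ← Nat.card_congr (MonoidHom.ofInjective hψinj).toEquiv, Nat.card_prod]
  have hconjM : ∀ b ∈ A0, ∀ q : ↥K × ↥K, b * (ψ q : G) * b⁻¹ =
      (b * (q.1 : G) * b⁻¹) * (a * (b * (q.2 : G) * b⁻¹) * a⁻¹) := fun b hb q => by
    show b * ((q.1 : G) * (a * (q.2 : G) * a⁻¹)) * b⁻¹ = _
    calc b * ((q.1 : G) * (a * (q.2 : G) * a⁻¹)) * b⁻¹
        = (b * (q.1 : G) * b⁻¹) * ((b * a) * (q.2 : G) * (b * a)⁻¹) := by group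
      _ = _ := by rw [hAc b hb.1 a haA]; group
  have hfix2 : Nat.card ↥(M2 ⊓ Subgroup.centralizer (A : Set G)) ≤ Nat.card C := by
    have hdiag : ∀ x : ↥(M2 ⊓ Subgroup.centralizer (A : Set G)), ∃ c : ↥C,
        (x : G) = (c : G) * (a * (c : G) * a⁻¹) := by
      rintro ⟨x, ⟨_, ⟨⟨u, v⟩, rfl⟩, rfl⟩, hx⟩
      have hxa : a * (ψ (u, v) : G) * a⁻¹ = (ψ (u, v) : G) :=
        mul_inv_eq_iff_eq_mul.2 (Subgroup.mem_centralizer_iff.1 hx a haA)
      have hswap : ψ (v, u) = ψ (u, v) := Subtype.ext (by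
        refine Eq.trans ?_ hxa
        show (v : G) * (a * (u : G) * a⁻¹) = a * ((u : G) * (a * (v : G) * a⁻¹)) * a⁻¹
        calc (v : G) * (a * (u : G) * a⁻¹) = (a * (u : G) * a⁻¹) * (v : G) :=
              omegaOneCenter_comm 2 _ (omega_core_normal.conj_mem _ (hKX u.2) a) (hXR (hKX v.2))
          _ = _ := by simp only [hainv, ← mul_assoc]; rw [mul_assoc _ a a, ha2, mul_one])
      obtain rfl : v = u := (Prod.ext_iff.1 (hψinj hswap)).1
      refine ⟨⟨v, v.2, Subgroup.mem_centralizer_iff.2 fun b hb => ?_⟩, rfl⟩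
      have hxb : b * (ψ (v, v) : G) * b⁻¹ = (ψ (v, v) : G) :=
        mul_inv_eq_iff_eq_mul.2 (Subgroup.mem_centralizer_iff.1 hx b hb.1)
      have hv' : b * (v : G) * b⁻¹ ∈ K := conj_mem_normalizer (hKN hb) v.2
      have h := hψinj (a₁ := (⟨_, hv'⟩, ⟨_, hv'⟩)) (a₂ := (v, v)) (Subtype.ext ((hconjM b hb (v, v)).symm.trans hxb))
      exact mul_inv_eq_iff_eq_mul.1 (congrArg (fun q => (q.1 : G)) h)
    choose g hg using hdiag
    exact Nat.card_le_card_of_injective g fun x y h => Subtype.ext (by rw [hg x, hg y, h])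
  have hB : A0 ⊓ Subgroup.centralizer (K : Set G) ≤ A ⊓ Subgroup.centralizer (M2 : Set G) := fun b hb => by
    refine ⟨hb.1.1, Subgroup.mem_centralizer_iff.2 ?_⟩
    rintro _ ⟨_, ⟨q, rfl⟩, rfl⟩
    have hbk : ∀ k ∈ K, b * k * b⁻¹ = k := fun k hk => by
      rw [← Subgroup.mem_centralizer_iff.1 hb.2 k hk, mul_inv_cancel_right]
    have h := hconjM b hb.1 q
    rw [hbk _ q.1.2, hbk _ q.2.2] at h
    exact (mul_inv_eq_iff_eq_mul.1 (h.trans rfl)).symm
  have hineq2 := maxElem_le hA (PLocal.isElementaryAbelian_of_le hXel (Subgroup.map_subtype_le _ : M2 ≤ _))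
  obtain ⟨c0, hc0⟩ : ∃ c0 : ↥C, c0 ≠ 1 := by
    haveI : Nontrivial ↥C := Finite.one_lt_card_iff_nontrivial.1 (by omega)
    exact exists_ne 1
  have hhalf := card_le_half (A := A0) (K := K) (hAp.to_le inf_le_left) (fun x hx y hy => hAc x hx.1 y hy.1)
    (fun k hk => by simpa [pow_two] using omegaOneCenter_pow 2 _ (hKX hk))
    (fun x hx y hy => omegaOneCenter_comm 2 _ (hKX hy) (hXR (hKX hx))) hKN c0.2.1
    (fun h => hc0 (Subtype.ext h)) (fun c hc hfix => by
      by_cases h1 : c = 1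
      · exact Or.inl h1
      right
      obtain ⟨z, -, huniq⟩ : ∃! z : ↥C, z ≠ 1 := (Nat.card_eq_two_iff' 1).1 hc2
      exact congrArg Subtype.val ((huniq ⟨c, hc, Subgroup.mem_centralizer_iff.2 fun b hb =>
        mul_inv_eq_iff_eq_mul.1 (hfix b hb)⟩ (fun h => h1 (congrArg Subtype.val h))).trans (huniq c0 hc0).symm))
  rw [hM2card, hcardA, hk2] at hineq2
  have h5 : Nat.card K * Nat.card K * Nat.card ↥(A0 ⊓ Subgroup.centralizer (K : Set G)) ≤
      2 * Nat.card A0 * 2 :=
    (Nat.mul_le_mul_left _ (Subgroup.card_le_of_le hB)).trans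
      (hineq2.trans (Nat.mul_le_mul_left _ (hfix2.trans hc2.le)))
  have hKpos : 0 < Nat.card K := Nat.card_pos
  have hK3 : 3 ≤ Nat.card K := by
    have h' : Nat.card K ≠ 1 := fun h => hKne (Subgroup.card_eq_one.1 h)
    omega
  set c' := Nat.card ↥(A0 ⊓ Subgroup.centralizer (K : Set G)) with hc'
  have hcpos : 0 < c' := Nat.card_pos
  nlinarith [mul_pos hKpos hcpos]

end CfsgLib.BBlock
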