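import Cfsg.Agent.Lib.Baumann.InnerSL

/-!
Blocks induce inner automorphisms on the natural section of a subnormal block.
-/

set_option autoImplicit false
set_option linter.unusedSectionVars false

universe u

namespace CfsgLib.BBlock

open Cfsg
open scoped commutatorElement

variable {G : Type u} [Group G] [Finite G] {p : ℕ} [Fact p.Prime] {E : Subgroup G}

local notation:max "Qc" E:max => pCoreOf p E
local notation:max "Wc" E:max => omegaOneCenter p (pCoreOf p E)
local notation:max "Zc" E:max => omegaOneCenter p (pCoreOf p E) ⊓ Subgroup.centralizer (E : Set G)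

/-- Over the prime field an element of order prime to `p` with determinant one acts like an element of `E`. -/
theorem coprime_commutator_mem_ecSub_small {F : Type} [Field F] [Fintype F] {n : ℕ}
    (M : SLModel E (Qc E) (Wc E) (Zc E) F) (hcard : Fintype.card F = p ^ n) (h3 : Fintype.card F ≤ 3)
    {H K : Subgroup G} (hH : H ≤ Subgroup.normalizer (E : Set G)) (hK : K ≤ Subgroup.normalizer (E : Set G))
    {g : G} (hg : g ∈ ⁅H, K⁆) (hc : (orderOf g).Coprime p) : g ∈ ecSub p E := by
  classical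
  haveI := SLModel.charP (F := F) hcard
  obtain ⟨-, hidx, hFp⟩ := small_quotient (p := p) hcard h3
  have hcast : ∀ a : F, ∃ k : ℕ, a = k := fun a => by
    let e : ZMod p ≃+* F := ZMod.ringEquiv F hFp
    exact ⟨(e.symm a).val, by rw [← map_natCast e, ZMod.natCast_zmod_val, RingEquiv.apply_symm_apply]⟩
  set NE := Subgroup.normalizer (E : Set G) with hNE
  have hnn : ∀ x : ↥NE, (x : G) ∈ Sec.nn (Wc E) (Zc E) := fun x => normalizer_le_nn E x.2
  let mat : ↥NE → Matrix (Fin 2) (Fin 2) F := fun x =>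
    !![M.toSec.ind (x : G) ![1, 0] 0, M.toSec.ind (x : G) ![0, 1] 0;
      M.toSec.ind (x : G) ![1, 0] 1, M.toSec.ind (x : G) ![0, 1] 1]
  have hmat : ∀ (x : ↥NE) (v : Fin 2 → F), M.toSec.ind (x : G) v = (mat x).mulVec v := by
    intro x v
    obtain ⟨a, ha⟩ := hcast (v 0)
    obtain ⟨b, hb⟩ := hcast (v 1)
    have hv : v = a • ![1, 0] + b • ![0, 1] := by
      ext i; fin_cases i <;> simp [ha, hb]
    let h : (Fin 2 → F) →+ (Fin 2 → F) := AddMonoidHom.mk' (M.toSec.ind (x : G)) (M.toSec.ind_add (hnn x))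
    have h2 : M.toSec.ind (x : G) v = a • h ![1, 0] + b • h ![0, 1] := by
      rw [← map_nsmul, ← map_nsmul, ← map_add, ← hv]; rfl
    rw [h2]
    ext i
    fin_cases i <;> simp [mat, h, Matrix.mulVec, dotProduct, Fin.sum_univ_two, ha, hb, mul_comm]
  have hmul : ∀ x y, mat (x * y) = mat x * mat y := fun x y =>
    Matrix.ext_of_mulVec_single fun i => by
      rw [← Matrix.mulVec_mulVec, ← hmat, ← hmat, ← hmat, Subgroup.coe_mul, M.toSec.ind_mul (hnn x) (hnn y)]
  have hone : mat 1 = 1 := Matrix.ext_of_mulVec_single fun i => by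
    rw [← hmat, Matrix.one_mulVec, OneMemClass.coe_one, M.toSec.ind_one]
  let D : ↥NE →* Fˣ := MonoidHom.toHomUnits
    { toFun := fun x => (mat x).det
      map_one' := by rw [hone, Matrix.det_one]
      map_mul' := fun x y => by rw [hmul, Matrix.det_mul] }
  have hker : ⁅H, K⁆ ≤ D.ker.map NE.subtype := by
    rw [Subgroup.commutator_le]
    intro a ha b hb
    refine ⟨⁅(⟨a, hH ha⟩ : ↥NE), ⟨b, hK hb⟩⁆, ?_, by simp [commutatorElement_def]⟩
    rw [SetLike.mem_coe, MonoidHom.mem_ker, map_commutatorElement, commutatorElement_eq_one_iff_mul_comm]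
    exact mul_comm _ _
  obtain ⟨⟨g', hgE⟩, hgD, rfl⟩ := hker hg
  have hdet : ∀ x : D.ker, (mat x.1).det = 1 := fun x => congrArg Units.val (MonoidHom.mem_ker.1 x.2)
  let A : D.ker →* Matrix.SpecialLinearGroup (Fin 2) F :=
    { toFun := fun x => ⟨mat x.1, hdet x⟩
      map_one' := Subtype.ext hone
      map_mul' := fun x y => Subtype.ext (hmul x.1 y.1) }
  set C := commutator (Matrix.SpecialLinearGroup (Fin 2) F) with hC
  set xg : D.ker := ⟨⟨g', hgE⟩, hgD⟩ with hxg
  have hmem : A xg ∈ C := by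
    rw [← QuotientGroup.eq_one_iff]
    show ((QuotientGroup.mk' C).comp A) xg = 1
    refine orderOf_eq_one_iff.1 (Nat.eq_one_of_dvd_coprimes hc ?_ ?_)
    · refine (orderOf_map_dvd _ _).trans (dvd_of_eq ?_)
      rw [← Subgroup.orderOf_coe, ← Subgroup.orderOf_coe]
      rfl
    · rw [← hidx, Subgroup.index_eq_card]
      exact orderOf_dvd_natCard _
  obtain ⟨e, he⟩ : A xg ∈ M.ρ.range := by rw [M.range_eq]; exact hmem
  refine mem_ecSub_of_ind_eq M.toSec hgE e fun v => ?_
  show M.toSec.ind ((⟨g', hgE⟩ : ↥NE) : G) v = _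
  rw [hmat, M.ind_eq, he]
  rfl

/-- A block induces inner automorphisms on every subnormal block. -/
theorem block_le_ecSub (hG : Subgroup.centralizer (pCore p G : Set G) ≤ pCore p G) (hE : IsSubBlock p E)
    {D : Subgroup G} (T : Sylow p G) (hD : IsBaumannBlock p (T : Subgroup G) D) : D ≤ ecSub p E := by
  classical
  obtain ⟨T0, hT0⟩ := hE.1
  have hDN : D ≤ Subgroup.normalizer (E : Set G) :=
    (le_baumannSubgroup hD).trans (baumannSubgroup_fixes hG hE)
  have hBN := baumann_fixes hG hE T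
  rcases exists_model hT0 with ⟨F, hF, hFt, n, hcard, ⟨M⟩, -⟩ | ⟨-, -, m, hm, ⟨M⟩⟩
  · by_cases h4 : 4 ≤ Fintype.card F
    · have hB := baumann_le_ecSub_big hG hE M h4 hcard T
      rw [← hD.2.1, Subgroup.commutator_le]
      intro f hf b hb
      rw [commutatorElement_def]
      exact mul_mem (conj_mem_ecSub (hDN hf) (hB hb)) (inv_mem (hB hb))
    · refine le_of_coprime hD.1 fun g hg hc => ?_
      rw [← hD.2.1] at hg
      exact coprime_commutator_mem_ecSub_small M hcard (by omega) hDN hBN hg hc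
  · rw [← hD.2.1, Subgroup.commutator_le]
    exact fun f hf b hb => commutator_mem_ecSub_alt hm M (hDN hf) (hBN hb)

end CfsgLib.BBlock
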