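import Cfsg.Agent.Lib.Baumann.Sec

/-!
Elements acting on the section of a block: the subgroup inducing inner automorphisms, alternating case.
-/

set_option autoImplicit false
set_option linter.unusedSectionVars false

namespace CfsgLib.BBlock

open Cfsg
open scoped commutatorElement

variable {G : Type*} [Group G] [Finite G] {p : ℕ} [Fact p.Prime] {E : Subgroup G}

local notation:max "Qc" E:max => pCoreOf p E
local notation:max "Wc" E:max => omegaOneCenter p (pCoreOf p E)
local notation:max "Zc" E:max => omegaOneCenter p (pCoreOf p E) ⊓ Subgroup.centralizer (E : Set G)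

/-- The elements of `N(E)` trivial on `W / Z`. -/
def sectTriv (p : ℕ) [Fact p.Prime] (E : Subgroup G) : Subgroup G where
  carrier := {g | g ∈ Subgroup.normalizer (E : Set G) ∧ ∀ w ∈ omegaOneCenter p (pCoreOf p E),
    g * w * g⁻¹ * w⁻¹ ∈ omegaOneCenter p (pCoreOf p E) ⊓ Subgroup.centralizer (E : Set G)}
  one_mem' := ⟨one_mem _, fun w _ => by simp⟩
  mul_mem' := fun {a b} ha hb => ⟨mul_mem ha.1 hb.1, fun w hw => by
    rw [show a * b * w * (a * b)⁻¹ * w⁻¹ = (a * (b * w * b⁻¹ * w⁻¹) * a⁻¹) * (a * w * a⁻¹ * w⁻¹) by group]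
    exact mul_mem (conj_mem_normalizer (normalizer_le_nn E ha.1).2 (hb.2 w hw)) (ha.2 w hw)⟩
  inv_mem' := fun {a} ha => ⟨inv_mem ha.1, fun w hw => by
    rw [show a⁻¹ * w * a⁻¹⁻¹ * w⁻¹ = a⁻¹ * (a * w * a⁻¹ * w⁻¹)⁻¹ * a⁻¹⁻¹ by group]
    exact conj_mem_normalizer (normalizer_le_nn E (inv_mem ha.1)).2 (inv_mem (ha.2 w hw))⟩

theorem sectTriv_normalized : Subgroup.normalizer (E : Set G) ≤ Subgroup.normalizer (sectTriv p E : Set G) := by
  refine fun n hn => mem_normalizer_of_map_le fun g hg => ⟨mul_mem (mul_mem hn hg.1) (inv_mem hn), fun w hw => ?_⟩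
  have hw' : n⁻¹ * w * n ∈ Wc E := by simpa using conj_mem_normalizer (inv_mem (normalizer_le_nn E hn).1) hw
  rw [show n * g * n⁻¹ * w * (n * g * n⁻¹)⁻¹ * w⁻¹ = n * (g * (n⁻¹ * w * n) * g⁻¹ * (n⁻¹ * w * n)⁻¹) * n⁻¹ by group]
  exact conj_mem_normalizer (normalizer_le_nn E hn).2 (hg.2 _ hw')

/-- The elements of `N(E)` acting on `W / Z` like elements of `E`. -/
def ecSub (p : ℕ) [Fact p.Prime] (E : Subgroup G) : Subgroup G := E ⊔ sectTriv p E

theorem ecSub_le_normalizer : ecSub p E ≤ Subgroup.normalizer (E : Set G) :=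
  sup_le Subgroup.le_normalizer fun _ hg => hg.1

theorem mem_ecSub {g : G} : g ∈ ecSub p E ↔ ∃ e ∈ E, e⁻¹ * g ∈ sectTriv p E := by
  refine ⟨fun hg => ?_, fun ⟨e, he, h⟩ => ?_⟩
  · rw [← SetLike.mem_coe, ecSub, Subgroup.coe_mul_of_left_le_normalizer_right E (sectTriv p E)
      (Subgroup.le_normalizer.trans sectTriv_normalized)] at hg
    obtain ⟨e, he, t, ht, rfl⟩ := hg
    exact ⟨e, he, by simpa using ht⟩
  · rw [show g = e * (e⁻¹ * g) by group]
    exact mul_mem (Subgroup.mem_sup_left he) (Subgroup.mem_sup_right h)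

theorem conj_mem_ecSub {n g : G} (hn : n ∈ Subgroup.normalizer (E : Set G)) (hg : g ∈ ecSub p E) :
    n * g * n⁻¹ ∈ ecSub p E := by
  obtain ⟨e, he, ht⟩ := mem_ecSub.1 hg
  rw [show n * g * n⁻¹ = (n * e * n⁻¹) * (n * (e⁻¹ * g) * n⁻¹) by group]
  exact mul_mem (Subgroup.mem_sup_left (conj_mem_normalizer hn he))
    (Subgroup.mem_sup_right (conj_mem_normalizer (sectTriv_normalized hn) ht))

theorem mem_ecSub_of_ind_eq {V : Type*} [AddCommGroup V] (S : Sec (Wc E) (Zc E) V) {g : G}
    (hg : g ∈ Subgroup.normalizer (E : Set G)) (e : ↥E) (h : ∀ v, S.ind g v = S.ind (e : G) v) :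
    g ∈ ecSub p E :=
  mem_ecSub.2 ⟨e, e.2, mul_mem (inv_mem (Subgroup.le_normalizer e.2)) hg,
    S.ind_comp_eq (normalizer_le_nn E hg) (normalizer_le_nn E (Subgroup.le_normalizer e.2)) h⟩

section Alt

variable {m : ℕ}

/-- The vector omitting `a`. -/
def omitVec (m : ℕ) (a : Fin (2 * m + 1)) : ↥(evenW (2 * m + 1)) := ⟨fun i => 1 - (if a = i then 1 else 0), by
  show ∑ i, (1 - (if a = i then (1 : ZMod 2) else 0)) = 0
  rw [Finset.sum_sub_distrib, Finset.sum_ite_eq, Finset.sum_const, Finset.card_univ, Fintype.card_fin,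
    if_pos (Finset.mem_univ _)]
  simp [show (2 : ZMod 2) = 0 from rfl]⟩

theorem omitVec_apply (a i : Fin (2 * m + 1)) :
    (omitVec m a : Fin (2 * m + 1) → ZMod 2) i = 1 - (if a = i then 1 else 0) := rfl

theorem omitVec_injective (hm : 1 ≤ m) : Function.Injective (omitVec m) := fun a b h => by
  have h1 := congrFun (congrArg Subtype.val h) a
  simp [omitVec_apply] at h1
  by_contra hne
  simp [Ne.symm hne] at h1

theorem omitVec_span (v : ↥(evenW (2 * m + 1))) :
    v = ∑ a, ((v : Fin (2 * m + 1) → ZMod 2) a).val • omitVec m a := by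
  refine Subtype.ext (funext fun i => ?_)
  rw [AddSubmonoidClass.coe_finsetSum, Finset.sum_apply]
  simp only [AddSubmonoidClass.coe_nsmul, Pi.smul_apply, nsmul_eq_mul, ZMod.natCast_zmod_val, omitVec_apply]
  have h : ∑ a, (v : Fin (2 * m + 1) → ZMod 2) a = 0 := v.2
  simp [mul_sub, Finset.sum_sub_distrib, h, CharTwo.neg_eq]

/-- An even vector with small orbit omits one point. -/
theorem exists_omitVec (hm : 1 ≤ m) (v : Fin (2 * m + 1) → ZMod 2) (hv : ∑ i, v i = 0) (hv0 : v ≠ 0)
    (O : Set (Fin (2 * m + 1) → ZMod 2)) (hO : Set.ncard O ≤ 2 * m + 1) (hvO : v ∈ O)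
    (hclosed : ∀ σ ∈ alternatingGroup (Fin (2 * m + 1)), ∀ w ∈ O, (fun i => w (σ⁻¹ i)) ∈ O) :
    ∃ a, v = fun i => 1 - (if a = i then 1 else 0) := by
  classical
  set s := Finset.univ.filter fun i => v i = 1 with hs
  set c := Finset.univ.filter fun i => v i = 0 with hc
  have hsum : s.card + c.card = 2 * m + 1 := by
    rw [hs, hc, ← Finset.card_union_of_disjoint (Finset.disjoint_filter.2 fun i _ h1 h2 => zero_ne_one (h2.symm.trans h1)),
      ← Finset.filter_or, Finset.filter_true_of_mem (fun i _ => (zmod2_cases (v i)).symm), Finset.card_univ,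
      Fintype.card_fin]
  have hseven : Even s.card := by
    have h : ∑ i, v i = (s.card : ZMod 2) := by
      rw [hs, Finset.card_filter, Nat.cast_sum]
      refine Finset.sum_congr rfl fun i _ => ?_
      rcases zmod2_cases (v i) with h | h <;> simp [h]
    rw [hv] at h
    exact (ZMod.natCast_eq_zero_iff_even).1 h.symm
  have hs0 : s.card ≠ 0 := fun h => hv0 (funext fun i => (zmod2_cases (v i)).resolve_right fun h1 => by
    have : i ∈ s := by simp [hs, h1]
    rw [Finset.card_eq_zero.1 h] at this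
    simp at this)
  by_cases hc1 : c.card = 1
  · obtain ⟨a, ha⟩ := Finset.card_eq_one.1 hc1
    refine ⟨a, funext fun i => ?_⟩
    by_cases hi : a = i
    · have : i ∈ c := by rw [ha, hi]; simp
      rw [hc, Finset.mem_filter] at this
      simp [hi, this.2]
    · have : i ∉ c := by rw [ha, Finset.mem_singleton]; exact Ne.symm hi
      rw [hc, Finset.mem_filter] at this
      simp [hi, (zmod2_cases (v i)).resolve_left fun h => this ⟨Finset.mem_univ _, h⟩]
  exfalso
  obtain ⟨r, hr⟩ := hseven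
  have hs2 : 2 ≤ s.card := by omega
  have hc2 : 2 ≤ c.card := by omega
  let w : {x // x ∈ s ×ˢ c} → Fin (2 * m + 1) → ZMod 2 := fun q i => v (Equiv.swap q.1.1 q.1.2 i)
  have hw : ∀ q, w q ∈ O := by
    rintro ⟨⟨i, j⟩, hq⟩
    rw [Finset.mem_product] at hq
    have hvi : v i = 1 := (Finset.mem_filter.1 hq.1).2
    have hvj : v j = 0 := (Finset.mem_filter.1 hq.2).2
    obtain ⟨k, k', hkk, hki, hkj, hki', hkj', hvk⟩ : ∃ k k', k ≠ k' ∧ k ≠ i ∧ k ≠ j ∧ k' ≠ i ∧ k' ≠ j ∧
        v k = v k' := by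
      rcases (show 3 ≤ s.card ∨ 3 ≤ c.card by omega) with h | h
      · obtain ⟨k, hk, k', hk', hne⟩ := Finset.one_lt_card.1
          (show 1 < (s.erase i).card by rw [Finset.card_erase_of_mem hq.1]; omega)
        rw [Finset.mem_erase, hs, Finset.mem_filter] at hk hk'
        exact ⟨k, k', hne, hk.1, fun h => zero_ne_one (hvj.symm.trans (h ▸ hk.2.2)), hk'.1,
          fun h => zero_ne_one (hvj.symm.trans (h ▸ hk'.2.2)), hk.2.2.trans hk'.2.2.symm⟩
      · obtain ⟨k, hk, k', hk', hne⟩ := Finset.one_lt_card.1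
          (show 1 < (c.erase j).card by rw [Finset.card_erase_of_mem hq.2]; omega)
        rw [Finset.mem_erase, hc, Finset.mem_filter] at hk hk'
        exact ⟨k, k', hne, fun h => one_ne_zero (hvi.symm.trans (h ▸ hk.2.2)), hk.1,
          fun h => one_ne_zero (hvi.symm.trans (h ▸ hk'.2.2)), hk'.1, hk.2.2.trans hk'.2.2.symm⟩
    have hij : i ≠ j := fun h => one_ne_zero (hvi.symm.trans (h ▸ hvj))
    have := hclosed _ (inv_mem (swap_mul_swap_mem hkk hij)) v hvO
    convert this using 1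
    funext x
    show v (Equiv.swap i j x) = v ((Equiv.swap k k' * Equiv.swap i j)⁻¹⁻¹ x)
    rw [inv_inv, Equiv.Perm.mul_apply]
    set y := Equiv.swap i j x
    by_cases h1 : y = k
    · rw [h1, Equiv.swap_apply_left, hvk]
    by_cases h2 : y = k'
    · rw [h2, Equiv.swap_apply_right, hvk]
    · rw [Equiv.swap_apply_of_ne_of_ne h1 h2]
  have hwv : ∀ q, w q ≠ v := by
    rintro ⟨⟨i, j⟩, hq⟩ h
    rw [Finset.mem_product] at hq
    have := congrFun h i
    simp [w, (Finset.mem_filter.1 hq.1).2, (Finset.mem_filter.1 hq.2).2] at this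
  have hinj : Function.Injective w := by
    rintro ⟨⟨i, j⟩, hq⟩ ⟨⟨i', j'⟩, hq'⟩ h
    rw [Finset.mem_product] at hq hq'
    have hvi : v i = 1 := (Finset.mem_filter.1 hq.1).2
    have hvj : v j = 0 := (Finset.mem_filter.1 hq.2).2
    have hvi' : v i' = 1 := (Finset.mem_filter.1 hq'.1).2
    have hvj' : v j' = 0 := (Finset.mem_filter.1 hq'.2).2
    have hi : i = i' := by
      by_contra hne
      have h1 := congrFun h i
      have hij : i ≠ j' := fun e => by rw [e, hvj'] at hvi; exact zero_ne_one hvi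
      simp [w, hvj, hvi, Equiv.swap_apply_of_ne_of_ne hne hij] at h1
    have hj : j = j' := by
      by_contra hne
      have h1 := congrFun h j
      have hij : j ≠ i' := fun e => by rw [e, hvi'] at hvj; exact one_ne_zero hvj
      simp [w, hvi, hvj, Equiv.swap_apply_of_ne_of_ne hij hne] at h1
    subst hi; subst hj; rfl
  have hcard : (s.card * c.card + 1) ≤ Set.ncard O := by
    rw [← Nat.card_coe_set_eq]
    refine le_trans (le_of_eq ?_) (Nat.card_le_card_of_injective
      (fun o : Option {x // x ∈ s ×ˢ c} => o.elim (⟨v, hvO⟩ : ↥O) fun q => ⟨w q, hw q⟩) ?_)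
    · rw [Nat.card_eq_fintype_card, Fintype.card_option, Fintype.card_coe, Finset.card_product]
    · rintro (_ | q) (_ | q') h
      · rfl
      · exact absurd (congrArg Subtype.val h).symm (hwv q')
      · exact absurd (congrArg Subtype.val h) (hwv q)
      · exact congrArg some (hinj (congrArg Subtype.val h))
  obtain ⟨x, hx⟩ : ∃ x, s.card = x + 2 := ⟨s.card - 2, by omega⟩
  obtain ⟨y, hy⟩ : ∃ y, c.card = y + 2 := ⟨c.card - 2, by omega⟩
  rw [hx, hy] at hcard
  nlinarith

/-- Commutators of elements normalizing an alternating block induce inner automorphisms on it. -/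
theorem commutator_mem_ecSub_alt (hm : 1 ≤ m) (M : AltModel E (Qc E) (Wc E) (Zc E) (2 * m + 1)) {f b : G}
    (hf : f ∈ Subgroup.normalizer (E : Set G)) (hb : b ∈ Subgroup.normalizer (E : Set G)) :
    ⁅f, b⁆ ∈ ecSub p E := by
  classical
  have hnn : ∀ g : ↥(Subgroup.normalizer (E : Set G)), (g : G) ∈ Sec.nn (Wc E) (Zc E) :=
    fun g => normalizer_le_nn E g.2
  have hE : ∀ (e : ↥E) (a : Fin (2 * m + 1)), M.toSec.ind (e : G) (omitVec m a) = omitVec m (M.ρ e a) := by
    intro e a
    refine Subtype.ext (funext fun i => ?_)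
    rw [M.ind_eq, omitVec_apply, omitVec_apply]
    by_cases h : M.ρ e a = i
    · rw [if_pos h, if_pos (by rw [← h]; simp)]
    · rw [if_neg h, if_neg (fun h' => h (by rw [h']; simp))]
  have hex : ∀ (g : ↥(Subgroup.normalizer (E : Set G))) (a : Fin (2 * m + 1)),
      ∃ b, M.toSec.ind (g : G) (omitVec m a) = omitVec m b := by
    intro g a
    obtain ⟨b, hb⟩ := exists_omitVec hm (M.toSec.ind (g : G) (omitVec m a) : Fin (2 * m + 1) → ZMod 2)
      (M.toSec.ind (g : G) (omitVec m a)).2 (fun h => by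
        have h' : M.toSec.ind (g : G) (omitVec m a) = M.toSec.ind (g : G) 0 := by
          rw [M.toSec.ind_zero (hnn g)]; exact Subtype.ext h
        have h2 := congrArg Subtype.val (M.toSec.ind_injective (hnn g) h')
        obtain ⟨b, hba, -⟩ := exists_third (show 3 ≤ 2 * m + 1 by omega) a a
        have h3 := congrFun h2 b
        simp [omitVec_apply, hba.symm] at h3)
      (Set.range fun c => ((M.toSec.ind (g : G) (omitVec m c) : ↥(evenW (2 * m + 1))) : Fin (2 * m + 1) → ZMod 2))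
      (by
        rw [← Nat.card_coe_set_eq]
        exact (Nat.card_le_card_of_surjective (α := Fin (2 * m + 1)) _ Set.rangeFactorization_surjective).trans (by simp))
      ⟨a, rfl⟩ (by
        rintro σ hσ _ ⟨c, rfl⟩
        obtain ⟨e, rfl⟩ : σ ∈ M.ρ.range := by rw [M.range_eq]; exact hσ
        set e' : ↥E := ⟨(g : G)⁻¹ * e * g, by simpa using conj_mem_normalizer (inv_mem g.2) e.2⟩ with he'
        refine ⟨M.ρ e' c, funext fun i => ?_⟩
        show (M.toSec.ind (g : G) (omitVec m (M.ρ e' c)) : Fin (2 * m + 1) → ZMod 2) i =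
          (M.toSec.ind (g : G) (omitVec m c) : Fin (2 * m + 1) → ZMod 2) ((M.ρ e)⁻¹ i)
        rw [← M.ind_eq e, ← hE e' c, ← M.toSec.ind_mul (hnn g) (M.le_nn e'.2), ← M.toSec.ind_mul (M.le_nn e.2) (hnn g)]
        rw [show (g : G) * (e' : G) = e * g by
          show (g : G) * ((g : G)⁻¹ * e * g) = e * g
          group])
    exact ⟨b, Subtype.ext hb⟩
  choose π hπ using hex
  have hπmul : ∀ g h a, π (g * h) a = π g (π h a) := fun g h a => omitVec_injective hm (by
    rw [← hπ, Subgroup.coe_mul, M.toSec.ind_mul (hnn g) (hnn h), hπ, hπ])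
  have hπone : ∀ a, π 1 a = a := fun a => omitVec_injective hm (by
    rw [← hπ, OneMemClass.coe_one, M.toSec.ind_one])
  let P : ↥(Subgroup.normalizer (E : Set G)) →* Equiv.Perm (Fin (2 * m + 1)) :=
    { toFun := fun g => ⟨π g, π g⁻¹, fun a => by rw [← hπmul, inv_mul_cancel, hπone],
        fun a => by rw [← hπmul, mul_inv_cancel, hπone]⟩
      map_one' := Equiv.ext hπone
      map_mul' := fun g h => Equiv.ext (hπmul g h) }
  set g : ↥(Subgroup.normalizer (E : Set G)) := ⁅(⟨f, hf⟩ : ↥(Subgroup.normalizer (E : Set G))), ⟨b, hb⟩⁆ with hg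
  have heven : P g ∈ alternatingGroup (Fin (2 * m + 1)) := by
    rw [Equiv.Perm.mem_alternatingGroup, hg, map_commutatorElement, map_commutatorElement,
      commutatorElement_eq_one_iff_mul_comm]
    exact mul_comm _ _
  obtain ⟨e, he⟩ : P g ∈ M.ρ.range := by rw [M.range_eq]; exact heven
  refine mem_ecSub_of_ind_eq M.toSec g.2 e fun v => ?_
  have hlin : ∀ {x : G} (hx : x ∈ Sec.nn (Wc E) (Zc E)) (u : ↥(evenW (2 * m + 1))),
      M.toSec.ind x u = ∑ a, ((u : Fin (2 * m + 1) → ZMod 2) a).val • M.toSec.ind x (omitVec m a) := by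
    intro x hx u
    let h : ↥(evenW (2 * m + 1)) →+ ↥(evenW (2 * m + 1)) := AddMonoidHom.mk' (M.toSec.ind x) (M.toSec.ind_add hx)
    conv_lhs => rw [omitVec_span u]
    show h (∑ a, _) = _
    rw [map_sum]
    exact Finset.sum_congr rfl fun a _ => map_nsmul h _ _
  show M.toSec.ind (g : G) v = M.toSec.ind (e : G) v
  rw [hlin (hnn g), hlin (M.le_nn e.2)]
  refine Finset.sum_congr rfl fun a _ => ?_
  rw [hπ g a, hE e a, he]
  rfl

end Alt

end CfsgLib.BBlock
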