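import Cfsg.Agent.Lib.Baumann.SecSL
import Mathlib.FieldTheory.Galois.Basic

/-!
Additive maps of `F²` normalizing the upper unitriangular group.
-/

set_option autoImplicit false
set_option linter.unusedSectionVars false

namespace CfsgLib.BBlock

variable {F : Type} [Field F]

local notation "SL" => Matrix.SpecialLinearGroup (Fin 2) F

theorem pair_eta (v : Fin 2 → F) : v = ![v 0, v 1] := by
  ext i; fin_cases i <;> simp

/-- `g` permutes the upper unitriangular maps. -/
def NormUpp (g : (Fin 2 → F) → (Fin 2 → F)) : Prop :=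
  ∀ c : F, ∃ c' : F, ∀ v, g (((upp c : SL) : Matrix (Fin 2) (Fin 2) F).mulVec v) =
    ((upp c' : SL) : Matrix (Fin 2) (Fin 2) F).mulVec (g v)

/-- The shape `(a, x) ↦ (k σ a + u x, l σ x)`. -/
def HasForm (g : (Fin 2 → F) → (Fin 2 → F)) (σ : F →+* F) (k l : F) (u : F → F) : Prop :=
  ∀ a x : F, g ![a, x] = ![k * σ a + u x, l * σ x]

theorem semilinear_form (g : (Fin 2 → F) → (Fin 2 → F)) (hadd : ∀ v w, g (v + w) = g v + g w)
    (hinj : Function.Injective g) (hn : NormUpp g) :
    ∃ (σ : F →+* F) (k l : F) (u : F → F), k ≠ 0 ∧ l ≠ 0 ∧ HasForm g σ k l u := by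
  choose τ hτ using hn
  let α : F → F := fun a => g ![a, 0] 0
  let w : F → F := fun x => g ![0, x] 1
  let u : F → F := fun x => g ![0, x] 0
  have h0 : g 0 = 0 := by
    have h := hadd 0 0
    rw [add_zero] at h
    simpa using h
  have hline : ∀ a, g ![a, 0] 1 = 0 := by
    intro a
    have hfix : ∀ c, g ![a, 0] 0 = g ![a, 0] 0 + τ c * g ![a, 0] 1 := fun c => by
      have h := congrFun (hτ c ![a, 0]) 0
      rw [upp_mulVec, upp_mulVec] at h
      simpa using h
    by_contra hne
    have hτ0 : ∀ c, τ c = 0 := fun c => by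
      have h := hfix c
      rw [left_eq_add, mul_eq_zero] at h
      exact h.resolve_right hne
    have h1 := hτ 1 ![0, 1]
    rw [upp_mulVec, hτ0, upp_zero, Matrix.SpecialLinearGroup.coe_one, Matrix.one_mulVec] at h1
    have h2 := congrFun (hinj h1) 0
    simp at h2
  have hsplit : ∀ a x, g ![a, x] = ![α a + u x, w x] := fun a x => by
    rw [show ![a, x] = ![a, 0] + ![0, x] by ext i; fin_cases i <;> simp, hadd]
    ext i; fin_cases i <;> simp [α, u, w, hline]
  have hrel : ∀ c x, α (c * x) = τ c * w x := fun c x => by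
    have h := congrFun (hτ c ![0, x]) 0
    rw [upp_mulVec, upp_mulVec] at h
    simp at h
    rw [hsplit, hsplit] at h
    simp at h
    have h00 : α 0 = 0 := by
      show g ![0, 0] 0 = 0
      rw [show (![0, 0] : Fin 2 → F) = 0 by ext i; fin_cases i <;> simp, h0]; rfl
    rw [h00] at h
    linear_combination h
  have hα1 : α 1 ≠ 0 := fun h => by
    have h1 : g ![1, 0] = g 0 := by
      rw [h0]; ext i; fin_cases i
      · exact h
      · exact hline 1
    have := congrFun (hinj h1) 0
    simp at this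
  have h11 : τ 1 * w 1 = α 1 := by rw [← hrel, one_mul]
  have hmul : ∀ c x, α (c * x) * α 1 = α c * α x := fun c x => by
    rw [hrel c x, ← h11]
    have h2 := hrel c 1
    have h3 := hrel 1 x
    rw [mul_one] at h2
    rw [one_mul] at h3
    rw [h2, h3]; ring
  have haddα : ∀ a b, α (a + b) = α a + α b := fun a b => by
    show g ![a + b, 0] 0 = _
    rw [show ![a + b, 0] = ![a, 0] + ![b, 0] by ext i; fin_cases i <;> simp, hadd]; rfl
  let σ : F →+* F :=
    { toFun := fun a => α a / α 1
      map_one' := div_self hα1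
      map_mul' := fun a b => by
        rw [div_mul_div_comm, ← hmul, mul_div_mul_right _ _ hα1]
      map_zero' := by
        have h := haddα 0 0
        rw [add_zero, left_eq_add] at h
        rw [h, zero_div]
      map_add' := fun a b => by rw [haddα, add_div] }
  have hw1 : w 1 ≠ 0 := fun h => hα1 (by rw [← h11, h, mul_zero])
  have hτ1 : τ 1 ≠ 0 := fun h => hα1 (by rw [← h11, h, zero_mul])
  refine ⟨σ, α 1, w 1, u, hα1, hw1, fun a x => ?_⟩
  rw [hsplit]
  have hwx : w x = w 1 * σ x := by
    show w x = w 1 * (α x / α 1)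
    have h3 := hrel 1 x
    rw [one_mul] at h3
    rw [h3, ← h11]; field_simp
  rw [hwx]
  show ![α a + u x, _] = ![α 1 * (α a / α 1) + u x, _]
  rw [mul_div_cancel₀ _ hα1]

/-- A map of this shape with `σ = 1` and `k = l = 1` that conjugates `SL₂` into itself is unitriangular. -/
theorem upp_rigid (g : (Fin 2 → F) → (Fin 2 → F)) (u : F → F) (hu : HasForm g (RingHom.id F) 1 1 u)
    (hlow : ∀ c : F, ∃ M : SL, ∀ v, g (((low c : SL) : Matrix (Fin 2) (Fin 2) F).mulVec v) =
      (M : Matrix (Fin 2) (Fin 2) F).mulVec (g v)) (hu0 : u 0 = 0) :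
    ∀ v, g v = ((upp (u 1) : SL) : Matrix (Fin 2) (Fin 2) F).mulVec v := by
  choose M hM using hlow
  have hlin : ∀ a, u a = u 1 * a := by
    intro a
    by_cases ha : a = 0
    · rw [ha, mul_zero, hu0]
    have hg : ∀ b : F, g ![b, 0] = ![b, 0] := fun b => by rw [hu]; simp [hu0]
    have h1 := congrFun (hM 1 ![a, 0]) 0
    have h2 := congrFun (hM 1 ![1, 0]) 0
    rw [hg] at h1 h2
    have hl : ∀ b : F, ((low (1 : F) : SL) : Matrix (Fin 2) (Fin 2) F).mulVec ![b, 0] = ![b, b] := fun b => by
      ext i; fin_cases i <;> simp [low, Matrix.mulVec, dotProduct, Fin.sum_univ_two]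
    rw [hl, hu] at h1 h2
    simp [Matrix.mulVec, dotProduct, Fin.sum_univ_two] at h1 h2
    linear_combination h1 - a * h2
  intro v
  rw [pair_eta v, hu, upp_mulVec, hlin (v 1)]
  ext i; fin_cases i <;> simp

/-- The first coordinate line under iteration. -/
theorem HasForm.iterate {g : (Fin 2 → F) → (Fin 2 → F)} {σ : F →+* F} {k l : F} {u : F → F}
    (h : HasForm g σ k l u) (hu0 : u 0 = 0) (n : ℕ) :
    ∃ kn ln : F, (∀ a, g^[n] ![a, 0] = ![kn * (σ^[n]) a, 0]) ∧ (∀ a x, g^[n] ![a, x] 1 = ln * (σ^[n]) x) ∧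
      ((∀ a, σ a = a) → kn = k ^ n ∧ ln = l ^ n) := by
  induction n with
  | zero => exact ⟨1, 1, fun a => by simp, fun a x => by simp, fun _ => by simp⟩
  | succ n ih =>
    obtain ⟨kn, ln, h1, h2, h3⟩ := ih
    refine ⟨k * σ kn, l * σ ln, fun a => ?_, fun a x => ?_, fun hid => ?_⟩
    · rw [Function.iterate_succ_apply', h1, h, Function.iterate_succ_apply', map_mul]
      simp [hu0, mul_assoc]
    · have hv : g^[n] ![a, x] = ![g^[n] ![a, x] 0, ln * (σ^[n]) x] := by
        conv_lhs => rw [pair_eta (g^[n] ![a, x]), h2]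
      rw [Function.iterate_succ_apply', hv, h, Function.iterate_succ_apply', map_mul]
      simp [mul_assoc]
    · obtain ⟨e1, e2⟩ := h3 hid
      rw [e1, e2, hid, hid, pow_succ', pow_succ']
      exact ⟨rfl, rfl⟩

theorem eq_one_of_pow_char {p : ℕ} [Fact p.Prime] [CharP F p] {a : F} {j : ℕ} (h : a ^ p ^ j = 1) : a = 1 := by
  have h1 : (a - 1) ^ p ^ j = 0 := by rw [sub_pow_char_pow, h, one_pow, sub_self]
  exact sub_eq_zero.1 (pow_eq_zero_iff (pow_ne_zero j (Fact.out : p.Prime).ne_zero) |>.1 h1)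

/-- A map with trivial `σ` of `p`-power order is unipotent on the diagonal. -/
theorem HasForm.diag_one {p : ℕ} [Fact p.Prime] [CharP F p] {g : (Fin 2 → F) → (Fin 2 → F)} {σ : F →+* F}
    {k l : F} {u : F → F} (h : HasForm g σ k l u) (hu0 : u 0 = 0) (hid : ∀ a, σ a = a) {j : ℕ}
    (hg : ∀ v, g^[p ^ j] v = v) : k = 1 ∧ l = 1 := by
  obtain ⟨kn, ln, h1, h2, h3⟩ := h.iterate hu0 (p ^ j)
  obtain ⟨rfl, rfl⟩ := h3 hid
  have hit : ∀ a, (σ^[p ^ j]) a = a := fun a => Function.iterate_fixed (hid a) _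
  constructor
  · have := congrFun ((h1 1).symm.trans (hg _)) 0
    simp [hit] at this
    exact eq_one_of_pow_char this
  · have := h2 0 1
    rw [hg] at this
    simp [hit] at this
    exact eq_one_of_pow_char this.symm

theorem HasForm.sigma_pow {g : (Fin 2 → F) → (Fin 2 → F)} {σ : F →+* F} {k l : F} {u : F → F}
    (h : HasForm g σ k l u) (hu0 : u 0 = 0) {m : ℕ} (hg : ∀ v, g^[m] v = v) : ∀ a, (σ^[m]) a = a := by
  obtain ⟨kn, ln, h1, -, -⟩ := h.iterate hu0 m
  have hk : kn = 1 := by
    have := congrFun ((h1 1).symm.trans (hg _)) 0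
    have h1' : (σ^[m]) 1 = 1 := Function.iterate_fixed (map_one σ) _
    simpa [h1'] using this
  intro a
  have := congrFun ((h1 a).symm.trans (hg _)) 0
  simpa [hk] using this

variable [Fintype F]

/-- The fixed points of a semilinear map of the line. -/
theorem card_fixed_semilinear (σ : F →+* F) {k : F} (hk : k ≠ 0) :
    Nat.card {x : F // k * σ x = x} ≤ Nat.card {x : F // σ x = x} := by
  classical
  by_cases h : ∃ x : F, x ≠ 0 ∧ k * σ x = x
  · obtain ⟨x0, hx0, hfix⟩ := h
    refine Nat.card_le_card_of_injective (fun x => ⟨x.1 / x0, ?_⟩) fun x y e => Subtype.ext ?_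
    · rw [map_div₀]
      have hs : σ x0 ≠ 0 := (map_ne_zero σ).2 hx0
      rw [div_eq_div_iff hs hx0]
      refine mul_left_cancel₀ hk ?_
      have := x.2
      linear_combination (x0 : F) * this - (x.1 : F) * hfix
    · exact (div_left_inj' hx0).1 (congrArg Subtype.val e)
  · push Not at h
    haveI : Subsingleton {x : F // k * σ x = x} := ⟨fun a b => Subtype.ext (by
      have ha : a.1 = 0 := by by_contra h'; exact h a.1 h' a.2
      have hb : b.1 = 0 := by by_contra h'; exact h b.1 h' b.2
      rw [ha, hb])⟩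
    haveI : Nonempty {x : F // σ x = x} := ⟨⟨0, map_zero σ⟩⟩
    exact le_trans (Finite.card_le_one_iff_subsingleton.2 inferInstance) Nat.card_pos

theorem card_fixed_field {p : ℕ} [Fact p.Prime] [CharP F p] (σ : F →+* F) (hσ : ¬ ∀ a, σ a = a)
    (hσp : ∀ a, (σ^[p]) a = a) : Nat.card {x : F // σ x = x} ^ p = Fintype.card F := by
  classical
  letI := ZMod.algebra F p
  let e : F ≃ₐ[ZMod p] F := AlgEquiv.ofRingEquiv
    (f := RingEquiv.ofBijective σ (Finite.injective_iff_bijective.1 σ.injective))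
    (fun x => DFunLike.congr_fun (Subsingleton.elim ((σ : F →+* F).comp (algebraMap (ZMod p) F)) (algebraMap (ZMod p) F)) x)
  have he : ∀ a, e a = σ a := fun a => rfl
  have hpow : e ^ p = 1 := by
    refine AlgEquiv.ext fun a => ?_
    have : ∀ (n : ℕ) (a : F), (e ^ n) a = (σ^[n]) a := by
      intro n
      induction n with
      | zero => intro a; rfl
      | succ n ih => intro a; rw [pow_succ', AlgEquiv.mul_apply, ih, Function.iterate_succ_apply', he]
    rw [this, hσp]; rfl
  have hne : e ≠ 1 := fun h => hσ fun a => by rw [← he, h]; rfl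
  have hord : orderOf e = p := orderOf_eq_prime hpow hne
  set H := Subgroup.zpowers e with hH
  have hfin := IntermediateField.finrank_fixedField_eq_card (F := ZMod p) (E := F) H
  have hcard := Module.natCard_eq_pow_finrank (K := ↥(IntermediateField.fixedField H)) (V := F)
  rw [hfin, Nat.card_zpowers, hord, Nat.card_eq_fintype_card] at hcard
  rw [hcard]
  congr 1
  refine Nat.card_congr (Equiv.subtypeEquivRight fun x => ?_).symm
  show x ∈ IntermediateField.fixedField H ↔ σ x = x
  rw [IntermediateField.mem_fixedField_iff]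
  refine ⟨fun h => h e (Subgroup.mem_zpowers e), fun h f hf => ?_⟩
  obtain ⟨n, rfl⟩ := mem_powers_iff_mem_zpowers.2 hf
  induction n with
  | zero => rfl
  | succ n ih =>
    show (e ^ (n + 1)) x = x
    rw [pow_succ, AlgEquiv.mul_apply, he, h]
    exact ih (Subgroup.npow_mem_zpowers _ _)

end CfsgLib.BBlock
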