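import Cfsg.Agent.Lib.Baumann.InnerAlt
import Cfsg.Agent.Lib.Baumann.Semilinear
import Cfsg.Agent.Lib.Baumann.AllSylow

/-!
`B(T)` induces inner automorphisms on a subnormal block.
-/

set_option autoImplicit false
set_option linter.unusedSectionVars false

universe u

namespace CfsgLib.BBlock

open Cfsg
open scoped commutatorElement

variable {G : Type u} [Group G] [Finite G] {p : ℕ} [Fact p.Prime] {E : Subgroup G}

local notation:max "Qc" E:max => pCoreOf p E
local notation:max "Wc" E:max => omegaOneCenter p (pCoreOf p E)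
local notation:max "Zc" E:max => omegaOneCenter p (pCoreOf p E) ⊓ Subgroup.centralizer (E : Set G)
local notation "Xc" => omegaOneCenter p (pCore p G)

theorem ind_iterate {U U₀ : Subgroup G} {V : Type*} [AddCommGroup V] (S : Sec U U₀ V) {g : G}
    (hg : g ∈ Sec.nn U U₀) (n : ℕ) (v : V) : S.ind (g ^ n) v = (S.ind g)^[n] v := by
  induction n with
  | zero => rw [pow_zero, S.ind_one]; rfl
  | succ n ih => rw [pow_succ', S.ind_mul hg (pow_mem hg n), ih, Function.iterate_succ_apply']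

theorem mem_thompson_omega (T : Sylow p G) {y : G} (hyX : y ∈ Xc)
    (hyfix : ∀ j ∈ thompsonSubgroupOf p (T : Subgroup G), j * y * j⁻¹ = y) :
    y ∈ omegaOne p (centerThompsonOf p (T : Subgroup G)) := by
  obtain ⟨A, hAT, hA⟩ := exists_max_in_sylow T
  have hAJ := PLocal.le_thompsonSubgroupOf hAT hA
  have hyA : y ∈ A := by
    have hel : IsElementaryAbelian p (A ⊔ Subgroup.zpowers y) := by
      refine PLocal.isElementaryAbelian_sup hA.1 ⟨inferInstance, fun z hz => ?_⟩ fun a ha z hz => ?_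
      · obtain ⟨i, rfl⟩ := Subgroup.mem_zpowers_iff.1 hz
        rw [← zpow_natCast, ← zpow_mul, mul_comm, zpow_mul, zpow_natCast, omegaOneCenter_pow p _ hyX, one_zpow]
      · obtain ⟨i, rfl⟩ := Subgroup.mem_zpowers_iff.1 hz
        exact ((show Commute a y from mul_inv_eq_iff_eq_mul.1 (hyfix a (hAJ ha))).zpow_right i).eq
    rw [Subgroup.eq_of_le_of_card_ge le_sup_left (hA.2 _ hel)]
    exact Subgroup.mem_sup_right (Subgroup.mem_zpowers y)
  exact Subgroup.subset_closure ⟨⟨hAJ hyA, Subgroup.mem_centralizer_iff.2 fun j hj =>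
    mul_inv_eq_iff_eq_mul.1 (hyfix j hj)⟩, omegaOneCenter_pow p _ hyX⟩

/-- An element trivial on `W / Z` centralizes `[W, E]`. -/
theorem sectTriv_centralizes (hnat : NatSection E (Qc E) (Wc E) (Zc E)) {y : G} (hy : y ∈ sectTriv p E) :
    ∀ c ∈ ⁅Wc E, E⁆, y * c * y⁻¹ = c := by
  obtain ⟨hyN, hyt⟩ := hy
  let K : Subgroup G := Subgroup.centralizer {y}
  have hle : ⁅Wc E, E⁆ ≤ K := by
    rw [Subgroup.commutator_le]
    intro w hw e he
    rw [Subgroup.mem_centralizer_singleton_iff]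
    have hz := hyt w hw
    have hq : y * e * y⁻¹ * e⁻¹ ∈ Qc E := by
      refine hnat.faithful _ (mul_mem (conj_mem_normalizer hyN he) (inv_mem he)) fun v hv => ?_
      have he' : e * y⁻¹ * e⁻¹ ∈ sectTriv p E :=
        conj_mem_normalizer (sectTriv_normalized (Subgroup.le_normalizer he)) (inv_mem ⟨hyN, hyt⟩)
      have h := mul_mem (show y ∈ sectTriv p E from ⟨hyN, hyt⟩) he'
      rw [show y * (e * y⁻¹ * e⁻¹) = y * e * y⁻¹ * e⁻¹ by group] at h
      exact h.2 v hv
    set z := y * w * y⁻¹ * w⁻¹ with hzdef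
    set q := y * e * y⁻¹ * e⁻¹ with hqdef
    have h1 : y * ⁅w, e⁆ * y⁻¹ = ⁅z * w, q * e⁆ := by
      rw [hzdef, hqdef, commutatorElement_def, commutatorElement_def]; group
    have hzE : ∀ x ∈ E, x * z = z * x := fun x hx => Subgroup.mem_centralizer_iff.1 hz.2 x hx
    have hwq : w * q = q * w := (omegaOneCenter_comm p _ hw hq).symm
    have hwe : ⁅w, e⁆ ∈ Wc E := by
      rw [commutatorElement_def, mul_assoc w, mul_assoc w]
      exact mul_mem hw (conj_mem_normalizer (hnat.normalizes he) (inv_mem hw))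
    have h2 : ⁅z * w, q * e⁆ = ⁅w, e⁆ := by
      have hqe : q * e ∈ E := mul_mem (Subgroup.map_subtype_le _ hq) he
      have hwE : w ∈ E := Subgroup.map_subtype_le _ (omegaOneCenter_le p _ hw)
      calc ⁅z * w, q * e⁆ = z * (w * (q * e) * w⁻¹) * z⁻¹ * (q * e)⁻¹ := by
            rw [commutatorElement_def]; group
        _ = (w * (q * e) * w⁻¹) * (q * e)⁻¹ := by
            rw [← hzE _ (mul_mem (mul_mem hwE hqe) (inv_mem hwE)), mul_inv_cancel_right]
        _ = (w * q) * (e * w⁻¹ * e⁻¹) * q⁻¹ := by group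
        _ = q * ⁅w, e⁆ * q⁻¹ := by rw [hwq, commutatorElement_def]; group
        _ = _ := by rw [omegaOneCenter_comm p _ hwe hq, mul_inv_cancel_right]
    rw [h2] at h1
    exact (mul_inv_eq_iff_eq_mul.1 h1).symm
  intro c hc
  have h := hle hc
  rw [Subgroup.mem_centralizer_singleton_iff] at h
  rw [← h, mul_inv_cancel_right]

theorem sl2_faithful_eq {F : Type} [Field F] {M N : Matrix.SpecialLinearGroup (Fin 2) F}
    (h : ∀ v, (M : Matrix (Fin 2) (Fin 2) F).mulVec v = (N : Matrix (Fin 2) (Fin 2) F).mulVec v) : M = N :=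
  mul_inv_eq_one.1 (sl2_faithful fun v => by
    rw [Matrix.SpecialLinearGroup.coe_mul, ← Matrix.mulVec_mulVec, h, Matrix.mulVec_mulVec,
      ← Matrix.SpecialLinearGroup.coe_mul, mul_inv_cancel, Matrix.SpecialLinearGroup.coe_one, Matrix.one_mulVec])

section Big

variable {F : Type} [Field F] [Fintype F]

/-- Facts about an element normalizing `E` and the Sylow subgroup in normal form. -/
theorem norm_form (N : SLModel E (Qc E) (Wc E) (Zc E) F) (h4 : 4 ≤ Fintype.card F) {S : Subgroup G}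
    (hSE : S ≤ E) (hS : ∀ e : ↥E, (e : G) ∈ S ↔ ∃ c, N.ρ e = upp c) {g : G}
    (hgE : g ∈ Subgroup.normalizer (E : Set G)) (hgS : g ∈ Subgroup.normalizer (S : Set G)) :
    (∃ (σ : F →+* F) (k l : F) (w : F → F), k ≠ 0 ∧ l ≠ 0 ∧ w 0 = 0 ∧ HasForm (N.toSec.ind g) σ k l w) ∧
    (∀ c, ∃ M : Matrix.SpecialLinearGroup (Fin 2) F, ∀ v,
      N.toSec.ind g (((low c : Matrix.SpecialLinearGroup (Fin 2) F) : Matrix (Fin 2) (Fin 2) F).mulVec v) =
        (M : Matrix (Fin 2) (Fin 2) F).mulVec (N.toSec.ind g v)) := by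
  have hg := normalizer_le_nn (p := p) E hgE
  have hconj : ∀ (e : ↥E) (he' : g * (e : G) * g⁻¹ ∈ E) (v : Fin 2 → F),
      N.toSec.ind g ((N.ρ e : Matrix (Fin 2) (Fin 2) F).mulVec v) =
        (N.ρ ⟨_, he'⟩ : Matrix (Fin 2) (Fin 2) F).mulVec (N.toSec.ind g v) := fun e he' v => by
    rw [← N.ind_eq, ← N.ind_eq, ← N.toSec.ind_mul hg (N.le_nn e.2), ← N.toSec.ind_mul (N.le_nn he') hg]
    rw [inv_mul_cancel_right]
  have hn : NormUpp (N.toSec.ind g) := fun c => by
    obtain ⟨e, he⟩ := N.range_top h4 (upp c)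
    have he' := conj_mem_normalizer hgE e.2
    obtain ⟨c', hc'⟩ := (hS ⟨_, he'⟩).1 (conj_mem_normalizer hgS ((hS e).2 ⟨c, he⟩))
    refine ⟨c', fun v => ?_⟩
    rw [← he, ← hc']
    exact hconj e he' v
  obtain ⟨σ, k, l, w, hk, hl, hf⟩ := semilinear_form _ (N.toSec.ind_add hg) (N.toSec.ind_injective hg) hn
  refine ⟨⟨σ, k, l, w, hk, hl, ?_, hf⟩, fun c => ?_⟩
  · have h := congrFun (hf 0 0) 0
    rw [show (![0, 0] : Fin 2 → F) = 0 by ext i; fin_cases i <;> simp, N.toSec.ind_zero hg] at h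
    simpa using h.symm
  · obtain ⟨e, he⟩ := N.range_top h4 (low c)
    exact ⟨N.ρ ⟨_, conj_mem_normalizer hgE e.2⟩, fun v => by rw [← he]; exact hconj e _ v⟩

/-- An element of `p`-power order with trivial field part is unipotent. -/
theorem unipotent_form [CharP F p] (N : SLModel E (Qc E) (Wc E) (Zc E) F) (h4 : 4 ≤ Fintype.card F) {S : Subgroup G}
    (hSE : S ≤ E) (hS : ∀ e : ↥E, (e : G) ∈ S ↔ ∃ c, N.ρ e = upp c) {g : G}
    (hgE : g ∈ Subgroup.normalizer (E : Set G)) (hgS : g ∈ Subgroup.normalizer (S : Set G))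
    {j : ℕ} (hord : g ^ p ^ j = 1)
    (hline : ∀ (σ : F →+* F) (k l : F) (w : F → F), HasForm (N.toSec.ind g) σ k l w → w 0 = 0 → k ≠ 0 → ∀ a, σ a = a) :
    ∃ c, ∀ v, N.toSec.ind g v =
      ((upp c : Matrix.SpecialLinearGroup (Fin 2) F) : Matrix (Fin 2) (Fin 2) F).mulVec v := by
  obtain ⟨⟨σ, k, l, w, hk, hl, hw, hf⟩, hlow⟩ := norm_form N h4 hSE hS hgE hgS
  have hid := hline σ k l w hf hw hk
  have hg := normalizer_le_nn (p := p) E hgE
  obtain ⟨rfl, rfl⟩ := hf.diag_one (p := p) hw hid (j := j) (fun v => by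
    rw [← ind_iterate N.toSec hg, hord, N.toSec.ind_one])
  refine ⟨w 1, upp_rigid _ w ?_ hlow hw⟩
  intro a x
  rw [hf, hid, hid]; simp

/-- An elementary abelian subgroup of largest order induces unipotent maps. -/
theorem maxElem_unipotent (hG : Subgroup.centralizer (pCore p G : Set G) ≤ pCore p G) (hE : IsSubBlock p E)
    (N : SLModel E (Qc E) (Wc E) (Zc E) F) (h4 : 4 ≤ Fintype.card F) [CharP F p] {S : Subgroup G}
    (hSE : S ≤ E) (hS : ∀ e : ↥E, (e : G) ∈ S ↔ ∃ c, N.ρ e = upp c) {A : Subgroup G}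
    (hA : A ∈ maxElementaryAbelianSubgroups p G) (hAE : A ≤ Subgroup.normalizer (E : Set G))
    (hAS : A ≤ Subgroup.normalizer (S : Set G)) :
    ∀ a ∈ A, ∃ c, ∀ v, N.toSec.ind a v =
      ((upp c : Matrix.SpecialLinearGroup (Fin 2) F) : Matrix (Fin 2) (Fin 2) F).mulVec v := by
  classical
  obtain ⟨T0, hT0⟩ := hE.1
  haveI := hA.1.1
  have hnn : ∀ a : ↥A, (a : G) ∈ Sec.nn (Wc E) (Zc E) := fun a => normalizer_le_nn E (hAE a.2)
  have hform : ∀ a : ↥A, ∃ (σ : F →+* F) (k l : F) (w : F → F),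
      k ≠ 0 ∧ l ≠ 0 ∧ w 0 = 0 ∧ HasForm (N.toSec.ind (a : G)) σ k l w :=
    fun a => (norm_form N h4 hSE hS (hAE a.2) (hAS a.2)).1
  choose σ k l w hk hl hw hf using hform
  have huniq : ∀ (a : ↥A) (τ : F →+* F) (k' l' : F) (w' : F → F), HasForm (N.toSec.ind (a : G)) τ k' l' w' →
      w' 0 = 0 → ∀ x, τ x = σ a x := by
    intro a τ k' l' w' h' hw' x
    have e1 := congrFun ((hf a x 0).symm.trans (h' x 0)) 0
    have e2 := congrFun ((hf a 1 0).symm.trans (h' 1 0)) 0
    simp [hw, hw'] at e1 e2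
    rw [← e2] at e1
    exact (mul_left_cancel₀ (hk a) e1).symm
  have hcomp : ∀ (a b : ↥A) (x : F), σ (a * b) x = σ a (σ b x) ∧ k (a * b) = k a * σ a (k b) := by
    intro a b x
    have key : ∀ x : F, k (a * b) * σ (a * b) x = k a * σ a (k b * σ b x) := fun x => by
      have h1 := hf (a * b) x 0
      rw [Subgroup.coe_mul, N.toSec.ind_mul (hnn a) (hnn b), hf b x 0, hw, add_zero, map_zero, mul_zero, hf a, hw,
        add_zero] at h1
      have := congrFun h1 0
      simp [hw] at this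
      rw [map_mul]
      exact this.symm
    have hk' : k (a * b) = k a * σ a (k b) := by
      have h := key 1
      simpa using h
    refine ⟨?_, hk'⟩
    have h := key x
    rw [hk', map_mul, ← mul_assoc (k a) _ ((σ a) (σ b x))] at h
    exact mul_left_cancel₀ (mul_ne_zero (hk a) ((map_ne_zero (σ a)).2 (hk b))) h
  have hone : ∀ x, σ 1 x = x := fun x => by
    have h := (hcomp 1 1 x).1
    rw [mul_one] at h
    exact ((σ 1).injective h).symm
  have hap : ∀ a : ↥A, (a : G) ^ p = 1 := fun a => hA.1.2 a a.2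
  have huni : ∀ a : ↥A, (∀ x, σ a x = x) → ∃ c, ∀ v, N.toSec.ind (a : G) v =
      ((upp c : Matrix.SpecialLinearGroup (Fin 2) F) : Matrix (Fin 2) (Fin 2) F).mulVec v := fun a ha =>
    unipotent_form N h4 hSE hS (hAE a.2) (hAS a.2) (j := 1) (by rw [pow_one]; exact hap a)
      fun τ k' l' w' h' hw' _ x => by rw [huniq a τ k' l' w' h' hw', ha]
  by_cases hall : ∀ a : ↥A, ∀ x, σ a x = x
  · intro a ha; exact huni ⟨a, ha⟩ (hall _)
  exfalso
  push Not at hall
  obtain ⟨a0, x0, hx0⟩ := hall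
  -- the field part
  let _ : Algebra (ZMod p) F := ZMod.algebra F p
  let Φ : ↥A →* (F ≃ₐ[ZMod p] F) :=
    { toFun := fun a => AlgEquiv.ofRingEquiv
        (f := RingEquiv.ofBijective (σ a) (Finite.injective_iff_bijective.1 (σ a).injective))
        (fun x => DFunLike.congr_fun (Subsingleton.elim ((σ a).comp (algebraMap (ZMod p) F)) (algebraMap (ZMod p) F)) x)
      map_one' := AlgEquiv.ext hone
      map_mul' := fun a b => AlgEquiv.ext fun x => (hcomp a b x).1 }
  have hΦker : ∀ a : ↥A, a ∈ Φ.ker ↔ ∀ x, σ a x = x := fun a => by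
    rw [MonoidHom.mem_ker, AlgEquiv.ext_iff]; rfl
  have hΦcard : Nat.card Φ.range ≤ p := by
    obtain ⟨g, hg⟩ := IsCyclic.exists_generator (α := Φ.range)
    rw [← orderOf_eq_card_of_forall_mem_zpowers hg]
    refine Nat.le_of_dvd (Fact.out : p.Prime).pos (orderOf_dvd_of_pow_eq_one (Subtype.ext ?_))
    obtain ⟨a, ha⟩ := g.2
    rw [SubmonoidClass.coe_pow, ← ha, ← map_pow, show a ^ p = 1 from Subtype.ext (hap a), map_one]
    rfl
  -- the unipotent part
  have hu1 : ∀ a : Φ.ker, ∃ c, ∀ v, N.toSec.ind ((a : ↥A) : G) v =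
      ((upp c : Matrix.SpecialLinearGroup (Fin 2) F) : Matrix (Fin 2) (Fin 2) F).mulVec v :=
    fun a => huni a.1 ((hΦker a.1).1 a.2)
  choose c hc using hu1
  have hcu : ∀ (a : Φ.ker) (d : F), (∀ v, N.toSec.ind ((a : ↥A) : G) v =
      ((upp d : Matrix.SpecialLinearGroup (Fin 2) F) : Matrix (Fin 2) (Fin 2) F).mulVec v) → c a = d := fun a d h => by
    have h1 := congrFun ((hc a ![0, 1]).symm.trans (h ![0, 1])) 0
    rw [upp_mulVec, upp_mulVec] at h1
    simpa using h1
  let Ψ : Φ.ker →* Multiplicative F :=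
    { toFun := fun a => Multiplicative.ofAdd (c a)
      map_one' := by
        rw [hcu 1 0 (fun v => by
          rw [upp_zero, Matrix.SpecialLinearGroup.coe_one, Matrix.one_mulVec]
          exact N.toSec.ind_one v)]
        rfl
      map_mul' := fun a b => by
        rw [← ofAdd_add, hcu (a * b) (c a + c b) (fun v => by
          rw [← upp_mul, Matrix.SpecialLinearGroup.coe_mul, ← Matrix.mulVec_mulVec]
          show N.toSec.ind (((a : ↥A) : G) * ((b : ↥A) : G)) v = _
          rw [N.toSec.ind_mul (hnn a.1) (hnn b.1), hc b, hc a])] }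
  set CA := A ⊓ sectTriv p E with hCA
  have hΨker : Nat.card Ψ.ker ≤ Nat.card CA := by
    refine Nat.card_le_card_of_injective (fun a : Ψ.ker => (⟨((a.1 : ↥A) : G), (a.1 : ↥A).2, hAE (a.1 : ↥A).2,
      (N.toSec.ind_eq_self_iff (hnn a.1.1)).1 fun v => ?_⟩ : ↥CA)) ?_
    · have h0 : c a.1 = 0 := Multiplicative.ofAdd.injective (MonoidHom.mem_ker.1 a.2)
      rw [hc, h0, upp_zero, Matrix.SpecialLinearGroup.coe_one, Matrix.one_mulVec]
    · intro x y h
      exact Subtype.ext (Subtype.ext (Subtype.ext (congrArg (fun q : ↥CA => (q : G)) h)))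
  have hcardA : Nat.card A ≤ p * (Nat.card Ψ.range * Nat.card CA) := by
    rw [Φ.ker.card_eq_card_quotient_mul_card_subgroup, Nat.card_congr (QuotientGroup.quotientKerEquivRange Φ).toEquiv,
      Ψ.ker.card_eq_card_quotient_mul_card_subgroup, Nat.card_congr (QuotientGroup.quotientKerEquivRange Ψ).toEquiv]
    exact Nat.mul_le_mul hΦcard (Nat.mul_le_mul_left _ hΨker)
  -- fixed points
  set V := ⁅Wc E, E⁆ with hV
  have hVW : V ≤ Wc E := by
    rw [hV, Subgroup.commutator_le]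
    intro v hv e he
    rw [commutatorElement_def, mul_assoc v, mul_assoc v]
    exact mul_mem hv (conj_mem_normalizer (hE.nat.normalizes he) (inv_mem hv))
  have hcommW : ∀ a ∈ Wc E, ∀ b ∈ Wc E, a * b = b * a := fun a ha b hb =>
    omegaOneCenter_comm p _ hb (omegaOneCenter_le p _ ha)
  have hUW : V ⊔ Zc E = Wc E := by
    rcases hE.nat.irred (V ⊔ Zc E) le_sup_right (sup_le hVW inf_le_left) (fun e he u hu => by
      refine conj_mem_normalizer (?_ : e ∈ Subgroup.normalizer ((V ⊔ Zc E : Subgroup G) : Set G)) hu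
      have h1 : e ∈ Subgroup.normalizer (V : Set G) :=
        commutator_normalized (hE.nat.normalizes he) (Subgroup.le_normalizer he)
      have h2 : e ∈ Subgroup.normalizer ((Zc E : Subgroup G) : Set G) := hE.normalizes_z he
      refine mem_normalizer_of_map_le fun z hz => ?_
      have hmem : (MulAut.conj e).toMonoidHom z ∈ (V ⊔ Zc E).map (MulAut.conj e).toMonoidHom := ⟨z, hz, rfl⟩
      rw [Subgroup.map_sup] at hmem
      refine (show _ ≤ V ⊔ Zc E from sup_le_sup ?_ ?_) hmem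
      · rintro _ ⟨q, hq, rfl⟩; exact conj_mem_normalizer h1 hq
      · rintro _ ⟨q, hq, rfl⟩; exact conj_mem_normalizer h2 hq) with h | h
    · exfalso
      refine block_moves_commutator T0 hT0 fun e he q hq => ?_
      exact Subgroup.mem_centralizer_iff.1 (h.le (Subgroup.mem_sup_left hq)).2 e he
    · exact h
  let ψV : ↥V →* Multiplicative (Fin 2 → F) := N.ψ.comp (Subgroup.inclusion hVW)
  have hψV : ∀ v : ↥V, Multiplicative.toAdd (ψV v) = N.toSec.val (v : G) := fun v =>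
    (N.toSec.val_eq ⟨v, hVW v.2⟩).symm
  have hker : ∀ v : ↥V, ψV v = 1 ↔ (v : G) ∈ V ⊓ Zc E := fun v =>
    (N.ker ⟨v, hVW v.2⟩).trans ⟨fun h => ⟨v.2, h⟩, fun h => h.2⟩
  have hcardV : Nat.card V = Nat.card (Fin 2 → F) * Nat.card ↥(V ⊓ Zc E) := by
    rw [card_of_image ψV inf_le_left hker, MonoidHom.range_eq_top.2 ?_, Subgroup.card_top,
      Nat.card_congr Multiplicative.toAdd]
    intro x
    obtain ⟨u, hu⟩ := N.surj x
    have hu' : (u : G) ∈ V ⊔ Zc E := hUW.ge u.2
    rw [← SetLike.mem_coe, Subgroup.coe_mul_of_left_le_normalizer_right V (Zc E)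
      (fun v hv => mem_normalizer_of_map_le fun z hz => by
        rw [hcommW v (hVW hv) z hz.1, mul_inv_cancel_right]; exact hz)] at hu'
    obtain ⟨v, hv, z, hz, hvz⟩ := hu'
    refine ⟨⟨v, hv⟩, ?_⟩
    rw [← hu, show u = ⟨v, hVW hv⟩ * ⟨z, hz.1⟩ from Subtype.ext hvz.symm, map_mul, (N.ker ⟨z, hz.1⟩).2 hz, mul_one]
    rfl
  set VA := V ⊓ Subgroup.centralizer (A : Set G) with hVA
  let Cb := {v : Fin 2 → F // ∀ a : ↥A, N.toSec.ind (a : G) v = v}
  have hVAcard : Nat.card VA ≤ Nat.card Cb * Nat.card ↥(V ⊓ Zc E) := by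
    let ψA : ↥VA →* Multiplicative (Fin 2 → F) := ψV.comp (Subgroup.inclusion inf_le_left)
    have hk' : ∀ v : ↥VA, ψA v = 1 ↔ (v : G) ∈ VA ⊓ Zc E := fun v =>
      (hker ⟨v, v.2.1⟩).trans ⟨fun h => ⟨v.2, h.2⟩, fun h => ⟨h.1.1, h.2⟩⟩
    rw [card_of_image ψA inf_le_left hk']
    refine Nat.mul_le_mul ?_ (Subgroup.card_le_of_le (inf_le_inf inf_le_left le_rfl))
    refine Nat.card_le_card_of_injective (fun x : ψA.range => (⟨Multiplicative.toAdd x.1, fun a => ?_⟩ : Cb)) ?_
    · obtain ⟨v, hv⟩ := x.2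
      rw [← hv, show Multiplicative.toAdd (ψA v) = N.toSec.val (v : G) from hψV ⟨v, v.2.1⟩,
        N.toSec.ind_val (hnn a) (hVW v.2.1), Subgroup.mem_centralizer_iff.1 v.2.2 a a.2, mul_inv_cancel_right]
    · intro x y h
      exact Subtype.ext (Multiplicative.toAdd.injective (congrArg (fun q => q.1) h))
  have hXel : IsElementaryAbelian p V := by
    refine PLocal.isElementaryAbelian_of_le ⟨⟨⟨fun a b => Subtype.ext (hcommW a a.2 b b.2)⟩⟩,
      fun x hx => omegaOneCenter_pow p _ hx⟩ hVW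
  have hCAle : CA ≤ A ⊓ Subgroup.centralizer (V : Set G) := fun a ha =>
    ⟨ha.1, Subgroup.mem_centralizer_iff.2 fun v hv =>
      (mul_inv_eq_iff_eq_mul.1 (sectTriv_centralizes hE.nat ha.2 v hv)).symm⟩
  have hq2 : Fintype.card F * Fintype.card F ≤ p * (Nat.card Ψ.range * Nat.card Cb) := by
    refine Nat.le_of_mul_le_mul_right (c := Nat.card CA * Nat.card ↥(V ⊓ Zc E)) ?_ (Nat.mul_pos Nat.card_pos Nat.card_pos)
    calc Fintype.card F * Fintype.card F * (Nat.card CA * Nat.card ↥(V ⊓ Zc E))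
        = Nat.card V * Nat.card CA := by
          rw [hcardV, Nat.card_fun, Nat.card_eq_fintype_card (α := F), Nat.card_eq_fintype_card (α := Fin 2),
            Fintype.card_fin]; ring
      _ ≤ Nat.card V * Nat.card ↥(A ⊓ Subgroup.centralizer (V : Set G)) :=
          Nat.mul_le_mul_left _ (Subgroup.card_le_of_le hCAle)
      _ ≤ Nat.card A * Nat.card VA := maxElem_le hA hXel
      _ ≤ p * (Nat.card Ψ.range * Nat.card CA) * (Nat.card Cb * Nat.card ↥(V ⊓ Zc E)) := Nat.mul_le_mul hcardA hVAcard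
      _ = _ := by ring
  -- the counting
  set q0 := Nat.card {x : F // σ a0 x = x} with hq0
  have hnid : ¬ ∀ x, σ a0 x = x := fun h => hx0 (h x0)
  have hqq : q0 ^ p = Fintype.card F := card_fixed_field (σ a0) hnid
    ((hf a0).sigma_pow (hw a0) (fun v => by rw [← ind_iterate N.toSec (hnn a0), hap, N.toSec.ind_one]))
  have hΨle : Nat.card Ψ.range ≤ q0 := by
    refine le_trans ?_ (card_fixed_semilinear (σ a0) (div_ne_zero (hk a0) (hl a0)))
    refine Nat.card_le_card_of_injective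
      (fun x : Ψ.range => (⟨Multiplicative.toAdd x.1, ?_⟩ : {x : F // k a0 / l a0 * σ a0 x = x})) ?_
    · obtain ⟨a, ha⟩ := x.2
      rw [← ha]
      show k a0 / l a0 * σ a0 (c a) = c a
      have hcom : ∀ v, N.toSec.ind (a0 : G) (N.toSec.ind ((a : ↥A) : G) v) =
          N.toSec.ind ((a : ↥A) : G) (N.toSec.ind (a0 : G) v) := fun v => by
        rw [← N.toSec.ind_mul (hnn a0) (hnn a.1), ← N.toSec.ind_mul (hnn a.1) (hnn a0),
          Subgroup.mul_comm_of_mem_isMulCommutative A a0.2 a.1.2]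
      have h := congrFun (hcom ![0, 1]) 0
      rw [hc, hc, upp_mulVec, hf a0 0 1, upp_mulVec, hf a0] at h
      simp at h
      rw [div_mul_eq_mul_div, div_eq_iff (hl a0)]
      linear_combination h
    · intro x y h
      exact Subtype.ext (Multiplicative.toAdd.injective (congrArg (fun q => q.1) h))
  have hline : Nat.card {x : F // k a0 * σ a0 x = x} ≤ q0 := card_fixed_semilinear _ (hk a0)
  have hsecond : Nat.card {x : F // l a0 * σ a0 x = x} ≤ q0 := card_fixed_semilinear _ (hl a0)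
  have hprod : Nat.card Ψ.range * Nat.card Cb ≤ q0 * q0 := by
    by_cases hb : ∃ a, c a ≠ 0
    · obtain ⟨a, ha⟩ := hb
      refine Nat.mul_le_mul hΨle (le_trans ?_ hline)
      have hzero : ∀ v : Cb, v.1 1 = 0 := fun v => by
        have h := congrFun (v.2 a.1) 0
        rw [hc, upp_mulVec] at h
        simpa [ha] using h
      refine Nat.card_le_card_of_injective (fun v : Cb => (⟨v.1 0, ?_⟩ : {x : F // k a0 * σ a0 x = x})) ?_
      · have hp := pair_eta v.1
        rw [hzero] at hp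
        have h := congrFun (v.2 a0) 0
        rw [hp, hf a0] at h
        simpa [hw] using h
      · intro v v' h
        refine Subtype.ext (funext fun i => ?_)
        fin_cases i
        · exact congrArg Subtype.val h
        · exact (hzero v).trans (hzero v').symm
    · push Not at hb
      have h1 : Nat.card Ψ.range = 1 := by
        rw [Subgroup.card_eq_one, MonoidHom.range_eq_bot_iff]
        exact MonoidHom.ext fun a => congrArg Multiplicative.ofAdd (hb a)
      rw [h1, one_mul]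
      let rr : Cb → Cb := fun v => (⟨v, rfl⟩ : ∃ w : Cb, w.1 1 = v.1 1).choose
      have hrr : ∀ v, (rr v).1 1 = v.1 1 := fun v => (⟨v, rfl⟩ : ∃ w : Cb, w.1 1 = v.1 1).choose_spec
      have hrr' : ∀ v v' : Cb, v.1 1 = v'.1 1 → rr v = rr v' := fun v v' h => by
        show Exists.choose _ = Exists.choose _
        congr 1
        funext w
        rw [h]
      refine le_trans (Nat.card_le_card_of_injective
        (fun v : Cb => ((⟨v.1 1, ?_⟩ : {x : F // l a0 * σ a0 x = x}),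
          (⟨v.1 0 - (rr v).1 0, ?_⟩ : {x : F // k a0 * σ a0 x = x}))) ?_)
        (by rw [Nat.card_prod]; exact Nat.mul_le_mul hsecond hline)
      · have h := congrFun (v.2 a0) 1
        rw [pair_eta v.1, hf a0] at h
        simpa using h
      · have h1 := congrFun (v.2 a0) 0
        have h2 := congrFun ((rr v).2 a0) 0
        rw [pair_eta v.1, hf a0] at h1
        rw [pair_eta (rr v).1, hf a0, hrr] at h2
        simp at h1 h2
        rw [map_sub, mul_sub]
        linear_combination h1 - h2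
      · intro v v' h
        have e1 : v.1 1 = v'.1 1 := congrArg (fun q => (q.1 : {x : F // l a0 * σ a0 x = x}).1) h
        have e2 : v.1 0 - (rr v).1 0 = v'.1 0 - (rr v').1 0 := congrArg (fun q => (q.2 : {x : F // k a0 * σ a0 x = x}).1) h
        rw [hrr' v v' e1, sub_left_inj] at e2
        refine Subtype.ext (funext fun i => ?_)
        fin_cases i
        · exact e2
        · exact e1
  have hfinal : q0 ^ p * q0 ^ p ≤ p * (q0 * q0) := by
    rw [hqq]; exact hq2.trans (Nat.mul_le_mul_left p hprod)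
  have hq01 : 2 ≤ q0 := by
    rw [hq0]
    haveI : Nontrivial {x : F // σ a0 x = x} :=
      ⟨⟨⟨0, map_zero _⟩, ⟨1, map_one _⟩, fun h => zero_ne_one (congrArg Subtype.val h)⟩⟩
    exact Finite.one_lt_card
  obtain ⟨r, hr⟩ : ∃ r, p = r + 2 := ⟨p - 2, by have := (Fact.out : p.Prime).two_le; omega⟩
  rw [hr, show q0 ^ (r + 2) * q0 ^ (r + 2) = (q0 ^ (r + 1) * q0 ^ (r + 1)) * (q0 * q0) by ring] at hfinal
  have h3 : q0 ^ (r + 1) * q0 ^ (r + 1) ≤ r + 2 := Nat.le_of_mul_le_mul_right hfinal (by positivity)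
  have h4' : r + 2 ≤ 2 ^ (r + 1) := by have := Nat.lt_two_pow_self (n := r + 1); omega
  have h5 : 2 ^ (r + 1) ≤ q0 ^ (r + 1) := Nat.pow_le_pow_left hq01 _
  nlinarith

/-- `B(T)` induces inner automorphisms on a block over a field with at least four elements. -/
theorem baumann_le_ecSub_big (hG : Subgroup.centralizer (pCore p G : Set G) ≤ pCore p G) (hE : IsSubBlock p E)
    (M : SLModel E (Qc E) (Wc E) (Zc E) F) (h4 : 4 ≤ Fintype.card F) {n : ℕ} (hcard : Fintype.card F = p ^ n)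
    (T : Sylow p G) : baumannSubgroupOf p (T : Subgroup G) ≤ ecSub p E := by
  classical
  have := SLModel.charP (F := F) hcard
  have hSy := FusionSystem.isSylowIn_inf_of_isSubnormal T hE.2
  set S := (T : Subgroup G) ⊓ E with hSdef
  obtain ⟨N, hN⟩ := M.normal_form h4 hcard ((CfsgLib.isPGroup_pCore p).map _) S hSy.2.1 inf_le_right
    fun S' h1 h2 h3 => (Subgroup.eq_of_le_of_card_ge h1 (hSy.card_le h3 h2)).ge
  have hblock := block_all hG hE T
  obtain ⟨x, hxX, hxT, hmv⟩ := exists_moving_fixed hG hblock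
  have hTS : ∀ g ∈ (T : Subgroup G), g ∈ Subgroup.normalizer (E : Set G) → g ∈ Subgroup.normalizer (S : Set G) :=
    fun g hg hgE => inf_normalizer_le _ _ ⟨Subgroup.le_normalizer hg, hgE⟩
  set J := thompsonSubgroupOf p (T : Subgroup G) with hJ
  have hJT : J ≤ (T : Subgroup G) := Subgroup.map_subtype_le _
  let L : Subgroup G :=
    { carrier := {g | g ∈ Sec.nn (Wc E) (Zc E) ∧ ∃ c, ∀ v, N.toSec.ind g v =
        ((upp c : Matrix.SpecialLinearGroup (Fin 2) F) : Matrix (Fin 2) (Fin 2) F).mulVec v}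
      one_mem' := ⟨one_mem _, 0, fun v => by
        rw [upp_zero, Matrix.SpecialLinearGroup.coe_one, Matrix.one_mulVec, N.toSec.ind_one]⟩
      mul_mem' := fun {a b} ⟨ha, c, hc⟩ ⟨hb, d, hd⟩ => ⟨mul_mem ha hb, c + d, fun v => by
        rw [N.toSec.ind_mul ha hb, hd, hc, ← upp_mul, Matrix.SpecialLinearGroup.coe_mul, Matrix.mulVec_mulVec]⟩
      inv_mem' := fun {a} ⟨ha, c, hc⟩ => ⟨inv_mem ha, -c, fun v => by
        refine N.toSec.ind_injective ha ?_
        rw [← N.toSec.ind_mul ha (inv_mem ha), mul_inv_cancel, N.toSec.ind_one, hc, Matrix.mulVec_mulVec,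
          ← Matrix.SpecialLinearGroup.coe_mul, upp_mul, add_neg_cancel, upp_zero, Matrix.SpecialLinearGroup.coe_one,
          Matrix.one_mulVec]⟩ }
  have hJL : J ≤ L := by
    rw [hJ, thompsonSubgroupOf, Subgroup.map_le_iff_le_comap]
    refine sSup_le fun A hA => Subgroup.map_le_iff_le_comap.1 ?_
    have hA' := PLocal.map_mem_max hA
    have hAT : A.map (T : Subgroup G).subtype ≤ (T : Subgroup G) := Subgroup.map_subtype_le _
    have hAE := maxElem_fixes hG hE hA'
    exact fun a ha => ⟨normalizer_le_nn E (hAE ha), maxElem_unipotent hG hE N h4 inf_le_right hN hA' hAE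
      (fun g hg => hTS g (hAT hg) (hAE hg)) a ha⟩
  have hJE : J ≤ Subgroup.normalizer (E : Set G) := thompson_fixes hG hE T
  have hconjJ : ∀ h : ↥E, (h : G) ∈ Subgroup.normalizer (S : Set G) → ∀ j ∈ J,
      j⁻¹ * (h : G)⁻¹ * j * h ∈ S := by
    intro h hhS j hj
    obtain ⟨hjn, u, hu⟩ := hJL hj
    have hrE : j⁻¹ * (h : G)⁻¹ * j * h ∈ E :=
      mul_mem (by simpa using conj_mem_normalizer (inv_mem (hJE hj)) (inv_mem h.2)) h.2
    obtain ⟨s, hs⟩ := N.range_top h4 (upp u)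
    have hsS : (s : G) ∈ S := (hN s).2 ⟨u, hs⟩
    obtain ⟨d, hd⟩ := (hN (h⁻¹ * s * h)).1 (by
      simpa using conj_mem_normalizer (inv_mem hhS) hsS)
    refine (hN ⟨_, hrE⟩).2 ⟨-u + d, sl2_faithful_eq fun v => ?_⟩
    rw [← N.ind_eq]
    show N.toSec.ind (j⁻¹ * (h : G)⁻¹ * j * h) v = _
    rw [mul_assoc, mul_assoc, N.toSec.ind_mul (inv_mem hjn) (mul_mem (inv_mem (N.le_nn h.2)) (mul_mem hjn (N.le_nn h.2)))]
    refine N.toSec.ind_injective hjn ?_
    rw [← N.toSec.ind_mul hjn (inv_mem hjn), mul_inv_cancel, N.toSec.ind_one, hu, Matrix.mulVec_mulVec,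
      ← Matrix.SpecialLinearGroup.coe_mul, upp_mul, add_neg_cancel_left, ← hd,
      N.toSec.ind_mul (inv_mem (N.le_nn h.2)) (mul_mem hjn (N.le_nn h.2)), N.toSec.ind_mul hjn (N.le_nn h.2), hu,
      N.ind_eq h, ← Subgroup.coe_inv, N.ind_eq h⁻¹, Matrix.mulVec_mulVec, Matrix.mulVec_mulVec,
      ← Matrix.SpecialLinearGroup.coe_mul, ← Matrix.SpecialLinearGroup.coe_mul, ← hs, ← map_mul, ← map_mul,
      mul_assoc]
  let Λ : Set F := {c | ∃ y, y ∈ Xc ∧ y ∈ Wc E ∧ (∀ j ∈ J, j * y * j⁻¹ = y) ∧ (∀ s ∈ S, s * y = y * s) ∧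
    N.toSec.val y = ![c, 0]}
  have hfixS : ∀ s ∈ S, s * x = x * s := fun s hs => hxT s hs.1
  have hmkd : ∀ h : ↥E, (h : G) ∈ Subgroup.normalizer (S : Set G) → ∀ y : G,
      (∀ j ∈ J, j * y * j⁻¹ = y) → (∀ s ∈ S, s * y = y * s) →
      (∀ j ∈ J, j * ((h : G) * y * (h : G)⁻¹) * j⁻¹ = (h : G) * y * (h : G)⁻¹) ∧
      ∀ s ∈ S, s * ((h : G) * y * (h : G)⁻¹) = (h : G) * y * (h : G)⁻¹ * s := by
    intro h hhS y hyJ hyS
    refine ⟨fun j hj => ?_, fun s hs => ?_⟩
    · have hr := hconjJ h hhS j hj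
      set r := j⁻¹ * (h : G)⁻¹ * j * h with hrdef
      have h1 : r * y * r⁻¹ = y := by rw [hyS r hr, mul_inv_cancel_right]
      calc j * ((h : G) * y * (h : G)⁻¹) * j⁻¹ = (h : G) * (j * (r * y * r⁻¹) * j⁻¹) * (h : G)⁻¹ := by
            rw [hrdef]; group
        _ = _ := by rw [h1, hyJ j hj]
    · have hs' : (h : G)⁻¹ * s * h ∈ S := by simpa using conj_mem_normalizer (inv_mem hhS) hs
      calc s * ((h : G) * y * (h : G)⁻¹) = (h : G) * (((h : G)⁻¹ * s * h) * y) * (h : G)⁻¹ := by group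
        _ = _ := by rw [hyS _ hs']; group
  have hline : ∀ y ∈ Wc E, (∀ s ∈ S, s * y = y * s) → N.toSec.val y = ![N.toSec.val y 0, 0] := by
    intro y hy hyS
    obtain ⟨e, he⟩ := N.range_top h4 (upp 1)
    have h := congrFun (N.ind_eq e (N.toSec.val y)) 0
    rw [N.toSec.ind_val (N.le_nn e.2) hy, hyS _ ((hN e).2 ⟨1, he⟩), mul_inv_cancel_right, he, upp_mulVec] at h
    simp at h
    conv_lhs => rw [pair_eta (N.toSec.val y), h]
  have hd0 : ∃ c ∈ Λ, c ≠ 0 := by
    by_contra hcon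
    push Not at hcon
    obtain ⟨h0, hh0, hh0S, hne⟩ := torus_moves N h4 hblock.1 inf_le_right hN hfixS (fun e he => by
      have h1 : ⁅x, e⁆ ∈ Xc := by
        rw [commutatorElement_def, mul_assoc x, mul_assoc x]
        exact mul_mem hxX (omega_core_normal.conj_mem _ (inv_mem hxX) e)
      rw [show e * x * e⁻¹ * x⁻¹ = ⁅x, e⁆⁻¹ by rw [commutatorElement_def]; group]
      exact inv_mem (mem_wc h1 (hE.conj_mem (omegaOneCenter_le p _ hxX) he) fun q hq =>
        omegaOneCenter_comm p _ h1 (hE.q_le_core hq))) hmv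
    set NS := E ⊓ Subgroup.normalizer (S : Set G) with hNS
    have hd : ∀ h ∈ NS, h * x * h⁻¹ * x⁻¹ ∈ Zc E := by
      intro h hh
      have h1 : h * x * h⁻¹ * x⁻¹ ∈ Xc := mul_mem (omega_core_normal.conj_mem _ hxX h) (inv_mem hxX)
      have h2 : h * x * h⁻¹ * x⁻¹ ∈ Wc E := mem_wc h1 (by
        rw [show h * x * h⁻¹ * x⁻¹ = ⁅x, h⁆⁻¹ by rw [commutatorElement_def]; group]
        exact inv_mem (hE.conj_mem (omegaOneCenter_le p _ hxX) hh.1)) fun q hq =>
          omegaOneCenter_comm p _ h1 (hE.q_le_core hq)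
      have hxJ : ∀ j ∈ J, j * x * j⁻¹ = x := fun j hj => by rw [hxT j (hJT hj), mul_inv_cancel_right]
      obtain ⟨hJ', hS'⟩ := hmkd ⟨h, hh.1⟩ hh.2 x hxJ hfixS
      have hJd : ∀ j ∈ J, j * (h * x * h⁻¹ * x⁻¹) * j⁻¹ = h * x * h⁻¹ * x⁻¹ := fun j hj => by
        have e1 : j * x⁻¹ * j⁻¹ = x⁻¹ := by
          conv_rhs => rw [← hxJ j hj]
          group
        calc j * (h * x * h⁻¹ * x⁻¹) * j⁻¹ = (j * (h * x * h⁻¹) * j⁻¹) * (j * x⁻¹ * j⁻¹) := by group
          _ = _ := by rw [hJ' j hj, e1]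
      have hSd : ∀ s ∈ S, s * (h * x * h⁻¹ * x⁻¹) = h * x * h⁻¹ * x⁻¹ * s := fun s hs =>
        ((show Commute s (h * x * h⁻¹) from hS' s hs).mul_right (show Commute s x from hfixS s hs).inv_right).eq
      refine (N.toSec.val_eq_zero h2).1 ?_
      have hv := hline _ h2 hSd
      by_contra hne'
      refine hne' ?_
      rw [hv, hcon (N.toSec.val (h * x * h⁻¹ * x⁻¹) 0) ⟨_, h1, h2, hJd, hSd, hv⟩]
      ext i; fin_cases i <;> rfl
    haveI : (S.subgroupOf NS).Normal :=
      (Subgroup.normal_subgroupOf_iff_le_normalizer (le_inf inf_le_right Subgroup.le_normalizer)).2 inf_le_right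
    have hmem : h0 ^ S.relIndex NS ∈ S := Subgroup.pow_index_mem (H := S.subgroupOf NS) ⟨h0, hh0, hh0S⟩
    set d := h0 * x * h0⁻¹ * x⁻¹ with hddef
    have hdh : h0 * d * h0⁻¹ = d := by
      rw [Subgroup.mem_centralizer_iff.1 (hd h0 ⟨hh0, hh0S⟩).2 h0 hh0, mul_inv_cancel_right]
    have hpow : ∀ i : ℕ, h0 ^ i * x * (h0 ^ i)⁻¹ = d ^ i * x := by
      intro i
      induction i with
      | zero => simp
      | succ i ih =>
        calc h0 ^ (i + 1) * x * (h0 ^ (i + 1))⁻¹ = h0 * (h0 ^ i * x * (h0 ^ i)⁻¹) * h0⁻¹ := by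
              rw [pow_succ']; group
          _ = (h0 * d ^ i * h0⁻¹) * (h0 * x * h0⁻¹) := by rw [ih]; group
          _ = d ^ (i + 1) * x := by rw [← conj_pow, hdh, pow_succ, hddef]; group
    have h1 := hpow (S.relIndex NS)
    rw [hfixS _ hmem, mul_inv_cancel_right, right_eq_mul] at h1
    have hdp : d ^ p = 1 := omegaOneCenter_pow p _ (hd h0 ⟨hh0, hh0S⟩).1
    have hd1 : d = 1 := by
      refine orderOf_eq_one_iff.1 (Nat.eq_one_of_dvd_coprimes ((Nat.Prime.coprime_iff_not_dvd (Fact.out : p.Prime)).2 ?_)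
        (orderOf_dvd_of_pow_eq_one hdp) (orderOf_dvd_of_pow_eq_one h1))
      exact fun hdvd => hSy.2.2 (hdvd.trans (Dvd.intro _
        (Subgroup.relIndex_mul_relIndex _ _ _ (le_inf inf_le_right Subgroup.le_normalizer) inf_le_left)))
    exact hne (mul_inv_eq_iff_eq_mul.1 (mul_inv_eq_one.1 hd1))
  obtain ⟨c0, ⟨y0, hy0X, hy0W, hy0J, hy0S, hy0v⟩, hc0⟩ := hd0
  have hall : ∀ a : F, a ≠ 0 → a ∈ Λ := by
    intro a ha
    have ht : a / c0 ≠ 0 := div_ne_zero ha hc0
    obtain ⟨h, hh⟩ := N.range_top h4 (dia (a / c0) ht)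
    have hhS : (h : G) ∈ Subgroup.normalizer (S : Set G) := mem_normalizer_of_map_le fun z hz => by
      obtain ⟨c, hc⟩ := (hN ⟨z, hz.2⟩).1 hz
      refine (hN (h * ⟨z, hz.2⟩ * h⁻¹)).2 ⟨a / c0 * (a / c0) * c, ?_⟩
      rw [map_mul, map_mul, map_inv, hh, hc, dia_conj_upp, mul_inv_cancel_right]
    obtain ⟨e1, e2⟩ := hmkd h hhS y0 hy0J hy0S
    refine ⟨_, omega_core_normal.conj_mem _ hy0X _, conj_mem_normalizer (N.le_nn h.2).1 hy0W, e1, e2, ?_⟩
    rw [← N.toSec.ind_val (N.le_nn h.2) hy0W, N.ind_eq, hy0v, hh]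
    ext i
    fin_cases i <;> simp [dia, Matrix.mulVec, dotProduct, Fin.sum_univ_two, hc0]
  intro b hb
  have hbE := baumann_fixes hG hE T hb
  have hbS := hTS b hb.1 hbE
  obtain ⟨j, hj⟩ := T.isPGroup' ⟨b, hb.1⟩
  obtain ⟨c, hc⟩ := unipotent_form N h4 inf_le_right hN hbE hbS (j := j) (congrArg Subtype.val hj)
    (fun σ k l w hf hw0 hk a => by
      have key : ∀ a, a ≠ 0 → k * σ a = a := fun a ha => by
        obtain ⟨y, hyX, hyW, hyJ, -, hyv⟩ := hall a ha
        have hby : b * y * b⁻¹ = y := by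
          rw [← Subgroup.mem_centralizer_iff.1 hb.2 y (mem_thompson_omega T hyX hyJ), mul_inv_cancel_right]
        have h := congrFun (N.toSec.ind_val (normalizer_le_nn E hbE) hyW) 0
        rw [hby, hyv, hf] at h
        simpa [hw0] using h
      have hk1 : k = 1 := by simpa using key 1 one_ne_zero
      by_cases ha : a = 0
      · rw [ha, map_zero]
      · simpa [hk1] using key a ha)
  obtain ⟨s, hs⟩ := N.range_top h4 (upp c)
  exact mem_ecSub_of_ind_eq N.toSec hbE s fun v => by rw [hc, N.ind_eq, hs]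

end Big

end CfsgLib.BBlock
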