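import Cfsg.Agent.Lib.Baumann.SecSL
import Cfsg.Agent.Lib.Baumann.AltSplit
import Cfsg.Agent.Lib.Fusion.ConstrainedGroups
import Cfsg.Agent.Lib.CoprimeAbelian

/-!
A `p`-group normalizing a subnormal block fixes a non-trivial part of the block module.
-/

set_option autoImplicit false
set_option linter.unusedSectionVars false

namespace CfsgLib.BBlock

open Cfsg
open scoped commutatorElement

variable {G : Type*} [Group G] [Finite G] {p : ℕ} [Fact p.Prime] {E D : Subgroup G}

local notation:max "Qc" E:max => pCoreOf p E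
local notation:max "Wc" E:max => omegaOneCenter p (pCoreOf p E)
local notation:max "Zc" E:max => omegaOneCenter p (pCoreOf p E) ⊓ Subgroup.centralizer (E : Set G)
local notation "Xc" => omegaOneCenter p (pCore p G)

theorem normalizer_omega_core : Subgroup.normalizer ((Xc : Subgroup G) : Set G) = ⊤ := by
  refine top_le_iff.1 (le_trans ?_ (normalizer_le_normalizer_omegaOneCenter p _))
  exact (Subgroup.normalizer_eq_top (pCore p G)).ge

theorem omega_core_normal : (Xc : Subgroup G).Normal :=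
  Subgroup.normalizer_eq_top_iff.1 normalizer_omega_core

theorem mem_omega_of_centralizes (hG : Subgroup.centralizer (pCore p G : Set G) ≤ pCore p G) {x : G}
    (hx : x ∈ Subgroup.centralizer (pCore p G : Set G)) (hp : x ^ p = 1) : x ∈ Xc :=
  Subgroup.subset_closure ⟨⟨hG hx, hx⟩, hp⟩

/-- An element of `Ω₁Z(O_p(G)) ∩ O_p(E)` commuting with `O_p(E)` lies in `Ω₁Z(O_p(E))`. -/
theorem mem_wc {c : G} (hX : c ∈ Xc) (hQ : c ∈ Qc E) (hcomm : ∀ q ∈ Qc E, q * c = c * q) : c ∈ Wc E :=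
  Subgroup.subset_closure ⟨⟨hQ, Subgroup.mem_centralizer_iff.2 hcomm⟩, omegaOneCenter_pow p _ hX⟩

/-- Some element of `Ω₁Z(T)` moves the block, and lies in `Ω₁Z(O_p(G))`. -/
theorem exists_moving_fixed (hG : Subgroup.centralizer (pCore p G : Set G) ≤ pCore p G) {T : Sylow p G}
    (hT : IsBaumannBlock p (T : Subgroup G) E) :
    ∃ x ∈ Xc, (∀ t ∈ (T : Subgroup G), t * x = x * t) ∧ ∃ e ∈ E, e * x ≠ x * e := by
  by_contra hcon
  simp only [not_exists, not_and, not_not] at hcon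
  apply hT.2.2.2.1
  rw [Subgroup.commutator_eq_bot_iff_le_centralizer]
  intro e he
  have hle : omegaOneCenter p (T : Subgroup G) ≤ Subgroup.centralizer {e} := by
    refine (Subgroup.closure_le _).2 fun x hx => ?_
    have hxT : ∀ t ∈ (T : Subgroup G), t * x = x * t := fun t ht => Subgroup.mem_centralizer_iff.1 hx.1.2 t ht
    have hxR : x ∈ Subgroup.centralizer (pCore p G : Set G) :=
      Subgroup.mem_centralizer_iff.2 fun r hr => hxT r (CfsgLib.pCore_le_sylow T hr)
    exact Subgroup.mem_centralizer_singleton_iff.2 (hcon x (mem_omega_of_centralizes hG hxR hx.2) hxT e he).symm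
  exact Subgroup.mem_centralizer_iff.2 fun x hx => Subgroup.mem_centralizer_singleton_iff.1 (hle hx)

/-- Coprime action of `N` on an abelian `p`-group centralized by its Sylow subgroup. -/
theorem coprime_commutator {S N : Subgroup G} (Y : Subgroup G) (hSN : S ≤ N)
    (hNS : N ≤ Subgroup.normalizer (S : Set G)) (hS : IsPGroup p S)
    (hidx : ¬ p ∣ S.relIndex N) (hY : IsPGroup p Y) (hYc : ∀ a ∈ Y, ∀ b ∈ Y, a * b = b * a)
    (hNY : N ≤ Subgroup.normalizer (Y : Set G)) (hSY : ∀ s ∈ S, ∀ y ∈ Y, s * y = y * s)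
    (hmove : ∃ h ∈ N, ∃ y ∈ Y, h * y ≠ y * h) :
    ⁅Y, N⁆ ⊓ Subgroup.centralizer (N : Set G) = ⊥ ∧ ⁅Y, N⁆ ≠ ⊥ ∧ Nat.card ↥⁅Y, N⁆ ≠ 2 := by
  haveI : (S.subgroupOf N).Normal := (Subgroup.normal_subgroupOf_iff_le_normalizer hSN).2 hNS
  have hcop : (Nat.card ↥(S.subgroupOf N)).Coprime (S.subgroupOf N).index := by
    rw [Nat.card_congr (Subgroup.subgroupOfEquivOfLe hSN).toEquiv]
    obtain ⟨k, hk⟩ := IsPGroup.iff_card.1 hS
    rw [hk]
    exact Nat.Coprime.pow_left k ((Nat.Prime.coprime_iff_not_dvd Fact.out).2 hidx)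
  obtain ⟨A', hA'⟩ := Subgroup.exists_right_complement'_of_coprime hcop
  set A := A'.map N.subtype with hA
  have hAN : A ≤ N := Subgroup.map_subtype_le _
  have hcard : Nat.card A = S.relIndex N := by
    rw [hA, Subgroup.card_map_of_injective N.subtype_injective]
    exact hA'.symm.index_eq_card.symm
  have hdec : ∀ h ∈ N, ∃ s ∈ S, ∃ a ∈ A, h = s * a := fun h hh => by
    obtain ⟨⟨s, a⟩, he⟩ := hA'.2 ⟨h, hh⟩
    exact ⟨_, s.2, _, ⟨_, a.2, rfl⟩, (congrArg Subtype.val he).symm⟩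
  haveI : IsMulCommutative ↥Y := ⟨⟨fun a b => Subtype.ext (hYc a a.2 b b.2)⟩⟩
  have hAY : A ≤ Subgroup.normalizer (Y : Set G) := hAN.trans hNY
  have hcop2 : (Nat.card A).Coprime (Nat.card Y) := by
    obtain ⟨k, hk⟩ := IsPGroup.iff_card.1 hY
    rw [hk, hcard]
    exact Nat.Coprime.pow_right k ((Nat.Prime.coprime_iff_not_dvd Fact.out).2 hidx).symm
  have heq : ⁅Y, N⁆ ≤ ⁅Y, A⁆ := by
    rw [Subgroup.commutator_le]
    intro y hy h hh
    obtain ⟨s, hs, a, ha, rfl⟩ := hdec h hh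
    have hay : a * y⁻¹ * a⁻¹ ∈ Y := conj_mem_normalizer (hAY ha) (inv_mem hy)
    have h1 : ⁅y, s * a⁆ = ⁅y, a⁆ := by
      rw [commutatorElement_def, commutatorElement_def,
        show y * (s * a) * y⁻¹ * (s * a)⁻¹ = y * (s * (a * y⁻¹ * a⁻¹) * s⁻¹) by group,
        hSY s hs _ hay, mul_inv_cancel_right]
      group
    rw [h1]
    exact Subgroup.commutator_mem_commutator hy ha
  have hAC : ⁅Y, N⁆ ⊓ Subgroup.centralizer (A : Set G) = ⊥ := by
    have hYN : ⁅Y, N⁆ ≤ Y := by
      rw [Subgroup.commutator_le]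
      intro y hy h hh
      rw [commutatorElement_def, mul_assoc y, mul_assoc y]
      exact mul_mem hy (conj_mem_normalizer (hNY hh) (inv_mem hy))
    rw [eq_bot_iff, ← coprime_abelian_disjoint A Y hAY hcop2]
    exact fun x hx => ⟨⟨hYN hx.1, hx.2⟩, heq hx.1⟩
  have hne : ⁅Y, N⁆ ≠ ⊥ := fun hb => by
    obtain ⟨h, hh, y, hy, hhy⟩ := hmove
    exact hhy (Subgroup.mem_centralizer_iff.1 (Subgroup.commutator_eq_bot_iff_le_centralizer.1 hb hy) h hh)
  refine ⟨eq_bot_iff.2 ((inf_le_inf le_rfl (Subgroup.centralizer_le hAN)).trans hAC.le), hne, fun h2 => hne ?_⟩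
  rw [eq_bot_iff, ← hAC]
  refine le_inf le_rfl fun x hx => Subgroup.mem_centralizer_iff.2 fun a ha => ?_
  by_contra hax
  have hx1 : x ≠ 1 := fun h => hax (by rw [h, one_mul, mul_one])
  have hax' : a * x * a⁻¹ ∈ ⁅Y, N⁆ :=
    conj_mem_normalizer (commutator_normalized (hNY (hAN ha)) (Subgroup.le_normalizer (hAN ha))) hx
  obtain ⟨c, -, huniq⟩ : ∃! c : ↥⁅Y, N⁆, c ≠ 1 := (Nat.card_eq_two_iff' 1).1 h2
  have e1 := huniq ⟨x, hx⟩ (fun h => hx1 (congrArg Subtype.val h))
  have e2 := huniq ⟨_, hax'⟩ (fun h => hx1 (conj_eq_one_iff.1 (congrArg Subtype.val h)))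
  exact hax (mul_inv_eq_iff_eq_mul.1 (congrArg Subtype.val (e2.trans e1.symm)))

theorem small_quotient {F : Type} [Field F] [Fintype F] {n : ℕ} (hcard : Fintype.card F = p ^ n)
    (h3 : Fintype.card F ≤ 3) :
    ¬ p ∣ Nat.card ↥(commutator (Matrix.SpecialLinearGroup (Fin 2) F)) ∧
      (commutator (Matrix.SpecialLinearGroup (Fin 2) F)).index = p ∧ Fintype.card F = p := by
  classical
  have hp := (Fact.out : p.Prime).two_le
  have hn : n = 1 := by
    rcases Nat.lt_or_ge 1 n with h | h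
    · have h1 := Nat.pow_le_pow_right (show 1 ≤ p by omega) h
      rw [pow_two] at h1
      have := Nat.mul_le_mul hp hp
      omega
    · rcases Nat.eq_zero_or_pos n with rfl | hpos
      · rw [pow_zero] at hcard; exact absurd hcard Fintype.one_lt_card.ne'
      · omega
  rw [hn, pow_one] at hcard
  let e : ZMod p ≃+* F := FiniteField.ringEquivOfCardEq (by rw [ZMod.card, hcard])
  let φ : Matrix.SpecialLinearGroup (Fin 2) (ZMod p) →* Matrix.SpecialLinearGroup (Fin 2) F :=
    Matrix.SpecialLinearGroup.map e.toRingHom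
  have hinj : Function.Injective φ := fun a b h => by
    apply Subtype.ext; ext i j
    exact e.injective (by simpa [φ] using congrFun (congrFun (congrArg Subtype.val h) i) j)
  have hsurj : Function.Surjective φ := fun b => by
    refine ⟨Matrix.SpecialLinearGroup.map e.symm.toRingHom b, ?_⟩
    apply Subtype.ext; ext i j
    simp [φ]
  have hC : commutator (Matrix.SpecialLinearGroup (Fin 2) F) =
      (commutator (Matrix.SpecialLinearGroup (Fin 2) (ZMod p))).map φ := by
    rw [commutator_def, commutator_def, Subgroup.map_commutator, Subgroup.map_top_of_surjective φ hsurj]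
  have key : ¬ p ∣ Nat.card ↥(commutator (Matrix.SpecialLinearGroup (Fin 2) (ZMod p))) ∧
      (commutator (Matrix.SpecialLinearGroup (Fin 2) (ZMod p))).index = p := by
    have hi := (commutator (Matrix.SpecialLinearGroup (Fin 2) (ZMod p))).card_mul_index
    obtain rfl | rfl : p = 2 ∨ p = 3 := by omega
    · rw [sl2_two_commutator_card, show Nat.card (Matrix.SpecialLinearGroup (Fin 2) (ZMod 2)) = 6 by
        rw [Nat.card_eq_fintype_card]; decide +kernel] at hi
      exact ⟨by rw [sl2_two_commutator_card]; norm_num, by omega⟩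
    · rw [sl3_card, show Nat.card (Matrix.SpecialLinearGroup (Fin 2) (ZMod 3)) = 24 by
        rw [Nat.card_eq_fintype_card]; decide +kernel] at hi
      exact ⟨by rw [sl3_card]; norm_num, by omega⟩
  refine ⟨by rw [hC, Subgroup.card_map_of_injective hinj]; exact key.1, ?_, hcard⟩
  rw [hC, Subgroup.index_map_of_bijective ⟨hinj, hsurj⟩]
  exact key.2

/-- The key lifting lemma. -/
theorem exists_fixable (hG : Subgroup.centralizer (pCore p G : Set G) ≤ pCore p G) (hD : IsSubBlock p D)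
    {P : Subgroup G} (hP : IsPGroup p P) (hPD : P ≤ Subgroup.normalizer (D : Set G)) :
    ∃ K : Subgroup G, K ≤ Wc D ∧ K ≤ Xc ∧ K ⊓ Subgroup.centralizer (D : Set G) = ⊥ ∧ K ≠ ⊥ ∧
      Nat.card K ≠ 2 ∧ P ≤ Subgroup.normalizer (K : Set G) := by
  classical
  obtain ⟨⟨T0, hT0⟩, hsub⟩ := hD
  have hD' : IsSubBlock p D := ⟨⟨T0, hT0⟩, hsub⟩
  obtain ⟨x, hxX, hxT, hmv⟩ := exists_moving_fixed hG hT0
  have hXR : (Xc : Subgroup G) ≤ pCore p G := omegaOneCenter_le p _
  have hXW : ∀ y ∈ Xc, ∀ d ∈ D, ⁅y, d⁆ ∈ Wc D ⊓ Xc := by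
    intro y hy d hd
    have h1 : ⁅y, d⁆ ∈ Xc := by
      rw [commutatorElement_def, mul_assoc y, mul_assoc y]
      exact mul_mem hy (omega_core_normal.conj_mem _ (inv_mem hy) d)
    refine ⟨mem_wc h1 (hD'.conj_mem (hXR hy) hd) fun q hq => ?_, h1⟩
    exact omegaOneCenter_comm p _ h1 (hD'.q_le_core hq)
  -- the general coprime case
  have general : ∀ S : Subgroup G, S ≤ D → Qc D ≤ S → IsPGroup p S → ¬ p ∣ S.relIndex (D ⊓ Subgroup.normalizer (S : Set G)) →
      P ≤ Subgroup.normalizer (S : Set G) → (∃ h ∈ D ⊓ Subgroup.normalizer (S : Set G),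
        ∃ y ∈ Xc, (∀ s ∈ S, s * y = y * s) ∧ h * y ≠ y * h) →
      ∃ K : Subgroup G, K ≤ Wc D ∧ K ≤ Xc ∧ K ⊓ Subgroup.centralizer (D : Set G) = ⊥ ∧ K ≠ ⊥ ∧
        Nat.card K ≠ 2 ∧ P ≤ Subgroup.normalizer (K : Set G) := by
    intro S hSD _ hS hidx hPS hmove
    set N := D ⊓ Subgroup.normalizer (S : Set G) with hN
    set Y := (Xc : Subgroup G) ⊓ Subgroup.centralizer (S : Set G) with hY
    have hNSY : ∀ g ∈ Subgroup.normalizer (S : Set G), g ∈ Subgroup.normalizer (Y : Set G) := fun g hg =>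
      inf_normalizer_le _ _ ⟨by rw [normalizer_omega_core]; exact Subgroup.mem_top g,
        normalizer_le_normalizer_centralizer S hg⟩
    obtain ⟨h1, h2, h3⟩ := coprime_commutator (p := p) Y (le_inf hSD Subgroup.le_normalizer) inf_le_right hS hidx
      (((CfsgLib.isPGroup_pCore p).to_le hXR).to_le inf_le_left)
      (fun a ha b hb => omegaOneCenter_comm p _ hb.1 (hXR ha.1)) (fun g hg => hNSY g hg.2)
      (fun s hs y hy => Subgroup.mem_centralizer_iff.1 hy.2 s hs) (by
        obtain ⟨h, hh, y, hy, hys, hne⟩ := hmove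
        exact ⟨h, hh, y, ⟨hy, Subgroup.mem_centralizer_iff.2 hys⟩, hne⟩)
    have hKW : ⁅Y, N⁆ ≤ Wc D ⊓ Xc := by
      rw [Subgroup.commutator_le]; exact fun y hy d hd => hXW y hy.1 d hd.1
    refine ⟨⁅Y, N⁆, hKW.trans inf_le_left, hKW.trans inf_le_right, eq_bot_iff.2
      ((inf_le_inf le_rfl (Subgroup.centralizer_le inf_le_left)).trans h1.le), h2, h3, fun g hg => ?_⟩
    exact commutator_normalized (hNSY g (hPS hg))
      (inf_normalizer_le _ _ ⟨hPD hg, Subgroup.le_normalizer (hPS hg)⟩)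
  rcases exists_model hT0 with ⟨F, hF, hFt, n, hcard, ⟨M⟩, -⟩ | ⟨hp2, -, m, hm, ⟨M⟩⟩
  · by_cases h4 : 4 ≤ Fintype.card F
    · have hH : P ⊔ D ≤ Subgroup.normalizer (D : Set G) := sup_le hPD Subgroup.le_normalizer
      obtain ⟨R, hR⟩ := (hP.of_equiv (Subgroup.subgroupOfEquivOfLe (le_sup_left : P ≤ P ⊔ D)).symm).exists_le_sylow
      have hRin : FusionSystem.IsSylowIn p ((R : Subgroup ↥(P ⊔ D)).map (P ⊔ D).subtype) (P ⊔ D) := by
        refine (FusionSystem.isSylowIn_iff (Subgroup.map_subtype_le _)).2 ⟨R, ?_⟩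
        exact (Subgroup.comap_map_eq_self_of_injective (P ⊔ D).subtype_injective _).symm
      set R' := (R : Subgroup ↥(P ⊔ D)).map (P ⊔ D).subtype with hR'
      have hPR : P ≤ R' := fun g hg => ⟨⟨g, Subgroup.mem_sup_left hg⟩, hR hg, rfl⟩
      have hS : FusionSystem.IsSylowIn p (R' ⊓ D) D := hRin.inf_of_normal le_sup_right hH
      set S := R' ⊓ D with hSdef
      have hmax : ∀ S' : Subgroup G, S ≤ S' → S' ≤ D → IsPGroup p S' → S' ≤ S := fun S' h1 h2 h3 =>
        (Subgroup.eq_of_le_of_card_ge h1 (hS.card_le h3 h2)).ge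
      have hQp : IsPGroup p ↥(Qc D) := (CfsgLib.isPGroup_pCore p).map _
      obtain ⟨N, hN⟩ := M.normal_form h4 hcard hQp S hS.2.1 hS.1 hmax
      have hQS : Qc D ≤ S := fun q hq => by
        have hqD : q ∈ D := Subgroup.map_subtype_le _ hq
        exact (hN ⟨q, hqD⟩).2 ⟨0, by rw [upp_zero]; exact (N.ker_eq _).2 hq⟩
      -- move the fixed element to `S`
      have hS0 := FusionSystem.isSylowIn_inf_of_isSubnormal T0 hsub
      obtain ⟨b, hb, hbS⟩ := hS0.exists_conj_le hS.2.1 hS.1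
      set y := b⁻¹ * x * b with hy
      have hyS : ∀ s ∈ S, s * y = y * s := fun s hs => by
        have := hxT _ (hbS s hs).1
        rw [hy]
        calc s * (b⁻¹ * x * b) = b⁻¹ * ((b * s * b⁻¹) * x) * b := by group
          _ = b⁻¹ * x * b * s := by rw [this]; group
      have hyX : y ∈ Xc := by simpa [hy] using omega_core_normal.conj_mem _ hxX b⁻¹
      have hymv : ∃ e ∈ D, e * y ≠ y * e := by
        obtain ⟨e, he, hne⟩ := hmv
        refine ⟨b⁻¹ * e * b, mul_mem (mul_mem (inv_mem hb) he) hb, fun h => hne ?_⟩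
        rw [hy] at h
        calc e * x = b * ((b⁻¹ * e * b) * (b⁻¹ * x * b)) * b⁻¹ := by group
          _ = x * e := by rw [h]; group
      obtain ⟨h, hh, hhS, hne⟩ := torus_moves N h4 hT0.1 hS.1 hN hyS (fun e he => by
        have := (hXW y hyX e he).1
        rw [show e * y * e⁻¹ * y⁻¹ = ⁅y, e⁆⁻¹ by rw [commutatorElement_def]; group]
        exact inv_mem this) hymv
      refine general S hS.1 hQS hS.2.1 (fun hdvd => hS.2.2 (hdvd.trans (Dvd.intro _
        (Subgroup.relIndex_mul_relIndex _ _ _ (le_inf hS.1 Subgroup.le_normalizer) inf_le_left))))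
        (fun g hg => inf_normalizer_le _ _ ⟨Subgroup.le_normalizer (hPR hg), hPD hg⟩)
        ⟨h, ⟨hh, hhS⟩, y, hyX, hyS, hne⟩
    · obtain ⟨hsmall, -, -⟩ := small_quotient hcard (by omega)
      have hQD : Qc D ≤ D := Subgroup.map_subtype_le _
      have hPQ : P ≤ Subgroup.normalizer ((Qc D : Subgroup G) : Set G) :=
        hPD.trans (normalizer_le_normalizer_pCoreOf D)
      obtain ⟨e, he, hne⟩ := hmv
      refine general (Qc D) hQD le_rfl ((CfsgLib.isPGroup_pCore p).map _) ?_ hPQ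
        ⟨e, ⟨he, hD'.normalizes_q he⟩, x, hxX, fun s hs => hxT s (CfsgLib.pCore_le_sylow T0 (hD'.q_le_core hs)), hne⟩
      rw [inf_eq_left.2 hD'.normalizes_q]
      show ¬ p ∣ ((Qc D).subgroupOf D).index
      have hk : (Qc D).subgroupOf D = M.ρ.ker := Subgroup.ext fun d => by
        rw [MonoidHom.mem_ker, M.ker_eq]; rfl
      rw [hk, Subgroup.index_ker, M.range_eq]
      exact hsmall
  · refine ⟨⁅Wc D, D⁆, ?_, hD'.wE_le hG, alt_split hm M hp2 hT0.1, fun hb => ?_, fun h2 => ?_, fun g hg =>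
      commutator_normalized (hD'.normalizer_w (hPD hg)) (hPD hg)⟩
    · rw [Subgroup.commutator_le]
      intro w hw e he
      rw [commutatorElement_def, mul_assoc w, mul_assoc w]
      exact mul_mem hw (conj_mem_normalizer (hD'.nat.normalizes he) (inv_mem hw))
    · exact block_moves_commutator T0 hT0 fun e _ c hc => by
        rw [hb, Subgroup.mem_bot] at hc; rw [hc, one_mul, mul_one]
    · refine block_moves_commutator T0 hT0 fun e he c hc => ?_
      by_contra hec
      have hc1 : c ≠ 1 := fun h => hec (by rw [h, one_mul, mul_one])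
      have hmem : e * c * e⁻¹ ∈ ⁅Wc D, D⁆ :=
        conj_mem_normalizer (commutator_normalized (hD'.nat.normalizes he) (Subgroup.le_normalizer he)) hc
      obtain ⟨z, -, huniq⟩ : ∃! z : ↥⁅Wc D, D⁆, z ≠ 1 := (Nat.card_eq_two_iff' 1).1 h2
      have e1 := huniq ⟨c, hc⟩ (fun h => hc1 (congrArg Subtype.val h))
      have e2 := huniq ⟨_, hmem⟩ (fun h => hc1 (conj_eq_one_iff.1 (congrArg Subtype.val h)))
      exact hec (mul_inv_eq_iff_eq_mul.1 (congrArg Subtype.val (e2.trans e1.symm)))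

end CfsgLib.BBlock
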