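import Cfsg.Agent.Lib.Baumann.BlockFix

/-!
Coordinates on the natural section of a block and the induced action of its normalizer.
-/

set_option autoImplicit false
set_option linter.unusedSectionVars false

namespace CfsgLib.BBlock

open Cfsg
open scoped commutatorElement

variable {G : Type*} [Group G] [Finite G]

/-- A surjection from `U` onto an additive group, with kernel `U₀`. -/
structure Sec (U U₀ : Subgroup G) (V : Type*) [AddCommGroup V] where
  ψ : ↥U →* Multiplicative V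
  le : U₀ ≤ U
  surj : Function.Surjective ψ
  ker : ∀ u : ↥U, ψ u = 1 ↔ (u : G) ∈ U₀

namespace Sec

variable {U U₀ : Subgroup G} {V : Type*} [AddCommGroup V] (S : Sec U U₀ V)

open Classical in
/-- The value on `U`, extended by zero. -/
noncomputable def val (u : G) : V := if h : u ∈ U then Multiplicative.toAdd (S.ψ ⟨u, h⟩) else 0

theorem val_eq (u : ↥U) : S.val u = Multiplicative.toAdd (S.ψ u) := by
  classical
  simp [val]

theorem val_mul {a b : G} (ha : a ∈ U) (hb : b ∈ U) : S.val (a * b) = S.val a + S.val b := by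
  rw [S.val_eq ⟨a, ha⟩, S.val_eq ⟨b, hb⟩, ← toAdd_mul, ← map_mul, ← S.val_eq]; rfl

theorem val_inv {a : G} (ha : a ∈ U) : S.val a⁻¹ = -S.val a := by
  rw [S.val_eq ⟨a, ha⟩, ← toAdd_inv, ← map_inv, ← S.val_eq]; rfl

theorem val_one : S.val (1 : G) = 0 := by
  have := S.val_eq (1 : ↥U)
  simpa using this

theorem val_eq_zero {a : G} (ha : a ∈ U) : S.val a = 0 ↔ a ∈ U₀ := by
  rw [S.val_eq ⟨a, ha⟩]
  exact ⟨fun h => (S.ker ⟨a, ha⟩).1 (Multiplicative.toAdd.injective h),
    fun h => by rw [(S.ker ⟨a, ha⟩).2 h, toAdd_one]⟩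

theorem val_eq_iff {a b : G} (ha : a ∈ U) (hb : b ∈ U) : S.val a = S.val b ↔ a * b⁻¹ ∈ U₀ := by
  rw [← S.val_eq_zero (mul_mem ha (inv_mem hb)), S.val_mul ha (inv_mem hb), S.val_inv hb,
    ← sub_eq_add_neg, sub_eq_zero]

theorem exists_val (v : V) : ∃ u ∈ U, S.val u = v := by
  obtain ⟨u, hu⟩ := S.surj (Multiplicative.ofAdd v)
  exact ⟨u, u.2, by rw [S.val_eq, hu, toAdd_ofAdd]⟩

/-- The elements normalizing `U` and `U₀`. -/
def nn (U U₀ : Subgroup G) : Subgroup G :=
  Subgroup.normalizer (U : Set G) ⊓ Subgroup.normalizer (U₀ : Set G)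

/-- The map induced by `g` on the section. -/
noncomputable def ind (g : G) (v : V) : V := S.val (g * (S.exists_val v).choose * g⁻¹)

theorem ind_val {g : G} (hg : g ∈ nn U U₀) {u : G} (hu : u ∈ U) :
    S.ind g (S.val u) = S.val (g * u * g⁻¹) := by
  obtain ⟨hm, he⟩ := (S.exists_val (S.val u)).choose_spec
  rw [S.val_eq_iff hm hu] at he
  refine (S.val_eq_iff (conj_mem_normalizer hg.1 hm) (conj_mem_normalizer hg.1 hu)).2 ?_
  have := conj_mem_normalizer hg.2 he
  simpa [mul_assoc] using this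

theorem ind_one (v : V) : S.ind (1 : G) v = v := by
  obtain ⟨u, hu, rfl⟩ := S.exists_val v
  rw [S.ind_val (one_mem _) hu]; simp

theorem ind_mul {g h : G} (hg : g ∈ nn U U₀) (hh : h ∈ nn U U₀) (v : V) :
    S.ind (g * h) v = S.ind g (S.ind h v) := by
  obtain ⟨u, hu, rfl⟩ := S.exists_val v
  rw [S.ind_val (mul_mem hg hh) hu, S.ind_val hh hu, S.ind_val hg (conj_mem_normalizer hh.1 hu)]
  congr 1
  group

theorem ind_add {g : G} (hg : g ∈ nn U U₀) (v w : V) : S.ind g (v + w) = S.ind g v + S.ind g w := by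
  obtain ⟨u, hu, rfl⟩ := S.exists_val v
  obtain ⟨u', hu', rfl⟩ := S.exists_val w
  rw [← S.val_mul hu hu', S.ind_val hg (mul_mem hu hu'), S.ind_val hg hu, S.ind_val hg hu',
    ← S.val_mul (conj_mem_normalizer hg.1 hu) (conj_mem_normalizer hg.1 hu')]
  congr 1
  group

theorem ind_zero {g : G} (hg : g ∈ nn U U₀) : S.ind g 0 = 0 := by
  have h := S.ind_add hg 0 0
  rw [add_zero] at h
  simpa using h

theorem ind_inv_apply {g : G} (hg : g ∈ nn U U₀) (v : V) : S.ind g⁻¹ (S.ind g v) = v := by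
  rw [← S.ind_mul (inv_mem hg) hg, inv_mul_cancel, S.ind_one]

theorem ind_injective {g : G} (hg : g ∈ nn U U₀) : Function.Injective (S.ind g) :=
  Function.LeftInverse.injective (S.ind_inv_apply hg)

theorem ind_eq_self_iff {g : G} (hg : g ∈ nn U U₀) :
    (∀ v, S.ind g v = v) ↔ ∀ u ∈ U, g * u * g⁻¹ * u⁻¹ ∈ U₀ := by
  constructor
  · intro h u hu
    have := h (S.val u)
    rw [S.ind_val hg hu] at this
    exact (S.val_eq_iff (conj_mem_normalizer hg.1 hu) hu).1 this
  · intro h v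
    obtain ⟨u, hu, rfl⟩ := S.exists_val v
    rw [S.ind_val hg hu]
    exact (S.val_eq_iff (conj_mem_normalizer hg.1 hu) hu).2 (h u hu)

theorem ind_comp_eq {g h : G} (hg : g ∈ nn U U₀) (hh : h ∈ nn U U₀) (he : ∀ v, S.ind g v = S.ind h v) :
    ∀ u ∈ U, (h⁻¹ * g) * u * (h⁻¹ * g)⁻¹ * u⁻¹ ∈ U₀ :=
  (S.ind_eq_self_iff (mul_mem (inv_mem hh) hg)).1 fun v => by
    rw [S.ind_mul (inv_mem hh) hg, he, S.ind_inv_apply hh]

include S in
theorem card_eq : Nat.card ↥U = Nat.card V * Nat.card ↥U₀ := by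
  rw [card_of_image S.ψ S.le S.ker, MonoidHom.range_eq_top.2 S.surj, Subgroup.card_top,
    Nat.card_congr Multiplicative.toAdd]

end Sec

/-- A block section carrying the natural module of the derived group of `SL₂(F)`. -/
structure SLModel (E K U U₀ : Subgroup G) (F : Type) [Field F] extends Sec U U₀ (Fin 2 → F) where
  ρ : ↥E →* Matrix.SpecialLinearGroup (Fin 2) F
  range_eq : ρ.range = commutator (Matrix.SpecialLinearGroup (Fin 2) F)
  le_nn : E ≤ Sec.nn U U₀
  ind_eq : ∀ (e : ↥E) (v : Fin 2 → F),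
    toSec.ind (e : G) v = (ρ e : Matrix (Fin 2) (Fin 2) F).mulVec v
  ker_eq : ∀ e : ↥E, ρ e = 1 ↔ (e : G) ∈ K

/-- The even-weight vectors. -/
def evenW (n : ℕ) : AddSubgroup (Fin n → ZMod 2) where
  carrier := {v | ∑ i, v i = 0}
  zero_mem' := by simp
  add_mem' := fun {a b} (ha : ∑ i, a i = 0) (hb : ∑ i, b i = 0) => by
    simp [Finset.sum_add_distrib, ha, hb]
  neg_mem' := fun {a} (ha : ∑ i, a i = 0) => by simp [Finset.sum_neg_distrib, ha]

/-- A block section carrying the even-weight module of an alternating group. -/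
structure AltModel (E K U U₀ : Subgroup G) (n : ℕ) extends Sec U U₀ ↥(evenW n) where
  ρ : ↥E →* Equiv.Perm (Fin n)
  range_eq : ρ.range = alternatingGroup (Fin n)
  le_nn : E ≤ Sec.nn U U₀
  ind_eq : ∀ (e : ↥E) (v : ↥(evenW n)) (i : Fin n),
    (toSec.ind (e : G) v : Fin n → ZMod 2) i = (v : Fin n → ZMod 2) ((ρ e)⁻¹ i)
  ker_eq : ∀ e : ↥E, ρ e = 1 ↔ (e : G) ∈ K

variable {p : ℕ} [Fact p.Prime] {E : Subgroup G}

local notation:max "Qc" E:max => pCoreOf p E
local notation:max "Wc" E:max => omegaOneCenter p (pCoreOf p E)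
local notation:max "Zc" E:max => omegaOneCenter p (pCoreOf p E) ⊓ Subgroup.centralizer (E : Set G)

theorem normalizer_le_nn (E : Subgroup G) :
    Subgroup.normalizer (E : Set G) ≤ Sec.nn (Wc E) (Zc E) := fun g hg =>
  have hw : g ∈ Subgroup.normalizer ((Wc E : Subgroup G) : Set G) :=
    normalizer_le_normalizer_omegaOneCenter p _ (normalizer_le_normalizer_pCoreOf E hg)
  ⟨hw, inf_normalizer_le _ _ ⟨hw, normalizer_le_normalizer_centralizer E hg⟩⟩

theorem normalizer_le_nn_top (E : Subgroup G) :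
    Subgroup.normalizer (E : Set G) ≤ Sec.nn (Qc E) (Wc E) := fun _ hg =>
  ⟨normalizer_le_normalizer_pCoreOf E hg,
    normalizer_le_normalizer_omegaOneCenter p _ (normalizer_le_normalizer_pCoreOf E hg)⟩

/-- The models of a block. -/
theorem exists_model {T : Subgroup G} (hE : IsBaumannBlock p T E) :
    (∃ (F : Type) (_ : Field F) (_ : Fintype F) (n : ℕ), Fintype.card F = p ^ n ∧
      Nonempty (SLModel E (Qc E) (Wc E) (Zc E) F) ∧
      ((Qc E) = Wc E ∨ (p = 3 ∧ Nonempty (SLModel E (Qc E) (Qc E) (Wc E) F)))) ∨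
    (p = 2 ∧ (Qc E) = Wc E ∧ ∃ m : ℕ, 1 ≤ m ∧ Nonempty (AltModel E (Qc E) (Wc E) (Zc E) (2 * m + 1))) := by
  classical
  have hnat := natSection_of_block hE
  have hle' : E ≤ Sec.nn (Wc E) (Zc E) := Subgroup.le_normalizer.trans (normalizer_le_nn E)
  have hQE : (Qc E) ≤ E := Subgroup.map_subtype_le _
  have hQW : ∀ k ∈ Qc E, ∀ w ∈ Wc E, k * w * k⁻¹ = w := fun k hk w hw => by
    rw [omegaOneCenter_comm p _ hw hk, mul_inv_cancel_right]
  obtain ⟨-, -, -, -, hcases⟩ := hE
  rcases hcases with ⟨F, hF, hFt, n, hcF, hiso, ⟨hN, hle, ρ, ψ, hρ, hψ, hker, heq⟩, hshape⟩ |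
    ⟨hp2, m, hiso, ⟨hN, hle, ρ, ψ, hρ, hev, hψ, hker, heq⟩, hQeq⟩
  · let S : Sec (Wc E) (Zc E) (Fin 2 → F) := ⟨ψ, hle, hψ, hker⟩
    have hind : ∀ (e : ↥E) (v : Fin 2 → F), S.ind (e : G) v = (ρ e : Matrix (Fin 2) (Fin 2) F).mulVec v := by
      intro e v
      obtain ⟨u, hu, rfl⟩ := S.exists_val v
      obtain ⟨w, hw, hw'⟩ := heq e ⟨u, hu⟩
      rw [S.ind_val (hle' e.2) hu, ← hw, S.val_eq, S.val_eq ⟨u, hu⟩]
      exact hw'
    have hkerρ : ∀ e : ↥E, ρ e = 1 ↔ (e : G) ∈ Qc E := fun e => by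
      constructor
      · intro h
        refine hnat.faithful e e.2 fun w hw => ?_
        exact (S.ind_eq_self_iff (hle' e.2)).1 (fun v => by
          rw [hind, h, Matrix.SpecialLinearGroup.coe_one, Matrix.one_mulVec]) w hw
      · intro h
        refine sl2_faithful fun v => ?_
        rw [← hind]
        refine (S.ind_eq_self_iff (hle' e.2)).2 (fun u hu => ?_) v
        rw [hQW _ h u hu, mul_inv_cancel]; exact one_mem _
    refine Or.inl ⟨F, hF, hFt, n, hcF, ⟨⟨S, ρ, hρ, hle', hind, hkerρ⟩⟩, ?_⟩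
    rcases hshape with h | ⟨hp3, ⟨hN', hle'', ρ', ψ', hρ', hψ', hker', heq'⟩, hder, -, -, -, -⟩
    · exact Or.inl h
    refine Or.inr ⟨hp3, ?_⟩
    have hnn : E ≤ Sec.nn (Qc E) (Wc E) := Subgroup.le_normalizer.trans (normalizer_le_nn_top E)
    let S' : Sec (Qc E) (Wc E) (Fin 2 → F) := ⟨ψ', hle'', hψ', hker'⟩
    have hind' : ∀ (e : ↥E) (v : Fin 2 → F),
        S'.ind (e : G) v = (ρ' e : Matrix (Fin 2) (Fin 2) F).mulVec v := by
      intro e v
      obtain ⟨u, hu, rfl⟩ := S'.exists_val v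
      obtain ⟨w, hw, hw'⟩ := heq' e ⟨u, hu⟩
      rw [S'.ind_val (hnn e.2) hu, ← hw, S'.val_eq, S'.val_eq ⟨u, hu⟩]
      exact hw'
    have hQQ : ∀ k ∈ Qc E, ∀ u ∈ Qc E, k * u * k⁻¹ * u⁻¹ ∈ Wc E := fun k hk u hu => by
      have := Subgroup.commutator_mem_commutator hk hu
      rw [hder] at this
      exact this.1
    have hsub : (Qc E).subgroupOf E ≤ ρ'.ker := fun k hk => MonoidHom.mem_ker.2 (sl2_faithful fun v => by
      rw [← hind']
      exact (S'.ind_eq_self_iff (hnn k.2)).2 (fun u hu => hQQ _ hk u hu) v)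
    have heqk : (Qc E).subgroupOf E = ρ'.ker := by
      refine Subgroup.eq_of_le_of_card_ge hsub ?_
      have h1 := ρ'.ker.card_eq_card_quotient_mul_card_subgroup
      rw [Nat.card_congr (QuotientGroup.quotientKerEquivRange ρ').toEquiv, hρ', card_pCoreOf_mul _ hiso,
        mul_comm] at h1
      rw [Nat.card_congr (Subgroup.subgroupOfEquivOfLe hQE).toEquiv]
      exact (Nat.eq_of_mul_eq_mul_left Nat.card_pos h1).ge
    exact ⟨⟨S', ρ', hρ', hnn, hind', fun e => by rw [← MonoidHom.mem_ker, ← heqk]; rfl⟩⟩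
  · have hm : 1 ≤ m := by
      by_contra hm0
      obtain rfl : m = 0 := by omega
      obtain ⟨e, he, w, hw, hne⟩ := hnat.moves
      refine hne ((hker ⟨_, mul_mem (conj_mem_normalizer (hnat.normalizes he) hw) (inv_mem hw)⟩).1
        (Multiplicative.toAdd.injective (funext fun i => ?_)))
      have h0 := hev ⟨_, mul_mem (conj_mem_normalizer (hnat.normalizes he) hw) (inv_mem hw)⟩
      rw [Fin.sum_univ_one] at h0
      rw [show i = 0 from Fin.ext (by have := i.isLt; omega)]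
      simpa using h0
    let φ : ↥(Wc E) →* Multiplicative ↥(evenW (2 * m + 1)) :=
      { toFun := fun u => Multiplicative.ofAdd ⟨Multiplicative.toAdd (ψ u), hev u⟩
        map_one' := by
          refine Multiplicative.toAdd.injective (Subtype.ext ?_)
          simp
        map_mul' := fun u v => by
          refine Multiplicative.toAdd.injective (Subtype.ext ?_)
          simp }
    have hφ : ∀ u, ((Multiplicative.toAdd (φ u) : ↥(evenW (2 * m + 1))) : Fin (2 * m + 1) → ZMod 2) =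
        Multiplicative.toAdd (ψ u) := fun u => rfl
    let S : Sec (Wc E) (Zc E) ↥(evenW (2 * m + 1)) := ⟨φ, hle, fun v => by
      obtain ⟨u, hu⟩ := hψ (Multiplicative.toAdd v : ↥(evenW (2 * m + 1))) (Multiplicative.toAdd v).2
      exact ⟨u, Multiplicative.toAdd.injective (Subtype.ext hu)⟩, fun u => by
      rw [← hker u]
      exact ⟨fun h => Multiplicative.toAdd.injective (by rw [← hφ, h]; rfl),
        fun h => Multiplicative.toAdd.injective (Subtype.ext (by rw [hφ, h]; rfl))⟩⟩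
    have hind : ∀ (e : ↥E) (v : ↥(evenW (2 * m + 1))) (i : Fin (2 * m + 1)),
        (S.ind (e : G) v : Fin (2 * m + 1) → ZMod 2) i = (v : Fin (2 * m + 1) → ZMod 2) ((ρ e)⁻¹ i) := by
      intro e v i
      obtain ⟨u, hu, rfl⟩ := S.exists_val v
      obtain ⟨w, hw, hw'⟩ := heq e ⟨u, hu⟩
      rw [S.ind_val (hle' e.2) hu, ← hw, S.val_eq, S.val_eq ⟨u, hu⟩, hφ, hφ]
      exact hw' i
    refine Or.inr ⟨hp2, hQeq, m, hm, ⟨⟨S, ρ, hρ, hle', hind, fun e => ?_⟩⟩⟩
    constructor
    · intro h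
      refine hnat.faithful e e.2 fun w hw => ?_
      exact (S.ind_eq_self_iff (hle' e.2)).1 (fun v => Subtype.ext (funext fun i => by
        rw [hind, h]; simp)) w hw
    · intro h
      refine alt_faithful (by omega) fun v hv => funext fun i => ?_
      have h1 := congrArg Subtype.val ((S.ind_eq_self_iff (hle' e.2)).2
        (fun u hu => by rw [hQW _ h u hu, mul_inv_cancel]; exact one_mem _) ⟨v, hv⟩)
      exact (hind e ⟨v, hv⟩ i).symm.trans (congrFun h1 i)

end CfsgLib.BBlock
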