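import Cfsg.Agent.Lib.Baumann.Sec
import Mathlib.FieldTheory.Finite.Basic

/-!
Blocks over `SL₂(q)`, `q ≥ 4`: Sylow subgroups, tori and the shape of normalizing elements.
-/

set_option autoImplicit false
set_option linter.unusedSectionVars false

namespace CfsgLib.BBlock

open Cfsg
open scoped commutatorElement

section Matrices
variable {F : Type} [Field F]

local notation "SL" => Matrix.SpecialLinearGroup (Fin 2) F

theorem upp_mulVec (c : F) (v : Fin 2 → F) :
    ((upp c : SL) : Matrix (Fin 2) (Fin 2) F).mulVec v = ![v 0 + c * v 1, v 1] := by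
  ext i; fin_cases i <;> simp [upp, Matrix.mulVec, dotProduct, Fin.sum_univ_two]

theorem upp_mul (a b : F) : (upp a : SL) * upp b = upp (a + b) := by
  apply Subtype.ext
  simp only [Matrix.SpecialLinearGroup.coe_mul]
  ext i j; fin_cases i <;> fin_cases j <;> simp [upp, Matrix.mul_apply, Fin.sum_univ_two, add_comm]

theorem upp_zero : (upp (0 : F) : SL) = 1 := by
  apply Subtype.ext
  ext i j; fin_cases i <;> fin_cases j <;> simp [upp]

theorem upp_injective {a b : F} (h : (upp a : SL) = upp b) : a = b := by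
  have := congrFun (congrFun (congrArg Subtype.val h) 0) 1
  simpa [upp] using this

theorem upp_inv (a : F) : (upp a : SL)⁻¹ = upp (-a) :=
  inv_eq_of_mul_eq_one_right (by rw [upp_mul, add_neg_cancel, upp_zero])

theorem upp_pow (a : F) (n : ℕ) : (upp a : SL) ^ n = upp (n * a) := by
  induction n with
  | zero => simp [upp_zero]
  | succ n ih => rw [pow_succ, ih, upp_mul]; push_cast; ring_nf

/-- An element fixing the first coordinate vector is upper unitriangular. -/
theorem exists_upp {M : SL} (h : (M : Matrix (Fin 2) (Fin 2) F).mulVec ![1, 0] = ![1, 0]) :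
    ∃ c, M = upp c := by
  have h0 : (M : Matrix (Fin 2) (Fin 2) F) 0 0 = 1 := by
    simpa [Matrix.mulVec, dotProduct, Fin.sum_univ_two] using congrFun h 0
  have h1 : (M : Matrix (Fin 2) (Fin 2) F) 1 0 = 0 := by
    simpa [Matrix.mulVec, dotProduct, Fin.sum_univ_two] using congrFun h 1
  have hdet := M.2
  rw [Matrix.det_fin_two, h0, h1, one_mul, mul_zero, sub_zero] at hdet
  refine ⟨(M : Matrix (Fin 2) (Fin 2) F) 0 1, Subtype.ext ?_⟩
  ext i j; fin_cases i <;> fin_cases j <;> simp [upp, h0, h1, hdet]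

theorem exists_move_to (v : Fin 2 → F) (hv : v ≠ 0) :
    ∃ g : SL, (g : Matrix (Fin 2) (Fin 2) F).mulVec ![1, 0] = v := by
  by_cases h0 : v 0 = 0
  · have h1 : v 1 ≠ 0 := fun h1 => hv (by ext i; fin_cases i <;> simp [h0, h1])
    refine ⟨⟨!![0, -(v 1)⁻¹; v 1, 0], by simp [Matrix.det_fin_two, h1]⟩, ?_⟩
    ext i; fin_cases i <;> simp [Matrix.mulVec, dotProduct, Fin.sum_univ_two, h0]
  · refine ⟨⟨!![v 0, 0; v 1, (v 0)⁻¹], by simp [Matrix.det_fin_two, h0]⟩, ?_⟩
    ext i; fin_cases i <;> simp [Matrix.mulVec, dotProduct, Fin.sum_univ_two]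

theorem dia_conj_upp (t : F) (ht : t ≠ 0) (c : F) : (dia t ht : SL) * upp c = upp (t * t * c) * dia t ht := by
  apply Subtype.ext
  simp only [Matrix.SpecialLinearGroup.coe_mul]
  ext i j
  fin_cases i <;> fin_cases j <;> simp [dia, upp, Matrix.mul_apply, Fin.sum_univ_two]
  rw [mul_assoc, mul_assoc t, mul_comm c, ← mul_assoc t t⁻¹, mul_inv_cancel₀ ht, one_mul]

/-- The Weyl element. -/
def weyl : SL := ⟨!![0, 1; -1, 0], by simp [Matrix.det_fin_two]⟩

theorem top_le_of_upp_weyl (L : Subgroup SL) (hu : ∀ c : F, (upp c : SL) ∈ L) (hw : (weyl : SL) ∈ L) :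
    ∀ M : SL, M ∈ L := by
  have hlow : ∀ c : F, (low c : SL) ∈ L := fun c => by
    have h : (low c : SL) = weyl * upp (-c) * weyl⁻¹ := by
      rw [eq_mul_inv_iff_mul_eq]
      apply Subtype.ext
      simp only [Matrix.SpecialLinearGroup.coe_mul]
      ext i j; fin_cases i <;> fin_cases j <;> simp [low, upp, weyl, Matrix.mul_apply, Fin.sum_univ_two]
    rw [h]; exact mul_mem (mul_mem hw (hu _)) (inv_mem hw)
  have key : ∀ M : SL, (M : Matrix (Fin 2) (Fin 2) F) 1 0 ≠ 0 → M ∈ L := by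
    intro M hc
    set a := (M : Matrix (Fin 2) (Fin 2) F) 0 0 with ha
    set b := (M : Matrix (Fin 2) (Fin 2) F) 0 1 with hb
    set c := (M : Matrix (Fin 2) (Fin 2) F) 1 0 with hc'
    set d := (M : Matrix (Fin 2) (Fin 2) F) 1 1 with hd
    have hdet : a * d - b * c = 1 := by
      have := M.2; rwa [Matrix.det_fin_two, ← ha, ← hb, ← hc', ← hd] at this
    have h : M = upp ((a - 1) / c) * low c * upp ((d - 1) / c) := by
      apply Subtype.ext
      simp only [Matrix.SpecialLinearGroup.coe_mul]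
      have e00 : a = 1 + (a - 1) / c * c := by rw [div_mul_cancel₀ _ hc]; ring
      have e11 : d = c * ((d - 1) / c) + 1 := by rw [mul_div_cancel₀ _ hc]; ring
      have e01 : b = (1 + (a - 1) / c * c) * ((d - 1) / c) + (a - 1) / c := by
        rw [← e00]; field_simp; linear_combination (-1 : F) * hdet
      ext i j
      fin_cases i <;> fin_cases j <;>
        simp [upp, low, Matrix.mul_apply, Fin.sum_univ_two, ← ha, ← hb, ← hc', ← hd]
      · exact e00
      · exact e01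
      · exact e11
    rw [h]; exact mul_mem (mul_mem (hu _) (hlow _)) (hu _)
  intro M
  by_cases hc : (M : Matrix (Fin 2) (Fin 2) F) 1 0 = 0
  · have hd : (M : Matrix (Fin 2) (Fin 2) F) 1 1 ≠ 0 := fun hd => by
      have := M.2
      rw [Matrix.det_fin_two, hc, hd, mul_zero, mul_zero, sub_zero] at this
      exact zero_ne_one this
    have h2 : M * weyl ∈ L := key _ (by rw [Matrix.SpecialLinearGroup.coe_mul]; simp [weyl, Matrix.mul_apply, Fin.sum_univ_two, hd])
    simpa [mul_assoc] using mul_mem h2 (inv_mem hw)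
  · exact key M hc

end Matrices

variable {G : Type*} [Group G] [Finite G] {p : ℕ} [Fact p.Prime] {E : Subgroup G}

local notation:max "Qc" E:max => pCoreOf p E
local notation:max "Wc" E:max => omegaOneCenter p (pCoreOf p E)
local notation:max "Zc" E:max => omegaOneCenter p (pCoreOf p E) ⊓ Subgroup.centralizer (E : Set G)

namespace SLModel

variable {K U U₀ : Subgroup G} {F : Type} [Field F] [Fintype F]

theorem charP {n : ℕ} (hcard : Fintype.card F = p ^ n) : CharP F p := by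
  refine (CharP.charP_iff_prime_eq_zero (Fact.out : p.Prime)).2 ?_
  have h := FiniteField.cast_card_eq_zero F
  rw [hcard, Nat.cast_pow] at h
  rcases Nat.eq_zero_or_pos n with rfl | hn
  · rw [pow_zero] at h; exact absurd h one_ne_zero
  · exact (pow_eq_zero_iff (by omega)).1 h

theorem range_top (M : SLModel E K U U₀ F) (h4 : 4 ≤ Fintype.card F) : ∀ g, ∃ e, M.ρ e = g := fun g =>
  MonoidHom.mem_range.1 (by rw [M.range_eq, StSL.perfect_SL2 h4]; exact Subgroup.mem_top g)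

/-- The section in changed coordinates. -/
def twistSec (M : SLModel E K U U₀ F) (g : Matrix.SpecialLinearGroup (Fin 2) F) : Sec U U₀ (Fin 2 → F) where
  ψ :=
    { toFun := fun u => Multiplicative.ofAdd
        (((g⁻¹ : Matrix.SpecialLinearGroup (Fin 2) F) : Matrix (Fin 2) (Fin 2) F).mulVec
          (Multiplicative.toAdd (M.ψ u)))
      map_one' := by simp
      map_mul' := fun a b => by rw [← ofAdd_add, map_mul, toAdd_mul, Matrix.mulVec_add] }
  le := M.le
  surj := fun v => by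
    obtain ⟨u, hu⟩ := M.surj (Multiplicative.ofAdd
      ((g : Matrix (Fin 2) (Fin 2) F).mulVec (Multiplicative.toAdd v)))
    refine ⟨u, ?_⟩
    simp only [MonoidHom.coe_mk, OneHom.coe_mk, hu, toAdd_ofAdd, Matrix.mulVec_mulVec,
      ← Matrix.SpecialLinearGroup.coe_mul, inv_mul_cancel, Matrix.SpecialLinearGroup.coe_one,
      Matrix.one_mulVec, ofAdd_toAdd]
  ker := fun u => by
    rw [← M.ker u]
    simp only [MonoidHom.coe_mk, OneHom.coe_mk, ofAdd_eq_one]
    constructor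
    · intro h
      have h2 := congrArg ((g : Matrix (Fin 2) (Fin 2) F).mulVec) h
      rw [Matrix.mulVec_mulVec, ← Matrix.SpecialLinearGroup.coe_mul, mul_inv_cancel,
        Matrix.SpecialLinearGroup.coe_one, Matrix.one_mulVec, Matrix.mulVec_zero] at h2
      exact Multiplicative.toAdd.injective h2
    · intro h; rw [h, toAdd_one, Matrix.mulVec_zero]

theorem twistSec_val (M : SLModel E K U U₀ F) (g : Matrix.SpecialLinearGroup (Fin 2) F) {u : G} (hu : u ∈ U) :
    (M.twistSec g).val u = ((g⁻¹ : Matrix.SpecialLinearGroup (Fin 2) F) : Matrix (Fin 2) (Fin 2) F).mulVec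
      (M.toSec.val u) := by
  rw [Sec.val_eq _ ⟨u, hu⟩, M.toSec.val_eq ⟨u, hu⟩]; rfl

/-- Change of coordinates. -/
def twist (M : SLModel E K U U₀ F) (g : Matrix.SpecialLinearGroup (Fin 2) F) : SLModel E K U U₀ F where
  toSec := M.twistSec g
  ρ := (MulAut.conj g⁻¹).toMonoidHom.comp M.ρ
  range_eq := by
    rw [MonoidHom.range_comp, M.range_eq, commutator_def, Subgroup.map_commutator,
      Subgroup.map_top_of_surjective _ (MulAut.conj g⁻¹).surjective]
  le_nn := M.le_nn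
  ker_eq := fun e => by
    rw [← M.ker_eq e]
    exact (MulAut.conj g⁻¹).map_eq_one_iff
  ind_eq := fun e v => by
    obtain ⟨u, hu, rfl⟩ := (M.twistSec g).exists_val v
    rw [(M.twistSec g).ind_val (M.le_nn e.2) hu, twistSec_val M g hu,
      twistSec_val M g (conj_mem_normalizer (M.le_nn e.2).1 hu), ← M.toSec.ind_val (M.le_nn e.2) hu, M.ind_eq]
    simp only [MonoidHom.coe_comp, Function.comp_apply, MulEquiv.coe_toMonoidHom, MulAut.conj_apply, inv_inv,
      Matrix.mulVec_mulVec, ← Matrix.SpecialLinearGroup.coe_mul, mul_assoc, mul_inv_cancel, mul_one]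

/-- In suitable coordinates a maximal `p`-subgroup is upper unitriangular. -/
theorem normal_form (M : SLModel E K U U₀ F) (h4 : 4 ≤ Fintype.card F) {n : ℕ} (hcard : Fintype.card F = p ^ n)
    (hK : IsPGroup p K) (S : Subgroup G) (hS : IsPGroup p S) (hSE : S ≤ E)
    (hmax : ∀ S' : Subgroup G, S ≤ S' → S' ≤ E → IsPGroup p S' → S' ≤ S) :
    ∃ N : SLModel E K U U₀ F, ∀ e : ↥E, (e : G) ∈ S ↔ ∃ c, N.ρ e = upp c := by
  classical
  have hc := charP (F := F) hcard
  letI : MulAction ↥S (Fin 2 → F) :=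
    { smul := fun s v => ((M.ρ ⟨s, hSE s.2⟩ : Matrix.SpecialLinearGroup (Fin 2) F) :
        Matrix (Fin 2) (Fin 2) F).mulVec v
      mul_smul := fun s t v => by
        show ((M.ρ ⟨((s * t : ↥S) : G), _⟩ : Matrix.SpecialLinearGroup (Fin 2) F) : Matrix (Fin 2) (Fin 2) F).mulVec v =
          ((M.ρ ⟨s, hSE s.2⟩ : Matrix.SpecialLinearGroup (Fin 2) F) : Matrix (Fin 2) (Fin 2) F).mulVec
            (((M.ρ ⟨t, hSE t.2⟩ : Matrix.SpecialLinearGroup (Fin 2) F) : Matrix (Fin 2) (Fin 2) F).mulVec v)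
        rw [Matrix.mulVec_mulVec, ← Matrix.SpecialLinearGroup.coe_mul, ← map_mul]
        rfl
      one_smul := fun v => by
        show ((M.ρ ⟨((1 : ↥S) : G), _⟩ : Matrix.SpecialLinearGroup (Fin 2) F) : Matrix (Fin 2) (Fin 2) F).mulVec v = v
        rw [show (⟨((1 : ↥S) : G), hSE (1 : ↥S).2⟩ : ↥E) = 1 from rfl, map_one,
          Matrix.SpecialLinearGroup.coe_one, Matrix.one_mulVec] }
  obtain ⟨v, hv, hv0⟩ : ∃ v ∈ MulAction.fixedPoints ↥S (Fin 2 → F), (0 : Fin 2 → F) ≠ v := by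
    refine hS.exists_fixed_point_of_prime_dvd_card_of_fixed_point _ ?_ (fun s => Matrix.mulVec_zero _)
    rw [Nat.card_fun, Nat.card_eq_fintype_card (α := F), hcard, Nat.card_eq_fintype_card, Fintype.card_fin, ← pow_mul]
    refine dvd_pow_self p ?_
    rintro h
    have : n = 0 := by omega
    rw [this, pow_zero] at hcard
    omega
  obtain ⟨g, hg⟩ := exists_move_to v hv0.symm
  let N := M.twist g
  refine ⟨N, fun e => ⟨fun he => exists_upp ?_, ?_⟩⟩
  · have h : ((M.ρ e : Matrix.SpecialLinearGroup (Fin 2) F) : Matrix (Fin 2) (Fin 2) F).mulVec v = v :=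
      hv ⟨e, he⟩
    show ((g⁻¹ * M.ρ e * g⁻¹⁻¹ : Matrix.SpecialLinearGroup (Fin 2) F) : Matrix (Fin 2) (Fin 2) F).mulVec ![1, 0] = _
    rw [inv_inv, Matrix.SpecialLinearGroup.coe_mul, ← Matrix.mulVec_mulVec, hg,
      Matrix.SpecialLinearGroup.coe_mul, ← Matrix.mulVec_mulVec, h, ← hg, Matrix.mulVec_mulVec,
      ← Matrix.SpecialLinearGroup.coe_mul, inv_mul_cancel, Matrix.SpecialLinearGroup.coe_one, Matrix.one_mulVec]
  · intro he
    let P : Subgroup G :=
      { carrier := {x | ∃ h : x ∈ E, ∃ c, N.ρ ⟨x, h⟩ = upp c}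
        one_mem' := ⟨one_mem _, 0, by rw [upp_zero]; exact map_one N.ρ⟩
        mul_mem' := fun {a b} ⟨ha, c, hc⟩ ⟨hb, d, hd⟩ =>
          ⟨mul_mem ha hb, c + d, by
            rw [← upp_mul, ← hc, ← hd, ← map_mul]; rfl⟩
        inv_mem' := fun {a} ⟨ha, c, hc⟩ => ⟨inv_mem ha, -c, by
          rw [← upp_inv, ← hc, ← map_inv]; rfl⟩ }
    have hP : IsPGroup p P := by
      rintro ⟨x, hx, c, hxc⟩
      have h1 : (⟨x, hx⟩ : ↥E) ^ p ∈ N.ρ.ker := by
        rw [MonoidHom.mem_ker, map_pow, hxc, upp_pow, CharP.cast_eq_zero, zero_mul, upp_zero]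
      obtain ⟨k, hk⟩ := hK ⟨x ^ p, (N.ker_eq _).1 h1⟩
      refine ⟨k + 1, Subtype.ext ?_⟩
      have h2 : (x ^ p) ^ p ^ k = 1 := congrArg Subtype.val hk
      rw [← pow_mul] at h2
      rw [SubmonoidClass.coe_pow, pow_succ', h2]
      rfl
    refine hmax P (fun x hx => ⟨hSE hx, exists_upp ?_⟩) (fun x hx => hx.1) hP ⟨e.2, he⟩
    have h : ((M.ρ ⟨x, hSE hx⟩ : Matrix.SpecialLinearGroup (Fin 2) F) : Matrix (Fin 2) (Fin 2) F).mulVec v = v :=
      hv ⟨x, hx⟩
    show ((g⁻¹ * M.ρ ⟨x, hSE hx⟩ * g⁻¹⁻¹ : Matrix.SpecialLinearGroup (Fin 2) F) : Matrix (Fin 2) (Fin 2) F).mulVec ![1, 0] = _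
    rw [inv_inv, Matrix.SpecialLinearGroup.coe_mul, ← Matrix.mulVec_mulVec, hg,
      Matrix.SpecialLinearGroup.coe_mul, ← Matrix.mulVec_mulVec, h, ← hg, Matrix.mulVec_mulVec,
      ← Matrix.SpecialLinearGroup.coe_mul, inv_mul_cancel, Matrix.SpecialLinearGroup.coe_one, Matrix.one_mulVec]

theorem le_commutator (M : SLModel E K U U₀ F) (h4 : 4 ≤ Fintype.card F) (hK : ⁅K, E⁆ = K) (hKE : K ≤ E) :
    E ≤ ⁅E, E⁆ := by
  intro x hx
  have h : M.ρ ⟨x, hx⟩ ∈ (commutator ↥E).map M.ρ := by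
    rw [commutator_def, Subgroup.map_commutator, ← MonoidHom.range_eq_map, M.range_eq, StSL.perfect_SL2 h4,
      ← commutator_def, StSL.perfect_SL2 h4]
    exact Subgroup.mem_top _
  obtain ⟨y, hy, hxy⟩ := h
  have h1 : (y : G) ∈ ⁅E, E⁆ := by
    rw [← Subgroup.map_subtype_commutator]; exact ⟨y, hy, rfl⟩
  have h2 : y⁻¹ * ⟨x, hx⟩ ∈ M.ρ.ker := by rw [MonoidHom.mem_ker, map_mul, map_inv, hxy, inv_mul_cancel]
  have h3 : (y : G)⁻¹ * x ∈ K := (M.ker_eq _).1 h2
  rw [← hK] at h3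
  simpa using mul_mem h1 (Subgroup.commutator_mono hKE le_rfl h3)

end SLModel

/-- Some element of `p'`-order normalizing a Sylow subgroup of the block moves `x`. -/
theorem torus_moves {F : Type} [Field F] [Fintype F] (N : SLModel E (Qc E) (Wc E) (Zc E) F)
    (h4 : 4 ≤ Fintype.card F) (hres : pResidualOf p E = E) {S : Subgroup G} (hSE : S ≤ E)
    (hS : ∀ e : ↥E, (e : G) ∈ S ↔ ∃ c, N.ρ e = upp c) {x : G}
    (hxS : ∀ s ∈ S, s * x = x * s) (hxW : ∀ e ∈ E, e * x * e⁻¹ * x⁻¹ ∈ Wc E) (hx : ∃ e ∈ E, e * x ≠ x * e) :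
    ∃ h ∈ E, h ∈ Subgroup.normalizer (S : Set G) ∧ h * x ≠ x * h := by
  classical
  by_contra hcon
  simp only [not_exists, not_and, not_not] at hcon
  obtain ⟨t, ht⟩ : ∃ t : F, t ≠ 0 ∧ t ≠ 1 := by
    by_contra h
    push Not at h
    have hle : (Finset.univ : Finset F) ⊆ {0, 1} := fun a _ => by
      by_cases ha : a = 0
      · simp [ha]
      · simp [h a ha]
    have h' := (Finset.card_le_card hle).trans Finset.card_le_two
    rw [Finset.card_univ] at h'
    omega
  have hnorm : ∀ (s : F) (hs : s ≠ 0) (e : ↥E), N.ρ e = dia s hs → (e : G) ∈ Subgroup.normalizer (S : Set G) := by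
    intro s hs e he
    refine mem_normalizer_of_map_le fun z hz => ?_
    obtain ⟨c, hc⟩ := (hS ⟨z, hSE hz⟩).1 hz
    refine (hS (e * ⟨z, hSE hz⟩ * e⁻¹)).2 ⟨s * s * c, ?_⟩
    rw [map_mul, map_mul, map_inv, he, hc, dia_conj_upp, mul_inv_cancel_right]
  have hfixd : ∀ (s : F) (hs : s ≠ 0) (e : ↥E), N.ρ e = dia s hs → (e : G) * x = x * e :=
    fun s hs e he => hcon e e.2 (hnorm s hs e he)
  obtain ⟨w, hw⟩ := N.range_top h4 weyl
  obtain ⟨a, ha⟩ := N.range_top h4 (dia t ht.1)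
  obtain ⟨a', ha'⟩ : ∃ a' : ↥E, a' = w * a * w⁻¹ := ⟨_, rfl⟩
  have hta : N.ρ a' = dia t⁻¹ (inv_ne_zero ht.1) := by
    rw [ha', map_mul, map_mul, map_inv, hw, ha, mul_inv_eq_iff_eq_mul]
    apply Subtype.ext
    simp only [Matrix.SpecialLinearGroup.coe_mul]
    ext i j; fin_cases i <;> fin_cases j <;> simp [dia, weyl, Matrix.mul_apply, Fin.sum_univ_two]
  let L : Subgroup G :=
    { carrier := {e | e ∈ E ∧ e * x * e⁻¹ * x⁻¹ ∈ Zc E}
      one_mem' := ⟨one_mem _, by simp⟩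
      mul_mem' := fun {a b} ha hb => ⟨mul_mem ha.1 hb.1, by
        rw [show a * b * x * (a * b)⁻¹ * x⁻¹ = (a * (b * x * b⁻¹ * x⁻¹) * a⁻¹) * (a * x * a⁻¹ * x⁻¹) by group,
          Subgroup.mem_centralizer_iff.1 hb.2.2 a ha.1, mul_inv_cancel_right]
        exact mul_mem hb.2 ha.2⟩
      inv_mem' := fun {a} ha => ⟨inv_mem ha.1, by
        rw [show a⁻¹ * x * a⁻¹⁻¹ * x⁻¹ = a⁻¹ * (a * x * a⁻¹ * x⁻¹)⁻¹ * a by group,
          Subgroup.mem_centralizer_iff.1 (inv_mem ha.2).2 a⁻¹ (inv_mem ha.1), inv_mul_cancel_right]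
        exact inv_mem ha.2⟩ }
  have hS' : ∀ s ∈ S, s ∈ L := fun s hs => ⟨hSE hs, by
    rw [hxS s hs, mul_inv_cancel_right, mul_inv_cancel]; exact one_mem _⟩
  have hwL : (w : G) ∈ L := by
    set d := (w : G) * x * (w : G)⁻¹ * x⁻¹ with hd
    have hdW : d ∈ Wc E := hxW w w.2
    have hax := hfixd t ht.1 a ha
    have ha'x := hfixd t⁻¹ (inv_ne_zero ht.1) a' hta
    have hfix : (a' : G) * d * (a' : G)⁻¹ = d := by
      have h1 : (a' : G) * ((w : G) * x * (w : G)⁻¹) * (a' : G)⁻¹ = (w : G) * x * (w : G)⁻¹ := by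
        rw [ha']
        simp only [Subgroup.coe_mul, Subgroup.coe_inv]
        calc (w : G) * a * (w : G)⁻¹ * ((w : G) * x * (w : G)⁻¹) * ((w : G) * a * (w : G)⁻¹)⁻¹
            = (w : G) * ((a : G) * x * (a : G)⁻¹) * (w : G)⁻¹ := by group
          _ = _ := by rw [hax, mul_inv_cancel_right]
      have h2 : (a' : G) * x⁻¹ * (a' : G)⁻¹ = x⁻¹ := by
        rw [(show Commute (a' : G) x from ha'x).inv_right.eq, mul_inv_cancel_right]
      calc (a' : G) * d * (a' : G)⁻¹ =
          ((a' : G) * ((w : G) * x * (w : G)⁻¹) * (a' : G)⁻¹) * ((a' : G) * x⁻¹ * (a' : G)⁻¹) := by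
            rw [hd]; group
        _ = d := by rw [h1, h2]
    refine ⟨w.2, (N.toSec.val_eq_zero hdW).1 ?_⟩
    have h3 := N.ind_eq a' (N.toSec.val d)
    rw [N.toSec.ind_val (N.le_nn a'.2) hdW, hfix, hta] at h3
    have e0 := congrFun h3 0
    have e1 := congrFun h3 1
    simp [dia, Matrix.mulVec, dotProduct, Fin.sum_univ_two] at e0 e1
    have ht' : t⁻¹ ≠ 1 := fun h => ht.2 (inv_eq_one.1 h)
    ext i
    fin_cases i
    · by_contra h
      exact ht' ((mul_eq_right₀ h).1 e0.symm)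
    · by_contra h
      exact ht.2 ((mul_eq_right₀ h).1 e1.symm)
  have hall : ∀ e : ↥E, (e : G) ∈ L := by
    have hsurj := top_le_of_upp_weyl ((L.subgroupOf E).map N.ρ)
      (fun c => by
        obtain ⟨e, he⟩ := N.range_top h4 (upp c)
        exact ⟨e, hS' _ ((hS e).2 ⟨c, he⟩), he⟩) ⟨w, hwL, hw⟩
    intro e
    obtain ⟨y, hy, hye⟩ := hsurj (N.ρ e)
    have h : N.ρ (y⁻¹ * e) = N.ρ 1 := by rw [map_mul, map_inv, hye, inv_mul_cancel, map_one]
    have h2 : (((y⁻¹ * e : ↥E)) : G) ∈ L := hS' _ ((hS _).2 ⟨0, by rw [h, map_one, upp_zero]⟩)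
    simpa using mul_mem (show (y : G) ∈ L from hy) h2
  obtain ⟨e, he, hne⟩ := hx
  have hle : E ≤ Subgroup.centralizer {x} := le_of_coprime hres fun y hy hc => by
    rw [Subgroup.mem_centralizer_singleton_iff]
    have hz := (hall ⟨y, hy⟩).2
    have h1 := eq_one_of_translation (y := y) (d := y * x * y⁻¹ * x⁻¹) (r := x) hc
      (by rw [Subgroup.mem_centralizer_iff.1 hz.2 y hy, mul_inv_cancel_right])
      (omegaOneCenter_pow p _ hz.1) (by group)
    exact (mul_inv_eq_iff_eq_mul.1 (mul_inv_eq_one.1 h1))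
  exact hne (Subgroup.mem_centralizer_singleton_iff.1 (hle he))

end CfsgLib.BBlock
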